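import Mathlib

/-!
# The maximal parabolic `3^3:SL(3,3)` inside `SL(4,3)`
-/

set_option autoImplicit false
set_option maxRecDepth 100000
set_option linter.style.haveILetI false

namespace CfsgLib.L43

open Matrix

/-- `SL(4,3)`. -/
abbrev SL4 := Matrix.SpecialLinearGroup (Fin 4) (ZMod 3)

/-- `4 × 4` matrices over the field with three elements. -/
abbrev M4 := Matrix (Fin 4) (Fin 4) (ZMod 3)

/-- A transvection. -/
def xm (i j : Fin 4) (h : i ≠ j) (c : ZMod 3) : SL4 :=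
  ⟨Matrix.transvection i j c, Matrix.det_transvection_of_ne i j h c⟩

theorem xm_add (i j : Fin 4) (h : i ≠ j) (c d : ZMod 3) : xm i j h c * xm i j h d = xm i j h (c + d) :=
  Subtype.ext (Matrix.transvection_mul_transvection_same i j h c d)

/-- The stabiliser of the first coordinate vector. -/
def Pv : Subgroup SL4 where
  carrier := {g | g.1 *ᵥ Pi.single 0 1 = Pi.single 0 1}
  one_mem' := by simp only [Set.mem_setOf_eq, Matrix.SpecialLinearGroup.coe_one, Matrix.one_mulVec]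
  mul_mem' := fun {a b} ha hb => by
    show (a.1 * b.1) *ᵥ _ = _
    rw [← Matrix.mulVec_mulVec, hb, ha]
  inv_mem' := fun {a} ha => by
    show (a⁻¹).1 *ᵥ _ = _
    conv_lhs => rw [← (ha : a.1 *ᵥ Pi.single 0 1 = Pi.single 0 1)]
    rw [Matrix.mulVec_mulVec, ← Matrix.SpecialLinearGroup.coe_mul, inv_mul_cancel,
      Matrix.SpecialLinearGroup.coe_one, Matrix.one_mulVec]

theorem mem_Pv {g : SL4} : g ∈ Pv ↔ ∀ i, g.1 i 0 = if i = 0 then 1 else 0 := by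
  show g.1 *ᵥ Pi.single 0 1 = Pi.single 0 1 ↔ _
  rw [Matrix.mulVec_single_one, funext_iff]
  simp [Pi.single_apply]

/-- The shape of the unipotent radical of the stabiliser of a point and a hyperplane. -/
abbrev InQ (g : M4) : Prop :=
  g 0 0 = 1 ∧ g 1 1 = 1 ∧ g 2 2 = 1 ∧ g 3 3 = 1 ∧ g 1 0 = 0 ∧ g 2 0 = 0 ∧ g 3 0 = 0 ∧ g 2 1 = 0 ∧
    g 3 1 = 0 ∧ g 3 2 = 0 ∧ g 1 2 = 0

/-- The transvections with the given centre. -/
abbrev InU (g : M4) : Prop := InQ g ∧ g 1 3 = 0 ∧ g 2 3 = 0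

/-- The transvections with the given axis. -/
abbrev InV (g : M4) : Prop := InQ g ∧ g 0 1 = 0 ∧ g 0 2 = 0

/-- Transvections of either kind. -/
abbrev Pure (g : M4) : Prop := InU g ∨ InV g

/-- The unipotent radical of the stabiliser of a line. -/
abbrev InJ (g : M4) : Prop :=
  g 0 0 = 1 ∧ g 1 1 = 1 ∧ g 2 2 = 1 ∧ g 3 3 = 1 ∧ g 1 0 = 0 ∧ g 2 0 = 0 ∧ g 3 0 = 0 ∧ g 2 1 = 0 ∧
    g 3 1 = 0 ∧ g 3 2 = 0 ∧ g 0 1 = 0 ∧ g 2 3 = 0

/-- Upper unitriangular. -/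
abbrev InS (g : M4) : Prop :=
  g 0 0 = 1 ∧ g 1 1 = 1 ∧ g 2 2 = 1 ∧ g 3 3 = 1 ∧ g 1 0 = 0 ∧ g 2 0 = 0 ∧ g 3 0 = 0 ∧ g 2 1 = 0 ∧
    g 3 1 = 0 ∧ g 3 2 = 0

theorem InS.mul {a b : M4} (ha : InS a) (hb : InS b) : InS (a * b) ∧
    (a * b) 0 1 = a 0 1 + b 0 1 ∧ (a * b) 1 2 = a 1 2 + b 1 2 ∧ (a * b) 2 3 = a 2 3 + b 2 3 ∧
    (a * b) 0 2 = a 0 2 + b 0 2 + a 0 1 * b 1 2 ∧ (a * b) 1 3 = a 1 3 + b 1 3 + a 1 2 * b 2 3 ∧
    (a * b) 0 3 = a 0 3 + b 0 3 + a 0 1 * b 1 3 + a 0 2 * b 2 3 := by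
  obtain ⟨a0, a1, a2, a3, a4, a5, a6, a7, a8, a9⟩ := ha
  obtain ⟨b0, b1, b2, b3, b4, b5, b6, b7, b8, b9⟩ := hb
  simp only [InS, Matrix.mul_apply, Fin.sum_univ_four, a0, a1, a2, a3, a4, a5, a6, a7, a8, a9,
    b0, b1, b2, b3, b4, b5, b6, b7, b8, b9]
  refine ⟨⟨?_, ?_, ?_, ?_, ?_, ?_, ?_, ?_, ?_, ?_⟩, ?_, ?_, ?_, ?_, ?_, ?_⟩ <;> ring

theorem subgroup_inv {p : M4 → Prop} (h1 : p 1) (hm : ∀ {a b : M4}, p a → p b → p (a * b))
    {g : Pv} (hg : p (g : SL4).1) : p ((g⁻¹ : Pv) : SL4).1 := by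
  have hpow : ∀ n : ℕ, p ((g ^ n : Pv) : SL4).1 := by
    intro n
    induction n with
    | zero => exact h1
    | succ n ih => rw [pow_succ]; exact hm ih hg
  obtain ⟨n, hn⟩ := (mem_powers_iff_mem_zpowers.2 (inv_mem (Subgroup.mem_zpowers g)) :
    g⁻¹ ∈ Submonoid.powers g)
  simpa [← hn] using hpow n

/-- Upper unitriangular matrices. -/
def Sm : Subgroup Pv where
  carrier := {g | InS (g : SL4).1}
  one_mem' := by decide +kernel
  mul_mem' := fun ha hb => (InS.mul ha hb).1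
  inv_mem' := subgroup_inv (p := fun m => InS m) (by decide +kernel) fun ha hb => (InS.mul ha hb).1

theorem InQ.inS {a : M4} (h : InQ a) : InS a := by
  obtain ⟨a0, a1, a2, a3, a4, a5, a6, a7, a8, a9, -⟩ := h
  exact ⟨a0, a1, a2, a3, a4, a5, a6, a7, a8, a9⟩

theorem InJ.inS {a : M4} (h : InJ a) : InS a := by
  obtain ⟨a0, a1, a2, a3, a4, a5, a6, a7, a8, a9, -, -⟩ := h
  exact ⟨a0, a1, a2, a3, a4, a5, a6, a7, a8, a9⟩

theorem InQ.mul {a b : M4} (ha : InQ a) (hb : InQ b) : InQ (a * b) := by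
  obtain ⟨⟨a0, a1, a2, a3, a4, a5, a6, a7, a8, a9⟩, -, h, -, -, -, -⟩ := InS.mul ha.inS hb.inS
  exact ⟨a0, a1, a2, a3, a4, a5, a6, a7, a8, a9, by rw [h, ha.2.2.2.2.2.2.2.2.2.2, hb.2.2.2.2.2.2.2.2.2.2, add_zero]⟩

theorem InU.mul {a b : M4} (ha : InU a) (hb : InU b) : InU (a * b) := by
  obtain ⟨-, -, -, h23, -, h13, -⟩ := InS.mul ha.1.inS hb.1.inS
  refine ⟨ha.1.mul hb.1, ?_, ?_⟩
  · rw [h13, ha.2.1, hb.2.1, hb.2.2, mul_zero, add_zero, add_zero]
  · rw [h23, ha.2.2, hb.2.2, add_zero]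

theorem InV.mul {a b : M4} (ha : InV a) (hb : InV b) : InV (a * b) := by
  obtain ⟨-, h01, -, -, h02, -, -⟩ := InS.mul ha.1.inS hb.1.inS
  refine ⟨ha.1.mul hb.1, ?_, ?_⟩
  · rw [h01, ha.2.1, hb.2.1, add_zero]
  · rw [h02, ha.2.2, hb.2.2, ha.2.1, zero_mul, add_zero, add_zero]

theorem InJ.mul {a b : M4} (ha : InJ a) (hb : InJ b) : InJ (a * b) := by
  obtain ⟨⟨a0, a1, a2, a3, a4, a5, a6, a7, a8, a9⟩, h01, -, h23, -, -, -⟩ := InS.mul ha.inS hb.inS
  exact ⟨a0, a1, a2, a3, a4, a5, a6, a7, a8, a9,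
    by rw [h01, ha.2.2.2.2.2.2.2.2.2.2.1, hb.2.2.2.2.2.2.2.2.2.2.1, add_zero],
    by rw [h23, ha.2.2.2.2.2.2.2.2.2.2.2, hb.2.2.2.2.2.2.2.2.2.2.2, add_zero]⟩

/-- The radical of the stabiliser of a point and a hyperplane. -/
def Qm : Subgroup Pv where
  carrier := {g | InQ (g : SL4).1}
  one_mem' := by decide +kernel
  mul_mem' := InQ.mul
  inv_mem' := subgroup_inv (p := fun m => InQ m) (by decide +kernel) InQ.mul

/-- The transvections with the given centre. -/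
def Um : Subgroup Pv where
  carrier := {g | InU (g : SL4).1}
  one_mem' := by decide +kernel
  mul_mem' := InU.mul
  inv_mem' := subgroup_inv (p := fun m => InU m) (by decide +kernel) InU.mul

/-- The transvections with the given axis. -/
def Vm : Subgroup Pv where
  carrier := {g | InV (g : SL4).1}
  one_mem' := by decide +kernel
  mul_mem' := InV.mul
  inv_mem' := subgroup_inv (p := fun m => InV m) (by decide +kernel) InV.mul

/-- The radical of the stabiliser of a line. -/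
def Jm : Subgroup Pv where
  carrier := {g | InJ (g : SL4).1}
  one_mem' := by decide +kernel
  mul_mem' := InJ.mul
  inv_mem' := subgroup_inv (p := fun m => InJ m) (by decide +kernel) InJ.mul

/-- The central transvection. -/
def zm : Pv := ⟨xm 0 3 (by decide) 1, mem_Pv.2 (by decide +kernel)⟩

/-- The transvection with the given axis commuting with `zm`. -/
def fm : Pv := ⟨xm 1 3 (by decide) 1, mem_Pv.2 (by decide +kernel)⟩

/-- The transvection of the Levi complement. -/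
def um : Pv := ⟨xm 1 2 (by decide) 1, mem_Pv.2 (by decide +kernel)⟩

/-- The elements of rank two in the radical. -/
def wm (c : ZMod 3) : Pv := ⟨xm 0 2 (by decide) 1 * xm 1 3 (by decide) c, mem_Pv.2 (by revert c; decide +kernel)⟩

/-- The regular unipotent element of the Levi complement. -/
def regm : Pv :=
  ⟨xm 1 2 (by decide) 1 * xm 2 3 (by decide) 1, mem_Pv.2 (by decide +kernel)⟩

/-- The involution fixing `zm`. -/
def tm : Pv := ⟨⟨Matrix.diagonal ![1, -1, -1, 1], by decide +kernel⟩, mem_Pv.2 (by decide +kernel)⟩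

end CfsgLib.L43
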