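import Cfsg.Agent.LFourThree.AnisoModel

/-!
# The abelian subgroup of order 81: no signalizers; normalisers of its anisotropic elements

`Emb.J_free`: a subgroup of order prime to three normalised by `J` is trivial.
`Emb.norm_wm`: the normaliser of an anisotropic subgroup of order three of `J ∩ Q` normalises `J`.
Modulo that subgroup, the centraliser of the image of `z` is the one in `S₉` of three disjoint
three-cycles; `S₉` is impossible, since a three-cycle of blocks would give a conjugate of `z` in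
`Q` that is not pure.
-/

set_option autoImplicit false
set_option maxRecDepth 100000
set_option linter.style.haveILetI false
set_option linter.unusedSectionVars false

namespace CfsgLib.L43

open Subgroup CfsgLib.ThreeSymNine CfsgLib.AltNine

universe u

theorem zmod_three_cases : ∀ i : ZMod 3, i = 0 ∨ i = 1 ∨ i = 2 := by decide

namespace Emb

variable {G : Type u} [Group G] [Finite G] (E : Emb G)
include E

theorem commute_of_map {x y : Pv} (h : E.ψ x * E.ψ y = E.ψ y * E.ψ x) : x * y = y * x :=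
  E.inj (by rw [map_mul, map_mul, h])

theorem cent_preimage {g : G} (hg : g * E.z = E.z * g) : ∃ m : Pv, E.ψ m = g ∧ m * zm = zm * m := by
  obtain ⟨m, rfl⟩ := E.cent (mem_centralizer_singleton_iff.2 hg)
  exact ⟨m, rfl, E.commute_of_map hg⟩

theorem J_comm {x y : G} (hx : x ∈ E.J) (hy : y ∈ E.J) : x * y = y * x := by
  obtain ⟨a, ha, rfl⟩ := hx
  obtain ⟨b, hb, rfl⟩ := hy
  rw [← map_mul, ← map_mul, Jm_comm ha hb]

/-- A subgroup of the centraliser of `z` of order prime to three normalised by `J` is trivial. -/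
theorem free_cent {K : Subgroup G} (hK : (Nat.card K).Coprime 3)
    (hKz : ∀ k ∈ K, k * E.z = E.z * k) (hn : E.J ≤ normalizer (K : Set G)) : K = ⊥ := by
  have hone : ∀ y : Pv, y * y * y = 1 → E.ψ y ∈ K → y = 1 := by
    intro y hy hyK
    refine E.inj ((map_one E.ψ).symm ▸ ?_)
    have h3 : orderOf (E.ψ y) ∣ 3 := orderOf_dvd_of_pow_eq_one (by
      rw [pow_succ, pow_two, ← map_mul, ← map_mul, hy, map_one])
    exact orderOf_eq_one_iff.1 (Nat.eq_one_of_dvd_coprimes hK.symm h3 (Subgroup.orderOf_dvd_natCard K hyK))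
  refine (eq_bot_iff_forall K).2 fun k hk => ?_
  obtain ⟨m, rfl, hm⟩ := E.cent_preimage (hKz k hk)
  have key : ∀ x ∈ Jm, x ∈ Qm → m * x = x * m := by
    intro x hxJ hxQ
    have hcK : E.ψ (x * (m * x⁻¹ * m⁻¹)) ∈ K := by
      have h := mul_mem ((mem_normalizer_iff.1 (hn ⟨x, hxJ, rfl⟩) (E.ψ m)).1 hk) (inv_mem hk)
      simp only [← map_mul, ← map_inv] at h
      rwa [show x * (m * x⁻¹ * m⁻¹) = x * m * x⁻¹ * m⁻¹ by group]
    have hcQ : x * (m * x⁻¹ * m⁻¹) ∈ Qm := mul_mem hxQ (Qm_conj hm (inv_mem hxQ))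
    have h := hone _ (Qm_cube hcQ) hcK
    calc m * x = x * (m * x⁻¹ * m⁻¹) * (m * x) := by rw [h, one_mul]
      _ = x * m := by group
  have hmJ : m ∈ Jm := mem_Jm_of_commute hm (key _ (jmat_mem 1 0 0 0).1 ((jmat_mem 1 0 0 0).2 rfl))
    (key _ (jmat_mem 0 0 0 1).1 ((jmat_mem 0 0 0 1).2 rfl))
  rw [hone m (Jm_cube hmJ) hk, map_one]

/-- A subgroup of order prime to three normalised by `J` is trivial. -/
theorem J_free {K : Subgroup G} (hK : (Nat.card K).Coprime 3) (hn : E.J ≤ normalizer (K : Set G)) :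
    K = ⊥ := by
  classical
  let A : Subgroup G :=
    { carrier := {g | ∃ a b : ZMod 3, g = E.ψ (jmat a b 0 0)}
      one_mem' := ⟨0, 0, by rw [jmat_one, map_one]⟩
      mul_mem' := by
        rintro _ _ ⟨a, b, rfl⟩ ⟨a', b', rfl⟩
        exact ⟨a + a', b + b', by rw [← map_mul, jmat_mul, add_zero]⟩
      inv_mem' := by
        rintro _ ⟨a, b, rfl⟩
        refine ⟨-a, -b, inv_eq_of_mul_eq_one_right ?_⟩
        rw [← map_mul, jmat_mul, add_neg_cancel, add_neg_cancel, add_zero, jmat_one, map_one] }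
  have hAJ : A ≤ E.J := by
    rintro _ ⟨a, b, rfl⟩
    exact ⟨_, (jmat_mem a b 0 0).1, rfl⟩
  haveI : IsMulCommutative A := ⟨⟨fun x y => Subtype.ext (E.J_comm (hAJ x.2) (hAJ y.2))⟩⟩
  have hcard : Nat.card A = 9 := by
    have hf : Function.Bijective (fun p : ZMod 3 × ZMod 3 =>
        (⟨E.ψ (jmat p.1 p.2 0 0), p.1, p.2, rfl⟩ : A)) := by
      refine ⟨fun p q h => ?_, fun ⟨g, a, b, h⟩ => ⟨(a, b), Subtype.ext h.symm⟩⟩
      have h' := congrArg (fun g : Pv => (g : SL4).1) (E.inj (congrArg Subtype.val h))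
      simp only [jmat_val] at h'
      exact Prod.ext (congrFun (congrFun h' 0) 2) (congrFun (congrFun h' 0) 3)
    rw [← Nat.card_congr (Equiv.ofBijective _ hf)]
    simp
  have hnc : ¬ IsCyclic A := by
    intro hcy
    obtain ⟨g, hg⟩ := hcy.exists_generator
    have h1 : orderOf g = 9 := (orderOf_eq_card_of_forall_mem_zpowers hg).trans hcard
    have h2 : orderOf g ∣ 3 := orderOf_dvd_of_pow_eq_one (Subtype.ext (by
      obtain ⟨x, hx, hxg⟩ := hAJ g.2
      rw [SubgroupClass.coe_pow, ← hxg, pow_succ, pow_two, ← map_mul, ← map_mul, Jm_cube hx, map_one]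
      rfl))
    rw [h1] at h2
    exact absurd (Nat.le_of_dvd (by norm_num) h2) (by norm_num)
  have hcop : (Nat.card A).Coprime (Nat.card K) := by
    rw [hcard]
    exact Nat.Coprime.pow_left 2 hK.symm
  rw [← CfsgLib.CoprimeAct.generated_by_centralizers hnc (hAJ.trans hn) hcop]
  simp only [iSup_eq_bot]
  rintro _ ⟨⟨a, b, rfl⟩, hne⟩
  obtain ⟨n, hnz, hnJ⟩ := line_conj (a := a) (b := b) (by
    by_contra hcon
    push Not at hcon
    exact hne (by rw [hcon.1, hcon.2, jmat_one, map_one]))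
  set D := K ⊓ centralizer {E.ψ (jmat a b 0 0)}
  have hbot : D.map (MulAut.conj (E.ψ n)⁻¹).toMonoidHom = ⊥ := by
    refine E.free_cent ?_ ?_ ?_
    · rw [← Nat.card_congr (D.equivMapOfInjective _ (MulAut.conj _).injective).toEquiv]
      exact hK.coprime_dvd_left (card_dvd_of_le inf_le_left)
    · rintro _ ⟨k, hk, rfl⟩
      have hk' : Commute k (E.ψ n * E.z * (E.ψ n)⁻¹) := by
        rw [Emb.z, ← map_inv, ← map_mul, ← map_mul, hnz]
        exact mem_centralizer_singleton_iff.1 hk.2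
      simp only [MulEquiv.toMonoidHom_eq_coe, MonoidHom.coe_coe, MulAut.conj_apply, inv_inv]
      calc (E.ψ n)⁻¹ * k * E.ψ n * E.z = (E.ψ n)⁻¹ * (k * (E.ψ n * E.z * (E.ψ n)⁻¹)) * E.ψ n := by group
        _ = (E.ψ n)⁻¹ * ((E.ψ n * E.z * (E.ψ n)⁻¹) * k) * E.ψ n := by rw [hk'.eq]
        _ = E.z * ((E.ψ n)⁻¹ * k * E.ψ n) := by group
    · rintro _ ⟨x, hx, rfl⟩
      refine mem_normalizer_of_conj ?_
      rintro _ ⟨k, hk, rfl⟩
      refine ⟨E.ψ (n * x * n⁻¹) * k * (E.ψ (n * x * n⁻¹))⁻¹, ⟨?_, ?_⟩, ?_⟩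
      · exact (mem_normalizer_iff.1 (hn ⟨_, hnJ x hx, rfl⟩) k).1 hk.1
      · have h1 : Commute (E.ψ (n * x * n⁻¹)) (E.ψ (jmat a b 0 0)) :=
          E.J_comm ⟨_, hnJ x hx, rfl⟩ ⟨_, (jmat_mem a b 0 0).1, rfl⟩
        exact mem_centralizer_singleton_iff.2
          ((h1.mul_left (mem_centralizer_singleton_iff.1 hk.2)).mul_left h1.inv_left).eq
      · simp only [MulEquiv.toMonoidHom_eq_coe, MonoidHom.coe_coe, MulAut.conj_apply, inv_inv]
        simp only [map_mul, map_inv]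
        group
  exact (map_eq_bot_iff_of_injective D (MulAut.conj _).injective).1 hbot

/-- A conjugate of `z ^ c` inside the radical is pure. -/
theorem pure_zc {c : ZMod 3} (hc : c ≠ 0) {n : G} {x : Pv} (hx : x ∈ Qm)
    (h : n * E.ψ (jmat 0 c 0 0) * n⁻¹ = E.ψ x) : Pure (x : SL4).1 := by
  have hcases : ∀ c : ZMod 3, c ≠ 0 → c = 1 ∨ c = -1 := by decide
  obtain ⟨d, hd⟩ : ∃ d : Pv, d * zm = jmat 0 c 0 0 * d := by
    rcases hcases c hc with rfl | rfl
    · exact ⟨1, by rw [one_mul, mul_one, zm_jmat]⟩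
    · exact ⟨⟨⟨Matrix.diagonal ![1, -1, 1, -1], by decide +kernel⟩, mem_Pv.2 (by decide +kernel)⟩,
        by decide +kernel⟩
  refine E.pure (n * E.ψ d) x hx (h ▸ ?_)
  rw [← mul_inv_eq_iff_eq_mul.2 hd]
  simp only [map_mul, map_inv]
  group

/-- Preimage of an element commuting with `z ^ c`. -/
theorem cent_preimage_zc {c : ZMod 3} (hc : c ≠ 0) {n : G}
    (h : n * E.ψ (jmat 0 c 0 0) = E.ψ (jmat 0 c 0 0) * n) : ∃ m : Pv, E.ψ m = n ∧ m * zm = zm * m := by
  have e : ∀ c : ZMod 3, c ≠ 0 → jmat 0 c 0 0 ^ c.val = zm := by decide +kernel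
  refine E.cent_preimage ?_
  rw [Emb.z, ← e c hc, map_pow]
  exact (Commute.pow_right h _).eq

/-- The normaliser of an anisotropic element. -/
abbrev NW (c : ZMod 3) : Subgroup G := normalizer (zpowers (E.ψ (wm c)) : Set G)

/-- The anisotropic subgroup inside its normaliser. -/
abbrev WN (c : ZMod 3) : Subgroup (E.NW c) := (zpowers (E.ψ (wm c))).subgroupOf (E.NW c)

theorem mem_zp_iff {c : ZMod 3} {g : G} :
    g ∈ zpowers (E.ψ (wm c)) ↔ ∃ i, g = E.ψ (wpow c i) := by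
  constructor
  · rw [← MonoidHom.map_zpowers]
    rintro ⟨y, hy, rfl⟩
    obtain ⟨i, rfl⟩ := exists_wpow hy
    exact ⟨i, rfl⟩
  · rintro ⟨i, rfl⟩
    rw [← MonoidHom.map_zpowers]
    exact ⟨_, wpow_zp c i, rfl⟩

theorem map_mem_NW {c : ZMod 3} {m : Pv} (hm : m ∈ normalizer (zpowers (wm c) : Set Pv)) :
    E.ψ m ∈ E.NW c := by
  refine mem_normalizer_of_conj fun x hx => ?_
  rw [← MonoidHom.map_zpowers] at hx ⊢
  obtain ⟨y, hy, rfl⟩ := hx
  exact ⟨m * y * m⁻¹, (mem_normalizer_iff.1 hm y).1 hy, by rw [map_mul, map_mul, map_inv]⟩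

theorem mem_of_map_NW {c : ZMod 3} {m : Pv} (hm : E.ψ m ∈ E.NW c) :
    m ∈ normalizer (zpowers (wm c) : Set Pv) := by
  refine mem_normalizer_of_conj fun x hx => ?_
  have h := (mem_normalizer_iff.1 hm (E.ψ x)).1 (by rw [← MonoidHom.map_zpowers]; exact ⟨x, hx, rfl⟩)
  rw [← MonoidHom.map_zpowers] at h
  obtain ⟨y, hy, hyx⟩ := h
  rw [← map_inv, ← map_mul, ← map_mul] at hyx
  rwa [← E.inj hyx]

/-- From the model to the normaliser modulo the anisotropic subgroup. -/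
def toH (c : ZMod 3) : normalizer (zpowers (wm c) : Set Pv) →* E.NW c ⧸ E.WN c :=
  (QuotientGroup.mk' (E.WN c)).comp ((E.ψ.comp (Subgroup.subtype _)).codRestrict (E.NW c)
    fun m => E.map_mem_NW m.2)

theorem toH_mk {c : ZMod 3} (m : normalizer (zpowers (wm c) : Set Pv)) :
    E.toH c m = QuotientGroup.mk' (E.WN c) ⟨E.ψ m, E.map_mem_NW m.2⟩ := rfl

theorem toH_eq_one {c : ZMod 3} {m : normalizer (zpowers (wm c) : Set Pv)} :
    E.toH c m = 1 ↔ ∃ i, (m : Pv) = wpow c i := by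
  rw [toH_mk, QuotientGroup.mk'_apply, QuotientGroup.eq_one_iff, mem_subgroupOf, mem_zp_iff]
  exact ⟨fun ⟨i, h⟩ => ⟨i, E.inj h⟩, fun ⟨i, h⟩ => ⟨i, congrArg E.ψ h⟩⟩

theorem J_le_NW (c : ZMod 3) : E.J ≤ E.NW c := by
  rintro _ ⟨x, hx, rfl⟩
  exact E.map_mem_NW (Jm_norm hx)

/-- The image of a translation. -/
def trH (c : ZMod 3) (v : Fin 27) : E.NW c ⧸ E.WN c :=
  E.toH c ⟨tlm c v, Jm_norm (jmat_mem _ _ _ _).1⟩

/-- The image of a block permutation. -/
def blH {c : ZMod 3} (hc : c ≠ 0) (a : Fin 6) : E.NW c ⧸ E.WN c :=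
  E.toH c ⟨blm c a, blm_norm hc a⟩

theorem mk_mem_trH {c : ZMod 3} (hc : c ≠ 0) {x : G} (hx : x ∈ E.J) :
    ∃ v, QuotientGroup.mk' (E.WN c) ⟨x, E.J_le_NW c hx⟩ = E.trH c v := by
  obtain ⟨y, hy, rfl⟩ := hx
  obtain ⟨i, v, hd⟩ : ∃ i v, y = wpow c i * tlm c v :=
    ⟨_, _, (Jm_eq hy).trans (jmat_decomp c hc _ _ _ _)⟩
  refine ⟨v, (E.toH_mk ⟨y, Jm_norm hy⟩).symm.trans ?_⟩
  have e : (⟨y, Jm_norm hy⟩ : normalizer (zpowers (wm c) : Set Pv)) =
      ⟨_, Jm_norm (jmat_mem i 0 0 (c * i)).1⟩ * ⟨tlm c v, Jm_norm (jmat_mem _ _ _ _).1⟩ := Subtype.ext hd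
  rw [e, map_mul, E.toH_eq_one.2 ⟨i, rfl⟩, one_mul]
  rfl

set_option maxHeartbeats 1000000 in
/-- The normaliser modulo an anisotropic subgroup satisfies the hypotheses for `S₉`. -/
theorem exists_hyp {c : ZMod 3} (hc : c ≠ 0) :
    ∃ H : ThreeSymNine.Hyp (E.NW c ⧸ E.WN c), H.emb = E.trH c ∧ H.S = E.blH hc := by
  classical
  let mk := QuotientGroup.mk' (E.WN c)
  have hadd : ∀ u v, E.trH c (av u v) = E.trH c u * E.trH c v := fun u v => by
    rw [trH, trH, trH, ← map_mul]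
    exact congrArg _ (Subtype.ext (tlm_add c u v))
  have hSmul : ∀ a b, E.blH hc a * E.blH hc b = E.blH hc (pm a b) := fun a b => by
    rw [blH, blH, blH, ← map_mul]
    exact congrArg _ (Subtype.ext (blm_mul c hc a b))
  have hact : ∀ a v, E.blH hc a * E.trH c v * (E.blH hc a)⁻¹ = E.trH c (pa a v) := fun a v => by
    rw [mul_inv_eq_iff_eq_mul, trH, blH, trH, ← map_mul, ← map_mul]
    exact congrArg _ (Subtype.ext (blm_act c hc a v))
  have hindep : ∀ v a, E.trH c v * E.blH hc a = 1 → v = 0 ∧ a = 0 := fun v a h => by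
    rw [trH, blH, ← map_mul, toH_eq_one] at h
    obtain ⟨i, hi⟩ := h
    exact model_indep c hc v a i hi
  have h13m : E.ψ (jmat 0 c 0 0) ∈ E.NW c := E.map_mem_NW (Jm_norm (jmat_mem 0 c 0 0).1)
  have h13 : E.trH c 13 = mk ⟨E.ψ (jmat 0 c 0 0), h13m⟩ := by
    rw [trH, toH_mk]
    exact congrArg mk (Subtype.ext (congrArg E.ψ (tlm_thirteen c hc).1))
  have hcent : ∀ g, g * E.trH c 13 = E.trH c 13 * g → ∃ v a, g = E.trH c v * E.blH hc a := by
    intro g hg
    obtain ⟨n, rfl⟩ := QuotientGroup.mk'_surjective _ g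
    set y : E.NW c := ⟨E.ψ (jmat 0 c 0 0), h13m⟩
    rw [h13, ← mul_inv_eq_iff_eq_mul] at hg
    change mk n * mk y * (mk n)⁻¹ = mk y at hg
    rw [← map_mul, ← map_inv, ← map_mul, eq_comm] at hg
    obtain ⟨i, hi⟩ := E.mem_zp_iff.1 (mem_subgroupOf.1 (QuotientGroup.eq.1 hg))
    have hi' : (n : G) * E.ψ (jmat 0 c 0 0) * (n : G)⁻¹ = E.ψ (jmat i c 0 (c * i)) := by
      simp only [Subgroup.coe_mul, Subgroup.coe_inv, y, inv_mul_eq_iff_eq_mul] at hi
      rw [hi, ← map_mul, wpow, jmat_mul, zero_add, zero_add, add_zero, zero_add]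
    have hi0 : i = 0 := pure_zero c i hc (E.pure_zc hc ((jmat_mem _ _ _ _).2 rfl) hi')
    rw [hi0, mul_zero, mul_inv_eq_iff_eq_mul] at hi'
    obtain ⟨m, hm, hmz⟩ := E.cent_preimage_zc hc hi'
    have hmN : m ∈ normalizer (zpowers (wm c) : Set Pv) := E.mem_of_map_NW (hm ▸ n.2)
    obtain ⟨j, v, a, hd⟩ := stab_wm hc hmz hmN
    refine ⟨v, a, ?_⟩
    have e : (⟨m, hmN⟩ : normalizer (zpowers (wm c) : Set Pv)) =
        ⟨wpow c j, Jm_norm (jmat_mem _ _ _ _).1⟩ *
          (⟨tlm c v, Jm_norm (jmat_mem _ _ _ _).1⟩ * ⟨blm c a, blm_norm hc a⟩) := Subtype.ext hd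
    calc mk n = E.toH c ⟨m, hmN⟩ := congrArg mk (Subtype.ext hm.symm)
      _ = _ := by rw [e, map_mul, map_mul, E.toH_eq_one.2 ⟨j, rfl⟩, one_mul]; rfl
  refine ⟨{
    emb := E.trH c
    emb_add := hadd
    S := E.blH hc
    S_mul := hSmul
    S_act := hact
    indep := hindep
    cent := hcent
    sig := ?_ }, rfl, rfl⟩
  intro K hK hn
  -- the part of the preimage centralising the anisotropic element
  let w : E.NW c := ⟨E.ψ (wm c), le_normalizer (mem_zpowers _)⟩
  let Kc : Subgroup (E.NW c) := K.comap mk ⊓ centralizer {w}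
  let φ : Kc →* K := (mk.comp Kc.subtype).codRestrict K fun x => x.2.1
  have hφ : ∀ x, φ x = 1 ↔ ((x : E.NW c) : G) ∈ zpowers (E.ψ (wm c)) := fun x => by
    rw [← Subtype.coe_inj]
    show QuotientGroup.mk' (E.WN c) (x : E.NW c) = 1 ↔ _
    rw [QuotientGroup.mk'_apply, QuotientGroup.eq_one_iff, mem_subgroupOf]
  have hker : ∀ x, φ x = 1 → ∀ y : Kc, Commute x y := fun x hx y => by
    obtain ⟨i, hi⟩ := mem_zpowers_iff.1 ((hφ x).1 hx)
    refine Subtype.ext (Subtype.ext ?_)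
    show ((x : E.NW c) : G) * (y : E.NW c) = (y : E.NW c) * (x : E.NW c)
    rw [← hi]
    have h := congrArg Subtype.val (mem_centralizer_singleton_iff.1 y.2.2)
    exact ((show Commute ((y : E.NW c) : G) (E.ψ (wm c)) from h).symm.zpow_left i).eq
  have hker3 : ∀ x : Kc, φ x = 1 → x ^ 3 = 1 := fun x hx => by
    obtain ⟨i, hi⟩ := E.mem_zp_iff.1 ((hφ x).1 hx)
    refine Subtype.ext (Subtype.ext ?_)
    show ((x : E.NW c) : G) ^ 3 = 1
    rw [hi, pow_succ, pow_two, ← map_mul, ← map_mul, Jm_cube (g := wpow c i) (jmat_mem _ _ _ _).1, map_one]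
  have hidx : (φ.ker.index).Coprime 3 := by
    rw [Subgroup.index_ker]
    exact hK.coprime_dvd_left (card_subgroup_dvd_card _)
  have hpk : IsPGroup 3 φ.ker := fun x => ⟨1, Subtype.ext (hker3 x x.2)⟩
  haveI : Fact (Nat.Prime 3) := ⟨Nat.prime_three⟩
  obtain ⟨k0, hk0⟩ := IsPGroup.iff_card.1 hpk
  obtain ⟨L, hL⟩ := exists_right_complement'_of_coprime (N := φ.ker) (by
    rw [hk0]; exact Nat.Coprime.pow_left _ hidx.symm)
  have hLcop : (Nat.card L).Coprime 3 := by rw [← hL.symm.index_eq_card]; exact hidx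
  have hLmem : ∀ y : Kc, y ^ Nat.card L = 1 → y ∈ L := by
    intro y hy
    obtain ⟨⟨u, l⟩, hul⟩ := hL.2 y
    have hu : φ u = 1 := u.2
    change (u : Kc) * (l : Kc) = y at hul
    rw [← hul, (hker _ hu _).mul_pow,
      show (l : Kc) ^ Nat.card L = 1 from orderOf_dvd_iff_pow_eq_one.1 (L.orderOf_dvd_natCard l.2), mul_one] at hy
    have : (u : Kc) = 1 := orderOf_eq_one_iff.1 (Nat.eq_one_of_dvd_coprimes hLcop
      (orderOf_dvd_of_pow_eq_one hy) (orderOf_dvd_of_pow_eq_one (hker3 _ hu)))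
    rw [← hul, this, one_mul]
    exact l.2
  have hLbot : L = ⊥ := by
    let ι : Kc →* G := (E.NW c).subtype.comp Kc.subtype
    have hι : Function.Injective ι := Subtype.val_injective.comp Subtype.val_injective
    refine (map_eq_bot_iff_of_injective L hι).1 (E.J_free ?_ ?_)
    · rwa [← Nat.card_congr (L.equivMapOfInjective ι hι).toEquiv]
    · intro x hx
      refine mem_normalizer_of_conj ?_
      rintro _ ⟨y, hy, rfl⟩
      let xN : E.NW c := ⟨x, E.J_le_NW c hx⟩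
      obtain ⟨v, hv⟩ := E.mk_mem_trH hc hx
      have hxw : Commute xN w := Subtype.ext (E.J_comm hx ⟨_, wm_jmat c ▸ (jmat_mem 1 0 0 c).1, rfl⟩)
      have hmem : xN * (y : E.NW c) * xN⁻¹ ∈ Kc := by
        refine ⟨?_, mem_centralizer_singleton_iff.2
          ((hxw.mul_left (mem_centralizer_singleton_iff.1 y.2.2)).mul_left hxw.inv_left).eq⟩
        show mk (xN * (y : E.NW c) * xN⁻¹) ∈ K
        rw [map_mul, map_mul, map_inv, hv]
        exact hn v _ y.2.1
      refine ⟨⟨_, hmem⟩, hLmem _ (Subtype.ext ?_), rfl⟩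
      rw [SubgroupClass.coe_pow, conj_pow, ← SubgroupClass.coe_pow,
        orderOf_dvd_iff_pow_eq_one.1 (L.orderOf_dvd_natCard hy)]
      simp
  subst hLbot
  have hcentral : ∀ n : E.NW c, mk n ∈ K → Commute n w → mk n = 1 := by
    intro n hnK hnw
    have h : (⟨n, hnK, mem_centralizer_singleton_iff.2 hnw.eq⟩ : Kc) ∈ φ.ker := by
      rw [isComplement'_bot_right.1 hL]; exact mem_top _
    exact congrArg Subtype.val h
  -- elements inverting it
  have hinv : ∀ n : E.NW c, mk n ∈ K → mk n ≠ 1 → n * w * n⁻¹ = w⁻¹ := by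
    intro n hnK hne
    obtain ⟨i, hi⟩ := E.mem_zp_iff.1 ((mem_normalizer_iff.1 n.2 _).1 (mem_zpowers (E.ψ (wm c))))
    rcases zmod_three_cases i with rfl | rfl | rfl
    · exfalso
      rw [show wpow c 0 = 1 from (by rw [wpow, mul_zero, jmat_one]), map_one, conj_eq_one_iff,
        ← map_one E.ψ] at hi
      have h := congrArg (fun g : Pv => (g : SL4).1 0 2) (E.inj hi)
      simp [wm_jmat, jmat_val] at h
    · refine absurd (hcentral n hnK (Subtype.ext ?_)) hne
      rw [(tlm_thirteen c hc).2.2] at hi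
      exact mul_inv_eq_iff_eq_mul.1 hi
    · refine Subtype.ext ?_
      show (n : G) * E.ψ (wm c) * (n : G)⁻¹ = (E.ψ (wm c))⁻¹
      rw [hi, ← map_inv]
      refine congrArg _ (eq_inv_of_mul_eq_one_left ?_)
      rw [wpow, wm_jmat, jmat_mul, ← jmat_one, show c * 2 + c = c * ((2 : ZMod 3) + 1) by ring,
        show (2 : ZMod 3) + 1 = 0 from rfl, mul_zero]
      simp only [add_zero]
  refine (eq_bot_iff_forall K).2 fun k hk => ?_
  by_contra hk1
  have hprod : ∀ k₁ ∈ K, k₁ ≠ 1 → ∀ k₂ ∈ K, k₂ ≠ 1 → k₁ * k₂ = 1 := by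
    intro k₁ h₁ e₁ k₂ h₂ e₂
    obtain ⟨n₁, rfl⟩ := QuotientGroup.mk'_surjective _ k₁
    obtain ⟨n₂, rfl⟩ := QuotientGroup.mk'_surjective _ k₂
    rw [← map_mul]
    refine hcentral _ (by rw [map_mul]; exact mul_mem h₁ h₂) (mul_inv_eq_iff_eq_mul.1 ?_)
    calc n₁ * n₂ * w * (n₁ * n₂)⁻¹ = n₁ * (n₂ * w * n₂⁻¹) * n₁⁻¹ := by group
      _ = (n₁ * w * n₁⁻¹)⁻¹ := by rw [hinv n₂ h₂ e₂]; group
      _ = w := by rw [hinv n₁ h₁ e₁, inv_inv]
  have hkk := hprod k hk hk1 k hk hk1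
  have hfix : ∀ v, E.trH c v * k * (E.trH c v)⁻¹ = k := fun v => by
    have h1 := hn v k hk
    have h2 : E.trH c v * k * (E.trH c v)⁻¹ ≠ 1 := fun h => hk1 (conj_eq_one_iff.1 h)
    exact mul_left_cancel (a := k) ((hprod k hk hk1 _ h1 h2).trans hkk.symm)
  obtain ⟨v, a, rfl⟩ := hcent k (mul_inv_eq_iff_eq_mul.1 (hfix 13)).symm
  have htr : ∀ u w : Fin 27, E.trH c u = E.trH c w → u = w := by
    intro u w h
    have h0 : E.trH c u * E.blH hc 0 = E.trH c w * E.blH hc 0 := by rw [h]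
    have h1 : E.trH c (av (nv w) u) * E.blH hc 0 = 1 := by
      have hz : E.blH hc 0 = 1 := mul_eq_left.1 ((hSmul 0 0).trans (by rw [setup_tables.2.1]))
      have hz0 : E.trH c 0 = 1 := by
        have := hadd 0 0
        rw [(Hyp.av_table 0 0 0).2.2.2.2.1] at this
        exact mul_eq_left.1 this.symm
      rw [hz, mul_one, hadd, h, ← hadd, (Hyp.av_table w w w).2.2.1, hz0]
    have h2 := congrArg (av w) (hindep _ _ h1).1
    rw [← av_assoc, (Hyp.av_table w w w).2.2.2.1, (Hyp.av_table u u u).2.2.2.2.1,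
      (Hyp.av_table w w w).2.2.2.2.2.1] at h2
    exact h2
  have hcomm : ∀ u w : Fin 27, Commute (E.trH c u) (E.trH c w) := fun u w =>
    (hadd u w).symm.trans ((congrArg _ (Hyp.av_table u w w).1).trans (hadd w u))
  have hpa : ∀ u, pa a u = u := fun u => by
    refine htr _ _ ?_
    have hu : Commute (E.trH c v * E.blH hc a) (E.trH c u) :=
      (mul_inv_eq_iff_eq_mul.1 (hfix u)).symm
    have hb : Commute (E.blH hc a) (E.trH c u) := by
      have := ((hcomm v u).inv_left).mul_left hu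
      rwa [inv_mul_cancel_left] at this
    rw [← hact, hb.eq, mul_inv_cancel_right]
  have ha : a = 0 := (by decide +kernel : ∀ a : Fin 6, pa a 1 = 1 → pa a 3 = 3 → a = 0) a (hpa 1) (hpa 3)
  subst ha
  have hz : E.blH hc 0 = 1 := mul_eq_left.1 ((hSmul 0 0).trans (by rw [setup_tables.2.1]))
  rw [hz, mul_one] at hk1 hkk
  refine hk1 ?_
  have h3 : E.trH c v * E.trH c v * E.trH c v = 1 := by
    rw [trH, ← map_mul, ← map_mul]
    exact (congrArg _ (Subtype.ext (Jm_cube (jmat_mem _ _ _ _).1))).trans (map_one _)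
  rwa [hkk, one_mul] at h3

open Equiv in
set_option maxHeartbeats 1000000 in
/-- The normaliser of an anisotropic subgroup of order three normalises `J`. -/
theorem norm_wm (c : ZMod 3) (hc : c ≠ 0) :
    normalizer (zpowers (E.ψ (wm c)) : Set G) ≤ normalizer (E.J : Set G) := by
  classical
  obtain ⟨H, hemb, hS⟩ := E.exists_hyp hc
  rcases ThreeSymNine.recognition H with hJ | ⟨⟨e⟩⟩
  · intro n hn
    refine mem_normalizer_of_conj fun x hx => ?_
    obtain ⟨v, hv⟩ := E.mk_mem_trH hc hx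
    let nN : E.NW c := ⟨n, hn⟩
    let xN : E.NW c := ⟨x, E.J_le_NW c hx⟩
    have hmem := hJ.conj_mem _ (show QuotientGroup.mk' (E.WN c) xN ∈ H.J by
      rw [hv, ← hemb]; exact H.emb_mem v) (QuotientGroup.mk' (E.WN c) nN)
    rw [← map_mul, ← map_inv, ← map_mul] at hmem
    obtain ⟨u, hu⟩ := hmem
    rw [hemb, trH, toH_mk, QuotientGroup.mk'_apply, QuotientGroup.mk'_apply, QuotientGroup.eq,
      mem_subgroupOf, mem_zp_iff] at hu
    obtain ⟨i, hi⟩ := hu
    refine ⟨tlm c u * wpow c i, mul_mem (jmat_mem _ _ _ _).1 (jmat_mem _ _ _ _).1, ?_⟩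
    simp only [Subgroup.coe_mul, Subgroup.coe_inv, inv_mul_eq_iff_eq_mul] at hi
    rw [map_mul, ← hi]
  · exfalso
    have hX1 : H.x ≠ 1 := fun h => absurd (H.emb_inj (h.trans H.emb_zero.symm)) (by decide)
    haveI : Fact (Nat.Prime 3) := ⟨Nat.prime_three⟩
    have hXo : orderOf H.x = 3 := orderOf_eq_prime (H.J_cube H.x_mem) hX1
    have hcard : Nat.card (centralizer ({e H.x} : Set (Perm (Fin 9)))) = 162 := by
      rw [← H.card_centralizer_x]
      refine Nat.card_congr (e.toEquiv.subtypeEquiv fun g => ?_).symm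
      rw [mem_centralizer_singleton_iff, mem_centralizer_singleton_iff]
      show g * H.x = H.x * g ↔ e g * e H.x = e H.x * e g
      rw [← map_mul, ← map_mul, e.injective.eq_iff]
    have hoy : orderOf (e H.x) = 3 := by rw [e.orderOf_eq, hXo]
    have ho13 : orderOf (trn 13) = 3 := orderOf_eq_prime (by decide +kernel) (by decide +kernel)
    obtain ⟨t, ht⟩ := isConj_iff.1 (Perm.isConj_iff_cycleType_eq.2
      ((cycleType_of_card_cent hoy hcard).trans (cycleType_three_free ho13 trn13_free).symm))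
    let f : (E.NW c ⧸ E.WN c) ≃* Perm (Fin 9) := e.trans (MulAut.conj t)
    have hfx : f H.x = trn 13 := ht
    let P : E.NW c ⧸ E.WN c := H.S 4
    have hPx : P * H.x = H.x * P := by
      show H.S 4 * H.emb 13 = H.emb 13 * H.S 4
      rw [H.S_emb, (pa_table.2 4).1]
    obtain ⟨v, a, hva⟩ := exists_mdl (g := f P) (by rw [← hfx, ← map_mul, hPx, map_mul])
    have hA := fun g => abelian_trn (g := g) (H.J.map f.toMonoidHom)
      (by
        rintro _ ⟨j, hj, rfl⟩
        show f j * trn 13 = trn 13 * f j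
        rw [← hfx, ← map_mul, H.J_comm hj H.x_mem, map_mul])
      (by
        rintro _ ⟨j, hj, rfl⟩ _ ⟨k, hk, rfl⟩
        rw [← map_mul, ← map_mul, H.J_comm hj hk])
      (by
        rintro _ ⟨j, hj, rfl⟩
        rw [← map_pow, H.J_cube hj, map_one])
      (by rw [← Nat.card_congr (H.J.equivMapOfInjective _ f.injective).toEquiv, H.card_J])
    have ha : a ≠ 0 := by
      intro ha
      obtain ⟨j, ⟨u, hu⟩, hfj⟩ := (hA (f P)).2 ⟨v, by rw [hva, ha, mdl_trn]⟩
      have hPj : P = H.emb u := (f.injective hfj).symm.trans hu.symm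
      have h := (H.mk_inj (v := 0) (w := u) (a := 4) (b := 0) (by
        rw [H.emb_zero, one_mul, H.S_zero, mul_one]; exact hPj)).2
      exact absurd h (by decide)
    have hP3 : f P ^ 3 = 1 := by
      rw [← map_pow, pow_succ', pow_two]
      show f (H.S 4 * (H.S 4 * H.S 4)) = 1
      rw [H.S_mul, H.S_mul, show pm (4 : Fin 6) (pm 4 4) = 0 by decide +kernel, H.S_zero, map_one]
    have hcube : pm a (pm a a) = 0 := by
      have h3 := hP3
      rw [hva, pow_succ', pow_two, mdl_mul, mdl_mul] at h3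
      exact (mdl_eq_one h3).2
    have hoP : orderOf (f P) = 3 :=
      orderOf_eq_prime hP3 fun h => ha (mdl_eq_one (hva.symm.trans h)).2
    have hfree : ∀ i : Fin 9, f P i ≠ i := fun i => by
      rw [hva]
      show trn v (bl a i) ≠ i
      rw [trn_table]
      exact block_free v a ha hcube i
    obtain ⟨s, hs⟩ := isConj_iff.1 (Perm.isConj_iff_cycleType_eq.2
      ((cycleType_three_free ho13 trn13_free).trans (cycleType_three_free hoP hfree).symm))
    obtain ⟨n, hn⟩ := QuotientGroup.mk'_surjective _ (f.symm s)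
    have hconj : f.symm s * H.x * (f.symm s)⁻¹ = P := f.injective (by
      rw [map_mul, map_mul, map_inv, f.apply_symm_apply, hfx, hs])
    let zN : E.NW c := ⟨E.ψ (jmat 0 c 0 0), E.map_mem_NW (Jm_norm (jmat_mem 0 c 0 0).1)⟩
    have hx13 : H.x = QuotientGroup.mk' (E.WN c) zN := by
      show H.emb 13 = _
      rw [hemb, trH, toH_mk]
      exact congrArg _ (Subtype.ext (congrArg E.ψ (tlm_thirteen c hc).1))
    have hP : P = QuotientGroup.mk' (E.WN c) ⟨E.ψ (blm c 4), E.map_mem_NW (blm_norm hc 4)⟩ := by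
      show H.S 4 = _
      rw [hS]; rfl
    rw [← hn, hx13, hP, ← map_inv, ← map_mul, ← map_mul, eq_comm, QuotientGroup.mk'_apply,
      QuotientGroup.mk'_apply, QuotientGroup.eq, mem_subgroupOf, mem_zp_iff] at hconj
    obtain ⟨i, hi⟩ := hconj
    simp only [Subgroup.coe_mul, Subgroup.coe_inv, zN, inv_mul_eq_iff_eq_mul, ← map_mul] at hi
    obtain ⟨hQ, hnp⟩ := cyc_not_pure c i hc
    exact hnp (E.pure_zc hc hQ hi)

end Emb

end CfsgLib.L43
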