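import Cfsg.Agent.LFourThree.Emb
import Cfsg.Agent.Solvable.CoprimeAbelian
import Cfsg.Agent.ThreeSymNine.Setup
import Mathlib.GroupTheory.Perm.Centralizer
import Mathlib.GroupTheory.SchurZassenhaus

/-!
# The abelian subgroup of order 81 of the model and the stabiliser of an anisotropic element

Modulo `wm c`, the stabiliser of `zm` in the normaliser of `wm c` is the centraliser in `S₉` of
three disjoint three-cycles.
-/

set_option autoImplicit false
set_option maxRecDepth 100000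
set_option linter.style.haveILetI false
set_option linter.unusedSectionVars false
set_option synthInstance.maxSize 4000
set_option linter.unusedSimpArgs false

namespace CfsgLib.L43

open Subgroup Matrix

universe u

/-! ### The matrices -/

theorem val_mul (x y : Pv) : ((x * y : Pv) : SL4).1 = (x : SL4).1 * (y : SL4).1 := rfl

theorem val_of_mul_eq_one {x y : Pv} (h : x * y = 1) : (x : SL4).1 * (y : SL4).1 = 1 := by
  rw [← val_mul, h]; rfl

theorem val_congr {x y : Pv} (h : x = y) : (x : SL4).1 = (y : SL4).1 := by rw [h]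

/-- An element of `Jm`, by its four free entries. -/
def jmat (a b r d : ZMod 3) : Pv :=
  ⟨⟨!![1, 0, a, b; 0, 1, r, d; 0, 0, 1, 0; 0, 0, 0, 1], by
      simp [Matrix.det_succ_row_zero, Fin.sum_univ_succ]⟩,
    mem_Pv.2 fun i => by fin_cases i <;> rfl⟩

theorem jmat_val (a b r d : ZMod 3) :
    (jmat a b r d : SL4).1 = !![1, 0, a, b; 0, 1, r, d; 0, 0, 1, 0; 0, 0, 0, 1] := rfl

theorem jmat_mul (a b r d a' b' r' d' : ZMod 3) :
    jmat a b r d * jmat a' b' r' d' = jmat (a + a') (b + b') (r + r') (d + d') := by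
  refine Subtype.ext (Subtype.ext ?_)
  rw [val_mul, jmat_val, jmat_val, jmat_val]
  ext i j
  fin_cases i <;> fin_cases j <;> simp [Matrix.mul_apply, Fin.sum_univ_four, add_comm]

theorem jmat_one : jmat 0 0 0 0 = 1 := by decide +kernel

theorem jmat_mem : ∀ a b r d : ZMod 3, jmat a b r d ∈ Jm ∧ (r = 0 → jmat a b r d ∈ Qm) := by
  intro a b r d
  refine ⟨?_, fun hr => ?_⟩
  · show InJ _
    rw [jmat_val]; simp [InJ]
  · show InQ _
    rw [jmat_val]; simp [InQ, hr]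

theorem Jm_eq {g : Pv} (h : g ∈ Jm) :
    g = jmat ((g : SL4).1 0 2) ((g : SL4).1 0 3) ((g : SL4).1 1 2) ((g : SL4).1 1 3) := by
  obtain ⟨a0, a1, a2, a3, a4, a5, a6, a7, a8, a9, a10, a11⟩ := (h : InJ _)
  refine Subtype.ext (Subtype.ext ?_)
  show (g : SL4).1 = _
  rw [jmat_val]
  ext i j
  fin_cases i <;> fin_cases j <;> first | assumption | rfl

theorem Jm_comm {g h : Pv} (hg : g ∈ Jm) (hh : h ∈ Jm) : g * h = h * g := by
  rw [Jm_eq hg, Jm_eq hh, jmat_mul, jmat_mul]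
  simp only [add_comm]

theorem Jm_cube {g : Pv} (hg : g ∈ Jm) : g * g * g = 1 := by
  rw [Jm_eq hg, jmat_mul, jmat_mul, ← jmat_one]
  have e : ∀ x : ZMod 3, x + x + x = 0 := by decide
  simp only [e]

theorem zm_jmat : zm = jmat 0 1 0 0 := by decide +kernel

theorem wm_jmat : ∀ c : ZMod 3, wm c = jmat 1 0 0 c := by decide +kernel

theorem Pv_col (g : Pv) : (g : SL4).1 0 0 = 1 ∧ (g : SL4).1 1 0 = 0 ∧ (g : SL4).1 2 0 = 0 ∧
    (g : SL4).1 3 0 = 0 := by
  have h := mem_Pv.1 g.2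
  exact ⟨h 0, h 1, h 2, h 3⟩

/-- The last row of an element commuting with the central transvection. -/
theorem stab_row {m : Pv} (h : m * zm = zm * m) :
    (m : SL4).1 3 1 = 0 ∧ (m : SL4).1 3 2 = 0 ∧ (m : SL4).1 3 3 = 1 := by
  obtain ⟨h0, -, -, -⟩ := Pv_col m
  have hM := val_congr h
  simp only [val_mul] at hM
  rw [zm_jmat] at hM
  have e : ∀ j, ((m : SL4).1 * (jmat 0 1 0 0 : SL4).1) 0 j = ((jmat 0 1 0 0 : SL4).1 * (m : SL4).1) 0 j :=
    fun j => congrFun (congrFun hM 0) j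
  have e1 := e 1
  have e2 := e 2
  have e3 := e 3
  simp [jmat_val, Matrix.mul_apply, Fin.sum_univ_four] at e1 e2 e3
  refine ⟨e1, e2, ?_⟩
  linear_combination -e3 + h0

theorem qm_cube_table : ∀ a b c d e : ZMod 3,
    (!![1, a, b, c; 0, 1, 0, d; 0, 0, 1, e; 0, 0, 0, 1] : M4) *
      !![1, a, b, c; 0, 1, 0, d; 0, 0, 1, e; 0, 0, 0, 1] *
      !![1, a, b, c; 0, 1, 0, d; 0, 0, 1, e; 0, 0, 0, 1] = 1 := by
  intro a b c d e
  have h3 : (3 : ZMod 3) = 0 := by decide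
  ext i j
  fin_cases i <;> fin_cases j <;> simp [Matrix.mul_apply, Fin.sum_univ_four] <;> ring_nf <;> simp [h3]

theorem Qm_cube {g : Pv} (hg : g ∈ Qm) : g * g * g = 1 := by
  obtain ⟨a0, a1, a2, a3, a4, a5, a6, a7, a8, a9, a10⟩ := (hg : InQ _)
  have e : (g : SL4).1 = !![1, (g : SL4).1 0 1, (g : SL4).1 0 2, (g : SL4).1 0 3; 0, 1, 0, (g : SL4).1 1 3;
      0, 0, 1, (g : SL4).1 2 3; 0, 0, 0, 1] := by
    ext i j
    fin_cases i <;> fin_cases j <;> first | assumption | rfl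
  refine Subtype.ext (Subtype.ext ?_)
  rw [val_mul, val_mul]
  show _ = (1 : M4)
  rw [e]
  exact qm_cube_table _ _ _ _ _

/-- The radical is normal in the centraliser of the central transvection. -/
theorem Qm_conj {m x : Pv} (hm : m * zm = zm * m) (hx : x ∈ Qm) : m * x * m⁻¹ ∈ Qm := by
  have hh : m⁻¹ * zm = zm * m⁻¹ := (Commute.inv_left hm).eq
  have hone := val_of_mul_eq_one (mul_inv_cancel m)
  generalize m⁻¹ = h at hh hone
  obtain ⟨mc0, mc1, mc2, mc3⟩ := Pv_col m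
  obtain ⟨m31, m32, m33⟩ := stab_row hm
  obtain ⟨hc0, hc1, hc2, hc3⟩ := Pv_col h
  obtain ⟨h31, h32, h33⟩ := stab_row hh
  obtain ⟨a0, a1, a2, a3, a4, a5, a6, a7, a8, a9, a10⟩ := (hx : InQ _)
  show InQ _
  rw [val_mul, val_mul]
  generalize (m : SL4).1 = A at mc0 mc1 mc2 mc3 m31 m32 m33 hone
  generalize (h : SL4).1 = B at hc0 hc1 hc2 hc3 h31 h32 h33 hone
  generalize (x : SL4).1 = X at a0 a1 a2 a3 a4 a5 a6 a7 a8 a9 a10
  have e11 := congrFun (congrFun hone 1) 1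
  have e12 := congrFun (congrFun hone 1) 2
  have e21 := congrFun (congrFun hone 2) 1
  have e22 := congrFun (congrFun hone 2) 2
  simp only [Matrix.mul_apply, Fin.sum_univ_four, mc1, mc2, mc3, hc0, hc1, hc2, hc3, h31, h32, h33,
    zero_mul, mul_zero, zero_add, add_zero, Matrix.one_apply, Fin.reduceEq, if_true, if_false] at e11 e12 e21 e22
  simp only [InQ, Matrix.mul_apply, Fin.sum_univ_four, mc0, mc1, mc2, mc3, m31, m32, m33, hc0, hc1, hc2, hc3,
    h31, h32, h33, a0, a1, a2, a3, a4, a5, a6, a7, a8, a9, a10, zero_mul, mul_zero, zero_add, add_zero,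
    one_mul, mul_one, e11, e12, e21, e22, true_and, and_true]

/-- The elements of `Stab(zm)` centralising `Jm ∩ Qm` lie in `Jm`. -/
theorem mem_Jm_of_commute {m : Pv} (hz : m * zm = zm * m)
    (h2 : m * jmat 1 0 0 0 = jmat 1 0 0 0 * m) (h1 : m * jmat 0 0 0 1 = jmat 0 0 0 1 * m) :
    m ∈ Jm := by
  obtain ⟨c0, c1, c2, c3⟩ := Pv_col m
  obtain ⟨m31, m32, m33⟩ := stab_row hz
  have E2 := val_congr h2
  have E1 := val_congr h1
  rw [val_mul, val_mul] at E1 E2
  have f : ∀ i j, ((m : SL4).1 * (jmat 1 0 0 0 : SL4).1) i j = ((jmat 1 0 0 0 : SL4).1 * (m : SL4).1) i j :=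
    fun i j => congrFun (congrFun E2 i) j
  have g : ∀ i j, ((m : SL4).1 * (jmat 0 0 0 1 : SL4).1) i j = ((jmat 0 0 0 1 : SL4).1 * (m : SL4).1) i j :=
    fun i j => congrFun (congrFun E1 i) j
  have f01 := f 0 1
  have f02 := f 0 2
  have f03 := f 0 3
  have g03 := g 0 3
  have g13 := g 1 3
  simp [jmat_val, Matrix.mul_apply, Fin.sum_univ_four] at f01 f02 f03 g03 g13
  show InJ _
  refine ⟨c0, ?_, ?_, m33, c1, c2, c3, f01, m31, m32, g03, f03⟩
  · linear_combination g13 + m33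
  · linear_combination -f02 + c0

/-- A transvection with centre `e0` in `Jm` is conjugate to `zm` by an element normalising `Jm`. -/
def linMat (a b : ZMod 3) : M4 :=
  if b = 0 then !![1, 0, 0, 0; 0, -a, 0, 0; 0, 0, 0, a; 0, 0, 1, 0]
  else !![1, 0, 0, 0; 0, b, 0, 0; 0, 0, 1, 0; 0, 0, -a * b, b]

/-- The inverse of `linMat`. -/
def linInv (a b : ZMod 3) : M4 :=
  if b = 0 then !![1, 0, 0, 0; 0, -a, 0, 0; 0, 0, 0, 1; 0, 0, a, 0]
  else !![1, 0, 0, 0; 0, b, 0, 0; 0, 0, 1, 0; 0, 0, a, b]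

/-- Block diagonal for the flag of a line. -/
abbrev InBD (g : M4) : Prop :=
  g 0 0 = 1 ∧ g 1 0 = 0 ∧ g 2 0 = 0 ∧ g 3 0 = 0 ∧ g 0 1 = 0 ∧ g 0 2 = 0 ∧ g 0 3 = 0 ∧ g 1 2 = 0 ∧
    g 1 3 = 0 ∧ g 2 1 = 0 ∧ g 3 1 = 0

theorem bd_conj {A B X : M4} (hA : InBD A) (hB : InBD B) (hAB : A * B = 1) (hX : InJ X) :
    InJ (A * X * B) := by
  obtain ⟨p0, p1, p2, p3, p4, p5, p6, p7, p8, p9, p10⟩ := hA
  obtain ⟨q0, q1, q2, q3, q4, q5, q6, q7, q8, q9, q10⟩ := hB
  obtain ⟨a0, a1, a2, a3, a4, a5, a6, a7, a8, a9, a10, a11⟩ := hX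
  have e11 := congrFun (congrFun hAB 1) 1
  have e22 := congrFun (congrFun hAB 2) 2
  have e23 := congrFun (congrFun hAB 2) 3
  have e32 := congrFun (congrFun hAB 3) 2
  have e33 := congrFun (congrFun hAB 3) 3
  simp only [Matrix.mul_apply, Fin.sum_univ_four, p0, p1, p2, p3, p4, p5, p6, p7, p8, p9, p10, q0, q1, q2, q3,
    q4, q5, q6, q7, q8, q9, q10, zero_mul, mul_zero, zero_add, add_zero, Matrix.one_apply, Fin.reduceEq,
    if_true, if_false] at e11 e22 e23 e32 e33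
  simp only [InJ, Matrix.mul_apply, Fin.sum_univ_four, p0, p1, p2, p3, p4, p5, p6, p7, p8, p9, p10, q0, q1, q2,
    q3, q4, q5, q6, q7, q8, q9, q10, a0, a1, a2, a3, a4, a5, a6, a7, a8, a9, a10, a11, zero_mul, mul_zero,
    zero_add, add_zero, one_mul, mul_one, e11, e22, e23, e32, e33, true_and, and_true]

theorem lin_table : ∀ a b : ZMod 3, (a ≠ 0 ∨ b ≠ 0) → (linMat a b).det = 1 ∧
    (∀ i, linMat a b i 0 = if i = 0 then 1 else 0) ∧ linMat a b * linInv a b = 1 ∧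
    linMat a b * (jmat 0 1 0 0 : SL4).1 * linInv a b = (jmat a b 0 0 : SL4).1 ∧
    InBD (linMat a b) ∧ InBD (linInv a b) := by
  decide +kernel

theorem line_conj {a b : ZMod 3} (hab : a ≠ 0 ∨ b ≠ 0) :
    ∃ n : Pv, n * zm * n⁻¹ = jmat a b 0 0 ∧ ∀ x ∈ Jm, n * x * n⁻¹ ∈ Jm := by
  obtain ⟨hdet, hcol, hinv, hz, hB, hB'⟩ := lin_table a b hab
  generalize linMat a b = M at hdet hcol hinv hz hB
  generalize linInv a b = M' at hinv hz hB'
  obtain ⟨n, hn⟩ : ∃ n : Pv, (n : SL4).1 = M := ⟨⟨⟨M, hdet⟩, mem_Pv.2 hcol⟩, rfl⟩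
  have hinv' : ((n⁻¹ : Pv) : SL4).1 = M' := by
    have h1 : M * ((n⁻¹ : Pv) : SL4).1 = 1 := by
      rw [← hn]; exact val_of_mul_eq_one (mul_inv_cancel n)
    exact (left_inv_eq_right_inv (mul_eq_one_comm.1 hinv) h1).symm
  refine ⟨n, Subtype.ext (Subtype.ext ?_), fun x hx => ?_⟩
  · rw [val_mul, val_mul, hn, hinv', zm_jmat, hz]
  · show InJ _
    rw [val_mul, val_mul, hn, hinv']
    exact bd_conj hB hB' hinv hx

/-! ### The model of the centraliser of `zm` modulo `wm c` -/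

open CfsgLib.ThreeSymNine CfsgLib.AltNine

/-- The translations. -/
def tlm (c : ZMod 3) (v : Fin 27) : Pv :=
  let x0 : ZMod 3 := (dig v 0).1
  let x1 : ZMod 3 := (dig v 1).1
  let x2 : ZMod 3 := (dig v 2).1
  jmat (x1 - x2) (-(c * (x1 + x2))) (x0 + x1 + x2) (c * (x2 - x1))

/-- The matrices of the block permutations. -/
def blMat (c : ZMod 3) (a : Fin 6) : M4 :=
  let k : ZMod 3 := ![1, -1, -1, -1, 1, 1] a
  let r : ZMod 3 := ![0, c, 0, -c, c, -c] a
  !![1, c * k * r, 0, 0; 0, k, 0, 0; 0, 0, k, r; 0, 0, 0, 1]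

theorem blMat_det : ∀ c a, (blMat c a).det = 1 := by decide +kernel

/-- The block permutations. -/
def blm (c : ZMod 3) (a : Fin 6) : Pv :=
  ⟨⟨blMat c a, blMat_det c a⟩, mem_Pv.2 fun i => by fin_cases i <;> rfl⟩

/-- The three-cycle of blocks. -/
def cycm (c : ZMod 3) : Pv := blm c 4

/-- The powers of `wm c`. -/
def wpow (c i : ZMod 3) : Pv := jmat i 0 0 (c * i)

theorem tlm_add : ∀ c : ZMod 3, ∀ u v : Fin 27, tlm c (av u v) = tlm c u * tlm c v := by
  intro c u v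
  have h : ∀ u v : Fin 27, ∀ i : Fin 3,
      (((dig (av u v) i).1 : ℕ) : ZMod 3) = ((dig u i).1 : ℕ) + ((dig v i).1 : ℕ) := by
    decide +kernel
  simp only [tlm, jmat_mul, h]
  congr 1 <;> ring

theorem tlm_inj : ∀ c : ZMod 3, c ≠ 0 → ∀ v : Fin 27, tlm c v = 1 → v = 0 := by decide +kernel

theorem blm_mul : ∀ c : ZMod 3, c ≠ 0 → ∀ a b : Fin 6, blm c a * blm c b = blm c (pm a b) := by
  decide +kernel

theorem blm_act (c : ZMod 3) (hc : c ≠ 0) (a : Fin 6) (v : Fin 27) :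
    blm c a * tlm c v = tlm c (pa a v) * blm c a := by
  have hbase : ∀ c : ZMod 3, c ≠ 0 → ∀ (a : Fin 6) (e : Fin 3),
      blm c a * tlm c (![1, 3, 9] e) = tlm c (pa a (![1, 3, 9] e)) * blm c a := by decide +kernel
  have hstep : ∀ v : Fin 27, v = 0 ∨ ∃ (e : Fin 3) (u : Fin 27), u < v ∧ v = av (![1, 3, 9] e) u := by
    decide +kernel
  induction v using WellFoundedLT.induction with
  | ind v ih =>
    rcases hstep v with rfl | ⟨e, u, hu, hv⟩
    · have h0 : tlm c 0 = 1 := by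
        have h := tlm_add c 0 0
        rw [(Hyp.av_table 0 0 0).2.2.2.2.1] at h
        exact mul_eq_left.1 h.symm
      rw [(pa_table.2 a).2.2.2.2.2, h0, mul_one, one_mul]
    · rw [hv, pa_av, tlm_add, tlm_add, ← mul_assoc, hbase c hc a e, mul_assoc, ih u hu, mul_assoc]

theorem blm_wm : ∀ c : ZMod 3, c ≠ 0 → ∀ a : Fin 6, ∃ i : ZMod 3,
    blm c a * wm c = wpow c i * blm c a := by decide +kernel

theorem model_indep : ∀ c : ZMod 3, c ≠ 0 → ∀ (v : Fin 27) (a : Fin 6) (i : ZMod 3),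
    tlm c v * blm c a = wpow c i → v = 0 ∧ a = 0 := by decide +kernel

theorem blm_entries : ∀ c k r : ZMod 3, c ≠ 0 → k ≠ 0 → ∃ a : Fin 6,
    ((blm c a : SL4).1 2 2 = k ∧ (blm c a : SL4).1 2 3 = r) := by decide +kernel

theorem blm_shape : ∀ c : ZMod 3, c ≠ 0 → ∀ a : Fin 6, blm c a * zm = zm * blm c a ∧
    (blm c a : SL4).1 1 2 = 0 ∧ (blm c a : SL4).1 3 2 = 0 ∧ (blm c a : SL4).1 3 3 = 1 := by
  decide +kernel

theorem jmat_decomp : ∀ c : ZMod 3, c ≠ 0 → ∀ a b r d : ZMod 3,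
    jmat a b r d = wpow c (-(a + c * d)) *
      tlm c (vec (r + c * b) (a - c * d + c * b) (c * b - a + c * d)) := by decide +kernel

theorem tlm_thirteen : ∀ c : ZMod 3, c ≠ 0 → tlm c 13 = jmat 0 c 0 0 ∧
    tlm c 13 * tlm c 13 * tlm c 13 = 1 ∧ wpow c 1 = wm c := by decide +kernel

theorem pure_zero : ∀ c i : ZMod 3, c ≠ 0 → Pure (jmat i c 0 (c * i) : SL4).1 → i = 0 := by
  decide +kernel

theorem cyc_not_pure : ∀ c i : ZMod 3, c ≠ 0 →
    InQ (cycm c * wpow c i : Pv).1.1 ∧ ¬ Pure (cycm c * wpow c i : Pv).1.1 := by decide +kernel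

theorem wpow_zp (c i : ZMod 3) : wpow c i ∈ zpowers (wm c) := by
  have h : ∀ c i : ZMod 3, wpow c i = wm c ^ i.val := by decide +kernel
  rw [h]
  exact pow_mem (mem_zpowers _) _

theorem wm_cube (c : ZMod 3) : wm c * wm c * wm c = 1 :=
  Jm_cube (wm_jmat c ▸ (jmat_mem 1 0 0 c).1)

theorem exists_wpow {c : ZMod 3} {g : Pv} (hg : g ∈ zpowers (wm c)) : ∃ i, g = wpow c i := by
  obtain ⟨n, rfl⟩ := mem_zpowers_iff.1 hg
  have h3 : wm c ^ 3 = 1 := by rw [pow_succ, pow_two]; exact wm_cube c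
  have h : ∀ c : ZMod 3, ∀ i : Fin 3, wm c ^ i.1 = wpow c ((i.1 : ℕ) : ZMod 3) := by decide +kernel
  refine ⟨(((n % 3).toNat : ℕ) : ZMod 3), ?_⟩
  have hlt : (n % 3).toNat < 3 := by omega
  rw [← h c ⟨_, hlt⟩]
  show wm c ^ n = wm c ^ (n % 3).toNat
  rw [← zpow_natCast, Int.toNat_of_nonneg (Int.emod_nonneg n (by norm_num))]
  conv_lhs => rw [← Int.mul_ediv_add_emod n 3, _root_.zpow_add, _root_.zpow_mul]
  rw [show wm c ^ (3 : ℤ) = 1 from (zpow_natCast (wm c) 3).trans h3, _root_.one_zpow, one_mul]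

theorem Jm_norm {c : ZMod 3} {g : Pv} (hg : g ∈ Jm) : g ∈ normalizer (zpowers (wm c) : Set Pv) := by
  refine mem_normalizer_iff.2 fun x => ?_
  have key : ∀ x ∈ zpowers (wm c), g * x * g⁻¹ = x := fun x hx => by
    obtain ⟨i, rfl⟩ := exists_wpow hx
    rw [wpow, Jm_comm hg (jmat_mem _ _ _ _).1, mul_inv_cancel_right]
  refine ⟨fun hx => by rw [key x hx]; exact hx, fun hx => ?_⟩
  have h := key _ hx
  rw [mul_inv_eq_iff_eq_mul] at h
  have : g * x * g⁻¹ = x := mul_left_cancel (a := g) (by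
    calc g * (g * x * g⁻¹) = g * x * g⁻¹ * g := h
      _ = g * x := by group)
  rwa [this] at hx

theorem mem_normalizer_of_conj {H : Type*} [Group H] [Finite H] {S : Subgroup H} {n : H}
    (h : ∀ x ∈ S, n * x * n⁻¹ ∈ S) : n ∈ normalizer (S : Set H) := by
  have e : S.map (MulAut.conj n).toMonoidHom = S := by
    refine eq_of_le_of_card_ge (by rintro _ ⟨x, hx, rfl⟩; exact h x hx) ?_
    rw [← Nat.card_congr (S.equivMapOfInjective _ (MulAut.conj n).injective).toEquiv]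
  refine mem_normalizer_iff.2 fun x => ⟨h x, fun hx => ?_⟩
  rw [← e] at hx
  obtain ⟨y, hy, hyx⟩ := hx
  have : y = x := mul_left_cancel (mul_right_cancel hyx)
  rwa [← this]

theorem blm_norm {c : ZMod 3} (hc : c ≠ 0) (a : Fin 6) :
    blm c a ∈ normalizer (zpowers (wm c) : Set Pv) := by
  refine mem_normalizer_of_conj fun x hx => ?_
  obtain ⟨n, rfl⟩ := mem_zpowers_iff.1 hx
  obtain ⟨i, hi⟩ := blm_wm c hc a
  rw [← conj_zpow, hi, mul_inv_cancel_right]
  exact zpow_mem (wpow_zp c i) n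

/-- The stabiliser of `zm` in the normaliser of `wm c`. -/
theorem stab_wm {c : ZMod 3} (hc : c ≠ 0) {m : Pv} (hz : m * zm = zm * m)
    (hw : m ∈ normalizer (zpowers (wm c) : Set Pv)) :
    ∃ i v a, m = wpow c i * (tlm c v * blm c a) := by
  have shape : ∀ g : Pv, g * zm = zm * g → g ∈ normalizer (zpowers (wm c) : Set Pv) →
      ∃ k : ZMod 3, k ≠ 0 ∧ (g : SL4).1 1 1 = k ∧ (g : SL4).1 2 2 = k ∧ (g : SL4).1 2 1 = 0 ∧
        c * (g : SL4).1 0 1 = k * (g : SL4).1 2 3 := by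
    intro g hgz hgw
    obtain ⟨c0, c1, c2, c3⟩ := Pv_col g
    obtain ⟨r1, r2, r3⟩ := stab_row hgz
    obtain ⟨k, hk⟩ := exists_wpow ((mem_normalizer_iff.1 hgw (wm c)).1 (mem_zpowers _))
    rw [mul_inv_eq_iff_eq_mul, wm_jmat, wpow] at hk
    have hM := val_congr hk
    rw [val_mul, val_mul] at hM
    have f : ∀ i j, ((g : SL4).1 * (jmat 1 0 0 c : SL4).1) i j =
        ((jmat k 0 0 (c * k) : SL4).1 * (g : SL4).1) i j := fun i j => congrFun (congrFun hM i) j
    have f02 := f 0 2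
    have f03 := f 0 3
    have f13 := f 1 3
    have f23 := f 2 3
    simp [jmat_val, Matrix.mul_apply, Fin.sum_univ_four, c0, c1, c2, r3] at f02 f03 f13 f23
    have solve : ∀ c k x y : ZMod 3, c ≠ 0 → 1 = k * x → y * c = c * k →
        k ≠ 0 ∧ y = k ∧ x = k := by decide +kernel
    obtain ⟨hk0, h11, h22⟩ := solve c k ((g : SL4).1 2 2) ((g : SL4).1 1 1) hc
      (by linear_combination f02) (by linear_combination f13)
    have h21 : (g : SL4).1 2 1 = 0 := f23.resolve_right hc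
    exact ⟨k, hk0, h11, h22, h21, by linear_combination f03⟩
  obtain ⟨k, hk0, -, h22, -, -⟩ := shape m hz hw
  obtain ⟨a, ha22, ha23⟩ := blm_entries c k ((m : SL4).1 2 3) hc hk0
  obtain ⟨hbz, hb12, hb32, hb33⟩ := blm_shape c hc a
  set b := blm c a with hb
  set g := m * b⁻¹ with hg
  have hgz : g * zm = zm * g := ((show Commute m zm from hz).mul_left (Commute.inv_left hbz)).eq
  have hgw : g ∈ normalizer (zpowers (wm c) : Set Pv) := mul_mem hw (inv_mem (blm_norm hc a))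
  obtain ⟨l, hl0, g11, g22, g21, g01⟩ := shape g hgz hgw
  obtain ⟨c0, c1, c2, c3⟩ := Pv_col g
  obtain ⟨r1, r2, r3⟩ := stab_row hgz
  have hprod : (g : SL4).1 * (b : SL4).1 = (m : SL4).1 :=
    (val_mul g b).symm.trans (val_congr (show g * b = m by rw [hg, inv_mul_cancel_right]))
  have e22 := congrFun (congrFun hprod 2) 2
  have e23 := congrFun (congrFun hprod 2) 3
  simp only [Matrix.mul_apply, Fin.sum_univ_four, c2, g21, g22, hb32, hb33, ha22, ha23, h22,
    zero_mul, mul_zero, mul_one, zero_add, add_zero] at e22 e23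
  have hl : l = 1 := mul_right_cancel₀ hk0 (by rw [e22, one_mul])
  subst hl
  have g23 : (g : SL4).1 2 3 = 0 := by linear_combination e23
  have g010 : (g : SL4).1 0 1 = 0 := by
    rw [g23, mul_zero] at g01
    exact (mul_eq_zero.1 g01).resolve_left hc
  have hJ : g ∈ Jm := ⟨c0, g11, g22, r3, c1, c2, c3, g21, r1, r2, g010, g23⟩
  have hd := (Jm_eq hJ).trans (jmat_decomp c hc ((g : SL4).1 0 2) ((g : SL4).1 0 3) ((g : SL4).1 1 2) ((g : SL4).1 1 3))
  exact ⟨_, _, a, (show m = g * b by rw [hg, inv_mul_cancel_right]).trans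
    ((congrArg (fun y => y * b) hd).trans (mul_assoc _ _ _))⟩

/-! ### Permutations of nine points -/

open Equiv

theorem cycleType_three_free {q : Perm (Fin 9)} (ho : orderOf q = 3) (hfree : ∀ i, q i ≠ i) :
    q.cycleType = Multiset.replicate 3 3 := by
  obtain ⟨n, hn⟩ := Perm.cycleType_prime_order (σ := q) (by rw [ho]; exact Nat.prime_three)
  have hs : q.support = Finset.univ := Finset.eq_univ_of_forall fun i => Perm.mem_support.2 (hfree i)
  have h := q.sum_cycleType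
  rw [hn, ho, Multiset.sum_replicate, smul_eq_mul, hs, Finset.card_univ, Fintype.card_fin] at h
  rw [hn, ho, show n + 1 = 3 by omega]

theorem cycleType_of_card_cent {y : Perm (Fin 9)} (ho : orderOf y = 3)
    (hc : Nat.card (centralizer ({y} : Set (Perm (Fin 9)))) = 162) :
    y.cycleType = Multiset.replicate 3 3 := by
  obtain ⟨n, hn⟩ := Perm.cycleType_prime_order (σ := y) (by rw [ho]; exact Nat.prime_three)
  rw [ho] at hn
  have hle : 3 * (n + 1) ≤ 9 := by
    have h := y.sum_cycleType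
    rw [hn, Multiset.sum_replicate, smul_eq_mul] at h
    have h' : y.support.card ≤ 9 := (Finset.card_le_univ _).trans (le_of_eq (Fintype.card_fin 9))
    omega
  rw [Perm.nat_card_centralizer, hn] at hc
  have hn3 : n = 0 ∨ n = 1 ∨ n = 2 := by omega
  rcases hn3 with rfl | rfl | rfl
  · exact absurd hc (by decide +kernel)
  · exact absurd hc (by decide +kernel)
  · exact hn

theorem block_free : ∀ (v : Fin 27) (a : Fin 6), a ≠ 0 → pm a (pm a a) = 0 →
    ∀ i : Fin 9, shift v (bl a i) ≠ i := by decide +kernel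

theorem trn13_free : ∀ i : Fin 9, trn 13 i ≠ i := by decide +kernel

end CfsgLib.L43
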