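import Cfsg.Agent.LFourThree.Loc
import Mathlib.LinearAlgebra.BilinearForm.Orthogonal

/-!
# First consequences of the coordinates
-/

set_option autoImplicit false
set_option maxRecDepth 100000
set_option linter.style.haveILetI false
set_option linter.unusedSectionVars false

namespace CfsgLib.L43

open Subgroup CfsgLib.G23Amalgam Matrix

universe u

theorem form_lin (B : M2) :
    (∀ v v' w : W4, form B (v + v') w = form B v w + form B v' w) ∧
    (∀ v w w' : W4, form B v (w + w') = form B v w + form B v w') ∧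
    (∀ (c : ZMod 3) (v w : W4), form B (c • v) w = c * form B v w) ∧
    (∀ (c : ZMod 3) (v w : W4), form B v (c • w) = c * form B v w) ∧
    (B.transpose = B → ∀ v, form B v v = 0) ∧
    (B.transpose = B → ∀ v w, form B w v = -form B v w) := by
  refine ⟨?_, ?_, ?_, ?_, fun h v => ?_, fun h v w => ?_⟩
  · intros; simp [form, det2]; ring
  · intros; simp [form, det2]; ring
  · intros; simp [form, det2]; ring
  · intros; simp [form, det2]; ring
  · have e : B 1 0 = B 0 1 := congrFun (congrFun h 0) 1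
    simp [form, det2]; rw [e]; ring
  · have e : B 1 0 = B 0 1 := congrFun (congrFun h 0) 1
    simp [form, det2]; rw [e]; ring

theorem form_nondeg {B : M2} (hB : B.det ≠ 0) {v : W4} (h : ∀ w, form B v w = 0) : v = 0 := by
  have e1 := h (![0, 1], 0)
  have e2 := h (0, ![0, 1])
  have e3 := h (![1, 0], 0)
  have e4 := h (0, ![1, 0])
  simp [form, det2] at e1 e2 e3 e4
  rw [Matrix.det_fin_two] at hB
  have key : ∀ a b c d x y : ZMod 3, a * d - b * c ≠ 0 → x * a + y * c = 0 → x * b + y * d = 0 →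
      x = 0 ∧ y = 0 := by decide +kernel
  obtain ⟨a0, b0⟩ := key _ _ _ _ (v.1 0) (v.2 0) hB (by linear_combination e1) (by linear_combination e2)
  obtain ⟨a1, b1⟩ := key _ _ _ _ (v.1 1) (v.2 1) hB (by linear_combination (-1 : ZMod 3) * e3)
    (by linear_combination (-1 : ZMod 3) * e4)
  ext i <;> fin_cases i <;> assumption

/-- The form as a bilinear form. -/
def formB (B : M2) : LinearMap.BilinForm (ZMod 3) W4 :=
  LinearMap.mk₂ (ZMod 3) (form B) (form_lin B).1 (fun c v w => (form_lin B).2.2.1 c v w)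
    (form_lin B).2.1 (fun c v w => (form_lin B).2.2.2.1 c v w)

/-- An isotropic subgroup has order at most nine. -/
theorem iso_le_nine {B : M2} (hs : B.transpose = B) (hB : B.det ≠ 0) (S : Submodule (ZMod 3) W4)
    (hS : ∀ v ∈ S, ∀ w ∈ S, form B v w = 0) : Nat.card S ≤ 9 := by
  haveI : Fact (Nat.Prime 3) := ⟨Nat.prime_three⟩
  have hrefl : (formB B).IsRefl := fun v w h => by
    show form B w v = 0
    rw [(form_lin B).2.2.2.2.2 hs, show form B v w = 0 from h, neg_zero]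
  have hle : S ≤ (formB B).orthogonal S := fun v hv w hw => hS w hw v hv
  have htop : (formB B).orthogonal ⊤ = ⊥ := eq_bot_iff.2 fun v hv => by
    refine (Submodule.mem_bot _).2 (form_nondeg hB fun w => ?_)
    rw [(form_lin B).2.2.2.2.2 hs w v, show form B w v = 0 from hv w trivial, neg_zero]
  have h := LinearMap.BilinForm.finrank_add_finrank_orthogonal hrefl S
  rw [htop, inf_bot_eq, finrank_bot, add_zero] at h
  have h4 : Module.finrank (ZMod 3) W4 = 4 := by
    rw [Module.finrank_prod, Module.finrank_fintype_fun_eq_card]; rfl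
  have := Submodule.finrank_mono hle
  rw [Module.natCard_eq_pow_finrank (K := ZMod 3), Nat.card_zmod]
  calc 3 ^ Module.finrank (ZMod 3) S ≤ 3 ^ 2 := Nat.pow_le_pow_right (by norm_num) (by omega)
    _ = 9 := by norm_num

namespace Loc

variable {G : Type u} [Group G] (L : Loc G)
include L

/-- The centralizer. -/
abbrev C : Subgroup G := centralizer ({L.z} : Set G)

theorem z_ord : orderOf L.z = 3 := by
  haveI : Fact (Nat.Prime 3) := ⟨Nat.prime_three⟩
  exact orderOf_eq_prime (by rw [pow_succ, pow_two]; exact L.z_cube) L.z_ne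

theorem mem_zp {g : G} (hg : g ∈ zpowers L.z) : ∃ k : ZMod 3, g = L.z ^ k.val := by
  haveI : Finite (zpowers L.z) := Nat.finite_of_card_ne_zero (by rw [Nat.card_zpowers, L.z_ord]; norm_num)
  obtain ⟨n, rfl⟩ := mem_zpowers_iff.1 hg
  refine ⟨(n : ZMod 3), ?_⟩
  rw [← zpow_natCast, ZMod.val_intCast, zpow_eq_zpow_iff_modEq, L.z_ord]
  exact (Int.mod_modEq n 3).symm

theorem zpow_inj {a b : ZMod 3} (h : L.z ^ a.val = L.z ^ b.val) : a = b := by
  rw [pow_inj_mod, L.z_ord, Nat.mod_eq_of_lt (ZMod.val_lt a), Nat.mod_eq_of_lt (ZMod.val_lt b)] at h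
  exact ZMod.val_injective 3 h

theorem π_one : L.π 1 = 0 := (L.π_ker 1 (one_mem _)).2 (one_mem _)

theorem π_inv {x : G} (hx : x ∈ L.Q) : L.π x⁻¹ = -L.π x := by
  have h := L.π_mul x hx x⁻¹ (inv_mem hx)
  rw [mul_inv_cancel, L.π_one] at h
  exact eq_neg_of_add_eq_zero_right h.symm

theorem π_pow {x : G} (hx : x ∈ L.Q) (n : ℕ) : L.π (x ^ n) = (n : ZMod 3) • L.π x := by
  induction n with
  | zero => rw [pow_zero, L.π_one, Nat.cast_zero, zero_smul]
  | succ n ih => rw [pow_succ, L.π_mul _ (pow_mem hx n) _ hx, ih, Nat.cast_succ, add_smul, one_smul]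

theorem π_eq_iff {x y : G} (hx : x ∈ L.Q) (hy : y ∈ L.Q) :
    L.π x = L.π y ↔ x⁻¹ * y ∈ zpowers L.z := by
  rw [← L.π_ker _ (mul_mem (inv_mem hx) hy), L.π_mul _ (inv_mem hx) _ hy, L.π_inv hx, neg_add_eq_zero]

theorem comm_iff {x y : G} (hx : x ∈ L.Q) (hy : y ∈ L.Q) :
    x * y = y * x ↔ form L.B (L.π x) (L.π y) = 0 := by
  constructor
  · intro h
    refine L.zpow_inj ?_
    rw [← L.comm x hx y hy, h, ZMod.val_zero, pow_zero]; group
  · intro h
    have := L.comm x hx y hy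
    rw [h, ZMod.val_zero, pow_zero] at this
    exact mul_inv_eq_iff_eq_mul.1 (mul_inv_eq_one.1 this)

theorem conjQ {a x : G} (ha : a ∈ L.C) (hx : x ∈ L.Q) : a * x * a⁻¹ ∈ L.Q :=
  (mem_normalizer_iff.1 (L.Q_normal ha) x).1 hx

theorem ρ_one : L.ρ 1 = 1 := (L.ρ_ker 1 (one_mem _)).2 (one_mem _)

theorem ρ_inv {a : G} (ha : a ∈ L.C) : L.ρ a⁻¹ = (L.ρ a)⁻¹ := by
  have h := L.ρ_mul a ha a⁻¹ (inv_mem ha)
  rw [mul_inv_cancel, L.ρ_one] at h
  exact eq_inv_of_mul_eq_one_right h.symm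

/-- `ρ` as a homomorphism. -/
def ρHom : L.C →* SS := MonoidHom.mk' (fun a => L.ρ a) fun a b => L.ρ_mul a a.2 b b.2

theorem card_isotropic [Finite G] {A : Subgroup G} (hA : A ≤ L.Q)
    (hc : ∀ a ∈ A, ∀ b ∈ A, a * b = b * a) : Nat.card A ≤ 27 := by
  classical
  haveI : Fact (Nat.Prime 3) := ⟨Nat.prime_three⟩
  let S : Submodule (ZMod 3) W4 := AddSubgroup.toZModSubmodule 3
    { carrier := {v | ∃ a ∈ A, L.π a = v}
      zero_mem' := ⟨1, one_mem _, L.π_one⟩
      add_mem' := by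
        rintro _ _ ⟨a, ha, rfl⟩ ⟨b, hb, rfl⟩
        exact ⟨a * b, mul_mem ha hb, L.π_mul a (hA ha) b (hA hb)⟩
      neg_mem' := by
        rintro _ ⟨a, ha, rfl⟩
        exact ⟨a⁻¹, inv_mem ha, L.π_inv (hA ha)⟩ }
  have hS := iso_le_nine L.B_sym L.B_det S (by
    rintro _ ⟨a, ha, rfl⟩ _ ⟨b, hb, rfl⟩
    exact (L.comm_iff (hA ha) (hA hb)).1 (hc a ha b hb))
  let f : A →* Multiplicative S :=
    MonoidHom.mk' (fun a => Multiplicative.ofAdd ⟨L.π a, a, a.2, rfl⟩) fun a b => by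
      rw [← ofAdd_add]; exact congrArg Multiplicative.ofAdd (Subtype.ext (L.π_mul _ (hA a.2) _ (hA b.2)))
  have hker : Nat.card f.ker ≤ 3 := by
    have hi : f.ker.map A.subtype ≤ zpowers L.z := by
      rintro _ ⟨a, ha, rfl⟩
      exact (L.π_ker _ (hA a.2)).1 (congrArg (fun s : Multiplicative S => ((Multiplicative.toAdd s : S) : W4)) ha)
    have := card_le_of_le hi
    rwa [Nat.card_zpowers, L.z_ord, ← Nat.card_congr (f.ker.equivMapOfInjective _ A.subtype_injective).toEquiv] at this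
  rw [← f.ker.index_mul_card, Subgroup.index_ker]
  calc Nat.card f.range * Nat.card f.ker ≤ Nat.card (Multiplicative S) * 3 :=
        Nat.mul_le_mul (card_le_card_group _) hker
    _ ≤ 27 := by rw [Nat.card_congr Multiplicative.toAdd]; omega

/-- Transport along conjugation. -/
def conjBy (g : G) : Loc G where
  z := g * L.z * g⁻¹
  Q := L.Q.map (MulAut.conj g).toMonoidHom
  π x := L.π (g⁻¹ * x * g)
  ρ a := L.ρ (g⁻¹ * a * g)
  B := L.B
  z_ne h := L.z_ne (by rwa [mul_inv_eq_one, mul_eq_left] at h)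
  z_cube := by
    rw [show g * L.z * g⁻¹ * (g * L.z * g⁻¹) * (g * L.z * g⁻¹) = g * (L.z * L.z * L.z) * g⁻¹ by group,
      L.z_cube]; group
  z_mem := ⟨L.z, L.z_mem, rfl⟩
  Q_le := by
    rintro _ ⟨x, hx, rfl⟩
    rw [mem_centralizer_singleton_iff]
    show g * x * g⁻¹ * (g * L.z * g⁻¹) = g * L.z * g⁻¹ * (g * x * g⁻¹)
    rw [show g * x * g⁻¹ * (g * L.z * g⁻¹) = g * (x * L.z) * g⁻¹ by group,
      mem_centralizer_singleton_iff.1 (L.Q_le hx)]
    group
  Q_normal := by
    intro a ha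
    have ha' : g⁻¹ * a * g ∈ L.C := mem_centralizer_singleton_iff.2 (by
      calc g⁻¹ * a * g * L.z = g⁻¹ * (a * (g * L.z * g⁻¹)) * g := by group
        _ = g⁻¹ * ((g * L.z * g⁻¹) * a) * g := by rw [mem_centralizer_singleton_iff.1 ha]
        _ = L.z * (g⁻¹ * a * g) := by group)
    refine mem_normalizer_iff.2 fun x => ⟨?_, ?_⟩
    · rintro ⟨y, hy, rfl⟩
      refine ⟨g⁻¹ * a * g * y * (g⁻¹ * a * g)⁻¹, L.conjQ ha' hy, ?_⟩
      show g * (g⁻¹ * a * g * y * (g⁻¹ * a * g)⁻¹) * g⁻¹ = a * (g * y * g⁻¹) * a⁻¹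
      group
    · rintro ⟨y, hy, hyx⟩
      refine ⟨(g⁻¹ * a * g)⁻¹ * y * (g⁻¹ * a * g), by simpa using L.conjQ (inv_mem ha') hy, ?_⟩
      show g * ((g⁻¹ * a * g)⁻¹ * y * (g⁻¹ * a * g)) * g⁻¹ = x
      calc g * ((g⁻¹ * a * g)⁻¹ * y * (g⁻¹ * a * g)) * g⁻¹ = a⁻¹ * (g * y * g⁻¹) * a := by group
        _ = a⁻¹ * (a * x * a⁻¹) * a := by rw [show g * y * g⁻¹ = a * x * a⁻¹ from hyx]
        _ = x := by group
  exp := by
    rintro _ ⟨x, hx, rfl⟩
    show g * x * g⁻¹ * (g * x * g⁻¹) * (g * x * g⁻¹) = 1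
    rw [show g * x * g⁻¹ * (g * x * g⁻¹) * (g * x * g⁻¹) = g * (x * x * x) * g⁻¹ by group, L.exp x hx]
    group
  π_mul := by
    rintro _ ⟨x, hx, rfl⟩ _ ⟨y, hy, rfl⟩
    simp only [MulEquiv.toMonoidHom_eq_coe, MonoidHom.coe_coe, MulAut.conj_apply]
    rw [show g⁻¹ * (g * x * g⁻¹ * (g * y * g⁻¹)) * g = x * y by group,
      show g⁻¹ * (g * x * g⁻¹) * g = x by group, show g⁻¹ * (g * y * g⁻¹) * g = y by group, L.π_mul x hx y hy]
  π_ker := by
    rintro _ ⟨x, hx, rfl⟩
    simp only [MulEquiv.toMonoidHom_eq_coe, MonoidHom.coe_coe, MulAut.conj_apply]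
    rw [show g⁻¹ * (g * x * g⁻¹) * g = x by group, L.π_ker x hx]
    constructor
    · intro h
      obtain ⟨n, rfl⟩ := mem_zpowers_iff.1 h
      exact ⟨n, conj_zpow⟩
    · rintro ⟨n, hn⟩
      refine ⟨n, ?_⟩
      simp only [conj_zpow] at hn
      exact mul_left_cancel (mul_right_cancel hn)
  π_surj v := by
    obtain ⟨x, hx, rfl⟩ := L.π_surj v
    exact ⟨g * x * g⁻¹, ⟨x, hx, rfl⟩, by group⟩
  ρ_mul a ha b hb := by
    have h : ∀ c ∈ centralizer ({g * L.z * g⁻¹} : Set G), g⁻¹ * c * g ∈ L.C := fun c hc =>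
      mem_centralizer_singleton_iff.2 (by
        calc g⁻¹ * c * g * L.z = g⁻¹ * (c * (g * L.z * g⁻¹)) * g := by group
          _ = g⁻¹ * ((g * L.z * g⁻¹) * c) * g := by rw [mem_centralizer_singleton_iff.1 hc]
          _ = L.z * (g⁻¹ * c * g) := by group)
    rw [← L.ρ_mul _ (h a ha) _ (h b hb)]; group
  ρ_ker a ha := by
    have h : g⁻¹ * a * g ∈ L.C := mem_centralizer_singleton_iff.2 (by
      calc g⁻¹ * a * g * L.z = g⁻¹ * (a * (g * L.z * g⁻¹)) * g := by group
        _ = g⁻¹ * ((g * L.z * g⁻¹) * a) * g := by rw [mem_centralizer_singleton_iff.1 ha]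
        _ = L.z * (g⁻¹ * a * g) := by group)
    rw [L.ρ_ker _ h]
    constructor
    · intro h'; exact ⟨g⁻¹ * a * g, h', show g * (g⁻¹ * a * g) * g⁻¹ = a by group⟩
    · rintro ⟨x, hx, rfl⟩
      show g⁻¹ * (g * x * g⁻¹) * g ∈ L.Q
      rwa [show g⁻¹ * (g * x * g⁻¹) * g = x by group]
  ρ_surj v := by
    obtain ⟨a, ha, rfl⟩ := L.ρ_surj v
    refine ⟨g * a * g⁻¹, mem_centralizer_singleton_iff.2 ?_, by group⟩
    rw [show g * a * g⁻¹ * (g * L.z * g⁻¹) = g * (a * L.z) * g⁻¹ by group,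
      mem_centralizer_singleton_iff.1 ha]
    group
  conj a ha := by
    rintro _ ⟨x, hx, rfl⟩
    have h : g⁻¹ * a * g ∈ L.C := mem_centralizer_singleton_iff.2 (by
      calc g⁻¹ * a * g * L.z = g⁻¹ * (a * (g * L.z * g⁻¹)) * g := by group
        _ = g⁻¹ * ((g * L.z * g⁻¹) * a) * g := by rw [mem_centralizer_singleton_iff.1 ha]
        _ = L.z * (g⁻¹ * a * g) := by group)
    simp only [MulEquiv.toMonoidHom_eq_coe, MonoidHom.coe_coe, MulAut.conj_apply]
    rw [show g⁻¹ * (a * (g * x * g⁻¹) * a⁻¹) * g = (g⁻¹ * a * g) * x * (g⁻¹ * a * g)⁻¹ by group,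
      show g⁻¹ * (g * x * g⁻¹) * g = x by group, L.conj _ h x hx]
  B_sym := L.B_sym
  B_det := L.B_det
  comm := by
    rintro _ ⟨x, hx, rfl⟩ _ ⟨y, hy, rfl⟩
    simp only [MulEquiv.toMonoidHom_eq_coe, MonoidHom.coe_coe, MulAut.conj_apply]
    rw [show g⁻¹ * (g * x * g⁻¹) * g = x by group, show g⁻¹ * (g * y * g⁻¹) * g = y by group,
      conj_pow, ← L.comm x hx y hy]
    group
  fused := by
    obtain ⟨h, h1, h2⟩ := L.fused
    refine ⟨g * h * g⁻¹, ⟨h * L.z * h⁻¹, h1, ?_⟩, fun hm => h2 ?_⟩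
    · show g * (h * L.z * h⁻¹) * g⁻¹ = _
      group
    · obtain ⟨n, hn⟩ := hm
      refine ⟨n, ?_⟩
      simp only [conj_zpow] at hn
      calc L.z ^ n = g⁻¹ * (g * L.z ^ n * g⁻¹) * g := by group
        _ = h * L.z * h⁻¹ := by rw [hn]; group
  sylow := L.sylow

set_option maxHeartbeats 3000000 in
/-- Change of basis of the two natural components. -/
noncomputable def rebase (P : M2) (hP : P.det ≠ 0) : Loc G :=
  { L with
    π := fun x => (P⁻¹ 0 0 • (L.π x).1 + P⁻¹ 0 1 • (L.π x).2, P⁻¹ 1 0 • (L.π x).1 + P⁻¹ 1 1 • (L.π x).2)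
    B := P.transpose * L.B * P
    π_mul := fun x hx y hy => by
      simp only [L.π_mul x hx y hy, Prod.fst_add, Prod.snd_add, Prod.mk_add_mk, smul_add]
      refine Prod.ext ?_ ?_ <;> abel
    π_ker := fun x hx => by
      rw [← L.π_ker x hx]
      constructor
      · intro h
        have h1 := congrArg Prod.fst h
        have h2 := congrArg Prod.snd h
        have hi : P * P⁻¹ = 1 := Matrix.mul_nonsing_inv _ (isUnit_iff_ne_zero.2 hP)
        have e : ∀ i j, (P * P⁻¹) i j = (1 : M2) i j := fun i j => by rw [hi]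
        have e00 := e 0 0
        have e01 := e 0 1
        have e10 := e 1 0
        have e11 := e 1 1
        simp [Matrix.mul_apply, Fin.sum_univ_two] at e00 e01 e10 e11
        ext k
        · have a1 := congrFun h1 k
          have a2 := congrFun h2 k
          simp at a1 a2 ⊢
          linear_combination (P 0 0) * a1 + (P 0 1) * a2 - (L.π x).1 k * e00 - (L.π x).2 k * e01
        · have a1 := congrFun h1 k
          have a2 := congrFun h2 k
          simp at a1 a2 ⊢
          linear_combination (P 1 0) * a1 + (P 1 1) * a2 - (L.π x).1 k * e10 - (L.π x).2 k * e11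
      · intro h; simp [h]
    π_surj := fun v => by
      obtain ⟨x, hx, hxv⟩ := L.π_surj (P 0 0 • v.1 + P 0 1 • v.2, P 1 0 • v.1 + P 1 1 • v.2)
      refine ⟨x, hx, ?_⟩
      have hi : P⁻¹ * P = 1 := Matrix.nonsing_inv_mul _ (isUnit_iff_ne_zero.2 hP)
      have e : ∀ i j, (P⁻¹ * P) i j = (1 : M2) i j := fun i j => by rw [hi]
      have e00 := e 0 0
      have e01 := e 0 1
      have e10 := e 1 0
      have e11 := e 1 1
      simp [Matrix.mul_apply, Fin.sum_univ_two] at e00 e01 e10 e11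
      rw [hxv]
      ext k
      · simp; linear_combination v.1 k * e00 + v.2 k * e01
      · simp; linear_combination v.1 k * e10 + v.2 k * e11
    conj := fun a ha x hx => by
      simp only [L.conj a ha x hx, act, Matrix.mulVec_add, Matrix.mulVec_smul]
    B_sym := by
      rw [Matrix.transpose_mul, Matrix.transpose_mul, Matrix.transpose_transpose, L.B_sym, Matrix.mul_assoc]
    B_det := by
      rw [Matrix.det_mul, Matrix.det_mul, Matrix.det_transpose]
      exact mul_ne_zero (mul_ne_zero hP L.B_det) hP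
    comm := fun x hx y hy => by
      rw [L.comm x hx y hy]
      refine congrArg (fun k : ZMod 3 => L.z ^ k.val) ?_
      have hi : P * P⁻¹ = 1 := Matrix.mul_nonsing_inv _ (isUnit_iff_ne_zero.2 hP)
      have e : ∀ i j, (P * P⁻¹) i j = (1 : M2) i j := fun i j => by rw [hi]
      set R := P⁻¹
      have hB : L.B = R.transpose * (P.transpose * L.B * P) * R := by
        calc L.B = (P * R).transpose * L.B * (P * R) := by rw [hi]; simp
          _ = _ := by rw [Matrix.transpose_mul]; simp only [Matrix.mul_assoc]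
      set B' := P.transpose * L.B * P
      conv_lhs => rw [hB]
      simp [form, det2, Matrix.mul_apply, Fin.sum_univ_two]
      ring }

end Loc

end CfsgLib.L43
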