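import Cfsg.Agent.Classical.Transvections
import Cfsg.Agent.Classical.LinearOrder
import Cfsg.Agent.Solvable.Basics
import Cfsg.Prelude.Def_Solvable

/-!
# `PSL(4,3)` and the stabilizer of a point
-/

set_option autoImplicit false
set_option maxRecDepth 100000
set_option linter.style.haveILetI false
set_option linter.unusedSectionVars false

namespace CfsgLib.L43.PointStab

open Matrix Subgroup

/-- `SL(4,3)`. -/
abbrev S4 := Matrix.SpecialLinearGroup (Fin 4) (ZMod 3)
/-- `SL(3,3)`. -/
abbrev S3 := Matrix.SpecialLinearGroup (Fin 3) (ZMod 3)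
/-- `PSL(4,3)`. -/
abbrev L4 := Matrix.ProjectiveSpecialLinearGroup (Fin 4) (ZMod 3)

/-- The projection. -/
def pr : S4 →* L4 := QuotientGroup.mk' _

theorem pr_surjective : Function.Surjective pr := QuotientGroup.mk'_surjective _

theorem ker_pr : pr.ker = center S4 := QuotientGroup.ker_mk' _

instance fact3 : Fact (Nat.Prime 3) := ⟨Nat.prime_three⟩

theorem scalar_cases {g : S4} (hg : g ∈ center S4) :
    ∃ r : ZMod 3, r * r = 1 ∧ (g : Matrix (Fin 4) (Fin 4) (ZMod 3)) = r • 1 := by
  obtain ⟨r, hr, hg⟩ := Matrix.SpecialLinearGroup.mem_center_iff.1 hg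
  refine ⟨r, ?_, ?_⟩
  · have h : ∀ r : ZMod 3, r ^ 4 = 1 → r * r = 1 := by decide
    exact h r (by simpa using hr)
  · rw [← hg, Matrix.scalar_apply, Matrix.smul_one_eq_diagonal]

/-- The stabilizer of the first point. -/
def L0 : Subgroup S4 where
  carrier := {g | ∀ i : Fin 3, g.1 i.succ 0 = 0}
  one_mem' := fun i => by simp [Matrix.one_apply, Fin.succ_ne_zero]
  mul_mem' := by
    intro a b ha hb i
    rw [Matrix.SpecialLinearGroup.coe_mul, Matrix.mul_apply, Fin.sum_univ_succ, ha i, zero_mul,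
      zero_add]
    exact Finset.sum_eq_zero fun j _ => by rw [hb j, mul_zero]
  inv_mem' := by
    intro a ha i
    have h : ((a⁻¹ : S4).1 * a.1) i.succ 0 = 0 := by
      rw [← Matrix.SpecialLinearGroup.coe_mul, inv_mul_cancel]
      simp [Matrix.one_apply, Fin.succ_ne_zero]
    rw [Matrix.mul_apply, Fin.sum_univ_succ, Finset.sum_eq_zero fun j _ => by rw [ha j, mul_zero],
      add_zero, mul_eq_zero] at h
    refine h.resolve_right fun h0 => ?_
    have hd := a.2
    rw [Matrix.det_eq_zero_of_column_eq_zero 0 fun k => by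
      refine Fin.cases h0 (fun j => ha j) k] at hd
    exact zero_ne_one hd

theorem mem_L0 {g : S4} : g ∈ L0 ↔ ∀ i : Fin 3, g.1 i.succ 0 = 0 := Iff.rfl

theorem center_le_L0 : center S4 ≤ L0 := by
  intro g hg i
  obtain ⟨r, -, h⟩ := scalar_cases hg
  rw [h]
  simp [Matrix.smul_apply, Matrix.one_apply, Fin.succ_ne_zero]

/-! ### Maximality -/

/-- A completion of a vector off the first point. -/
def moveMat (v : Fin 4 → ZMod 3) : Matrix (Fin 4) (Fin 4) (ZMod 3) :=
  let i : Fin 4 := if v 1 ≠ 0 then 1 else if v 2 ≠ 0 then 2 else 3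
  let M : Matrix (Fin 4) (Fin 4) (ZMod 3) := fun a b =>
    if b = 1 then v a else if b = i then (if a = 1 then 1 else 0) else if a = b then 1 else 0
  fun a b => if b = 0 then M a b * M.det else M a b

theorem moveMat_spec : ∀ v : Fin 4 → ZMod 3, ¬ (v 1 = 0 ∧ v 2 = 0 ∧ v 3 = 0) →
    (moveMat v).det = 1 ∧ (∀ i : Fin 3, moveMat v i.succ 0 = 0) ∧ ∀ a, moveMat v a 1 = v a := by
  decide +kernel

theorem exists_move {g : S4} (hg : g ∉ L0) :
    ∃ h ∈ L0, ∀ a, (h * g).1 a 0 = if a = 1 then 1 else 0 := by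
  have hv : ¬ (g.1 1 0 = 0 ∧ g.1 2 0 = 0 ∧ g.1 3 0 = 0) := fun ⟨h1, h2, h3⟩ => hg fun i => by
    fin_cases i <;> assumption
  obtain ⟨hd, hz, hcol⟩ := moveMat_spec (fun a => g.1 a 0) hv
  let m : S4 := ⟨moveMat fun a => g.1 a 0, hd⟩
  refine ⟨m⁻¹, L0.inv_mem hz, fun a => ?_⟩
  have h1 : ((m⁻¹ : S4).1 * m.1) a 1 = if a = 1 then 1 else 0 := by
    rw [← Matrix.SpecialLinearGroup.coe_mul, inv_mul_cancel, Matrix.SpecialLinearGroup.coe_one,
      Matrix.one_apply]
  rw [← h1, Matrix.SpecialLinearGroup.coe_mul, Matrix.mul_apply, Matrix.mul_apply]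
  exact Finset.sum_congr rfl fun j _ => congrArg _ (hcol j).symm

theorem isCoatom_L0 : IsCoatom L0 := by
  constructor
  · intro h
    let T : S4 := ⟨!![1, 0, 0, 0; 1, 1, 0, 0; 0, 0, 1, 0; 0, 0, 0, 1], by decide +kernel⟩
    have hT : T ∈ L0 := h ▸ Subgroup.mem_top T
    exact absurd (hT 0) (by decide +kernel)
  · intro K hK
    obtain ⟨g, hgK, hg⟩ := SetLike.exists_of_lt hK
    refine eq_top_iff.2 fun g' _ => ?_
    by_cases hg' : g' ∈ L0
    · exact hK.le hg'
    obtain ⟨h, hh, hhc⟩ := exists_move hg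
    obtain ⟨h', hh', hhc'⟩ := exists_move hg'
    have hmem : (h * g)⁻¹ * (h' * g') ∈ L0 := by
      intro i
      have hc : ((h' * g') : S4).1 *ᵥ Pi.single 0 1 = (h * g).1 *ᵥ Pi.single 0 1 := by
        rw [Matrix.mulVec_single_one, Matrix.mulVec_single_one]
        funext a
        exact (hhc' a).trans (hhc a).symm
      have h2 : (((h * g)⁻¹ * (h' * g') : S4)).1 *ᵥ Pi.single 0 1 = Pi.single 0 1 := by
        rw [Matrix.SpecialLinearGroup.coe_mul, ← Matrix.mulVec_mulVec, hc, Matrix.mulVec_mulVec,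
          ← Matrix.SpecialLinearGroup.coe_mul, inv_mul_cancel, Matrix.SpecialLinearGroup.coe_one,
          Matrix.one_mulVec]
      have h3 := congrFun h2 i.succ
      rw [Matrix.mulVec_single_one] at h3
      simpa [Fin.succ_ne_zero] using h3
    have h4 := K.mul_mem (K.inv_mem (hK.le hh')) (K.mul_mem (K.mul_mem (hK.le hh) hgK) (hK.le hmem))
    rwa [mul_inv_cancel_left, inv_mul_cancel_left] at h4

/-- The maximal parabolic subgroup. -/
def P : Subgroup L4 := L0.map pr

theorem comap_P : P.comap pr = L0 := by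
  rw [P, Subgroup.comap_map_eq, ker_pr, sup_eq_left.2 center_le_L0]

theorem isCoatom_P : IsCoatom P := by
  constructor
  · intro h
    refine isCoatom_L0.1 ?_
    rw [← comap_P, h, Subgroup.comap_top]
  · intro K hK
    have h := isCoatom_L0.2 (K.comap pr) (by
      rw [← comap_P]
      refine lt_of_le_of_ne (Subgroup.comap_mono hK.le) fun e => hK.ne ?_
      exact Subgroup.comap_injective pr_surjective e)
    exact Subgroup.comap_injective pr_surjective (h.trans (Subgroup.comap_top pr).symm)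

/-! ### The Levi quotient -/

/-- The lower block times the corner. -/
def tauMat (g : S4) : Matrix (Fin 3) (Fin 3) (ZMod 3) := fun i j => g.1 0 0 * g.1 i.succ j.succ

theorem det_split {g : S4} (hg : g ∈ L0) :
    g.1 0 0 * Matrix.det (Matrix.of fun i j : Fin 3 => g.1 i.succ j.succ) = 1 := by
  have hd := g.2
  rw [Matrix.det_succ_column_zero, Fin.sum_univ_succ] at hd
  rw [Finset.sum_eq_zero fun i _ => by rw [hg i]; ring] at hd
  rw [add_zero, Fin.val_zero, pow_zero, one_mul] at hd
  exact hd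

theorem corner_sq {g : S4} (hg : g ∈ L0) : g.1 0 0 * g.1 0 0 = 1 := by
  have h : ∀ a b : ZMod 3, a * b = 1 → a * a = 1 := by decide
  exact h _ _ (det_split hg)

theorem det_tauMat {g : S4} (hg : g ∈ L0) : (tauMat g).det = 1 := by
  rw [show tauMat g = g.1 0 0 • Matrix.of (fun i j : Fin 3 => g.1 i.succ j.succ) from rfl, Matrix.det_smul,
    Fintype.card_fin, pow_succ, pow_two, mul_assoc, det_split hg, mul_one]
  exact corner_sq hg

theorem tauMat_mul {g h : S4} (hg : g ∈ L0) (hh : h ∈ L0) :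
    tauMat (g * h) = tauMat g * tauMat h := by
  funext i j
  have h00 : (g * h).1 0 0 = g.1 0 0 * h.1 0 0 := by
    rw [Matrix.SpecialLinearGroup.coe_mul, Matrix.mul_apply, Fin.sum_univ_succ,
      Finset.sum_eq_zero fun k _ => by rw [hh k, mul_zero], add_zero]
  have hij : (g * h).1 i.succ j.succ = ∑ k : Fin 3, g.1 i.succ k.succ * h.1 k.succ j.succ := by
    rw [Matrix.SpecialLinearGroup.coe_mul, Matrix.mul_apply, Fin.sum_univ_succ, hg i, zero_mul,
      zero_add]
  show (g * h).1 0 0 * (g * h).1 i.succ j.succ = _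
  rw [h00, hij, Finset.mul_sum, Matrix.mul_apply]
  exact Finset.sum_congr rfl fun k _ => by simp only [tauMat]; ring

/-- The map onto `SL(3,3)`. -/
def tau : L0 →* S3 :=
  MonoidHom.mk' (fun g => ⟨tauMat g.1, det_tauMat g.2⟩) fun a b =>
    Subtype.ext (tauMat_mul a.2 b.2)

theorem center_le_ker_tau {g : L0} (hg : (g : S4) ∈ center S4) : tau g = 1 := by
  obtain ⟨r, hr, h⟩ := scalar_cases hg
  refine Subtype.ext ?_
  funext i j
  show g.1.1 0 0 * g.1.1 i.succ j.succ = (1 : Matrix (Fin 3) (Fin 3) (ZMod 3)) i j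
  rw [h]
  by_cases hij : i = j
  · subst hij; simp [hr]
  · simp [Matrix.smul_apply, Matrix.one_apply, hij]

/-- The map onto `SL(3,3)` from the parabolic subgroup. -/
noncomputable def tau' : P →* S3 :=
  MonoidHom.liftOfSurjective (pr.subgroupMap L0) (pr.subgroupMap_surjective L0)
    ⟨tau, fun g hg => center_le_ker_tau (by
      rw [← ker_pr]; exact congrArg Subtype.val (MonoidHom.mem_ker.1 hg))⟩

theorem tau'_apply (g : L0) : tau' (pr.subgroupMap L0 g) = tau g :=
  MonoidHom.liftOfRightInverse_comp_apply _ _ _ _ g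

/-- The block matrix. -/
def blockMat (v : Fin 3 → ZMod 3) (A : Matrix (Fin 3) (Fin 3) (ZMod 3)) :
    Matrix (Fin 4) (Fin 4) (ZMod 3) :=
  Matrix.of (Fin.cons (Fin.cons 1 v) fun i => Fin.cons 0 (A i))

theorem det_blockMat (v : Fin 3 → ZMod 3) (A : Matrix (Fin 3) (Fin 3) (ZMod 3)) :
    (blockMat v A).det = A.det := by
  rw [Matrix.det_succ_column_zero, Fin.sum_univ_succ, Finset.sum_eq_zero fun i _ => by
    rw [show blockMat v A i.succ 0 = 0 from rfl]; ring, add_zero, Fin.val_zero, pow_zero, one_mul,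
    show blockMat v A 0 0 = 1 from rfl, one_mul]
  rfl

theorem blockMat_mul (v w : Fin 3 → ZMod 3) (A B : Matrix (Fin 3) (Fin 3) (ZMod 3)) :
    blockMat v A * blockMat w B = blockMat (w + v ᵥ* B) (A * B) := by
  funext a b
  rw [Matrix.mul_apply, Fin.sum_univ_succ]
  refine Fin.cases ?_ (fun i => ?_) a <;> refine Fin.cases ?_ (fun j => ?_) b <;>
    simp [blockMat, Matrix.vecMul, dotProduct, Matrix.mul_apply]

/-- The block element. -/
def block (v : Fin 3 → ZMod 3) (A : S3) : L0 :=
  ⟨⟨blockMat v A.1, (det_blockMat v A.1).trans A.2⟩, fun _ => rfl⟩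

theorem block_mul (v w : Fin 3 → ZMod 3) (A B : S3) :
    block v A * block w B = block (w + v ᵥ* B.1) (A * B) :=
  Subtype.ext (Subtype.ext (blockMat_mul v w A.1 B.1))

theorem tau_block (v : Fin 3 → ZMod 3) (A : S3) : tau (block v A) = A := by
  refine Subtype.ext ?_
  funext i j
  show (1 : ZMod 3) * A.1 i j = _
  rw [one_mul]

/-- The normal subgroup of order 27. -/
def colHom : Multiplicative (Fin 3 → ZMod 3) →* P :=
  (pr.subgroupMap L0).comp (MonoidHom.mk' (fun v => block v.toAdd 1) fun v w => by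
    rw [block_mul, mul_one, Matrix.SpecialLinearGroup.coe_one, Matrix.vecMul_one, toAdd_mul,
      add_comm])

/-- The complement. -/
def leviHom : S3 →* P :=
  (pr.subgroupMap L0).comp (MonoidHom.mk' (fun A => block 0 A) fun A B => by
    rw [block_mul, Matrix.zero_vecMul, add_zero])

theorem colHom_injective : Function.Injective colHom := by
  rw [injective_iff_map_eq_one]
  intro v hv
  have h : (block v.toAdd 1 : S4) ∈ center S4 := by
    rw [← ker_pr]
    exact congrArg Subtype.val hv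
  obtain ⟨r, -, h⟩ := scalar_cases h
  refine Multiplicative.toAdd.injective (funext fun j => ?_)
  have h1 := congrFun (congrFun h 0) j.succ
  simpa [block, blockMat, (Fin.succ_ne_zero j).symm] using h1

theorem tau'_colHom (v : Multiplicative (Fin 3 → ZMod 3)) : tau' (colHom v) = 1 := by
  show tau' (pr.subgroupMap L0 _) = 1
  rw [tau'_apply]
  exact tau_block _ 1

theorem tau'_leviHom (A : S3) : tau' (leviHom A) = A := by
  show tau' (pr.subgroupMap L0 _) = A
  rw [tau'_apply]
  exact tau_block _ A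

theorem tau'_surjective : Function.Surjective tau' := fun A => ⟨_, tau'_leviHom A⟩

theorem ker_tau' : tau'.ker = colHom.range := by
  refine le_antisymm (fun x hx => ?_) ?_
  swap
  · rintro _ ⟨v, rfl⟩
    exact tau'_colHom v
  obtain ⟨g, rfl⟩ := pr.subgroupMap_surjective L0 x
  replace hx : tau g = 1 := (tau'_apply g).symm.trans hx
  have hA : ∀ i j : Fin 3, g.1.1 0 0 * g.1.1 i.succ j.succ = (1 : Matrix (Fin 3) (Fin 3) (ZMod 3)) i j :=
    fun i j => congrFun (congrFun (congrArg Subtype.val hx) i) j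
  have hd := corner_sq g.2
  refine ⟨Multiplicative.ofAdd fun j => g.1.1 0 0 * g.1.1 0 j.succ, Subtype.ext ?_⟩
  refine (QuotientGroup.eq).2 ?_
  refine Matrix.SpecialLinearGroup.mem_center_iff.2 ⟨g.1.1 0 0, ?_, ?_⟩
  · have h4 : ∀ a : ZMod 3, a * a = 1 → a ^ 4 = 1 := by decide
    rw [Fintype.card_fin]; exact h4 _ hd
  set b : S4 := ((block (fun j => g.1.1 0 0 * g.1.1 0 j.succ) 1 : L0) : S4) with hb
  have hg : g.1.1 = b.1 * (Matrix.scalar (Fin 4) (g.1.1 0 0)) := by
    rw [Matrix.scalar_apply]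
    funext a c
    rw [Matrix.mul_diagonal]
    refine Fin.cases ?_ (fun i => ?_) a <;> refine Fin.cases ?_ (fun j => ?_) c
    · simp [hb, block, blockMat]
    · simp [hb, block, blockMat]
      linear_combination (-(g.1.1 0 j.succ)) * hd
    · simp [hb, block, blockMat, g.2 i]
    · have h1 := hA i j
      by_cases hij : i = j
      · subst hij
        simp [hb, block, blockMat] at h1 ⊢
        linear_combination (g.1.1 0 0) * h1 - g.1.1 i.succ i.succ * hd
      · rw [Matrix.one_apply_ne hij] at h1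
        simp [hb, block, blockMat, Matrix.one_apply_ne hij]
        linear_combination (g.1.1 0 0) * h1 - g.1.1 i.succ j.succ * hd
  show _ = ((b⁻¹ * g.1 : S4)).1
  rw [Matrix.SpecialLinearGroup.coe_mul]
  conv_rhs => rw [hg]
  rw [← mul_assoc, ← Matrix.SpecialLinearGroup.coe_mul,
    inv_mul_cancel, Matrix.SpecialLinearGroup.coe_one, one_mul]

theorem card_S3 : Nat.card S3 = 5616 := by
  have h := CfsgLib.Linear.card_SL_mul (F := ZMod 3) (ZMod.card 3) 3 (by norm_num)
  rw [Fin.prod_univ_three] at h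
  norm_num [-Nat.card_eq_fintype_card] at h
  have h' : 2 * Nat.card S3 = 11232 := h
  omega

theorem card_colHom_range : Nat.card colHom.range = 27 := by
  rw [← Nat.card_congr (MonoidHom.ofInjective colHom_injective).toEquiv, Nat.card_eq_fintype_card,
    Fintype.card_multiplicative, Fintype.card_fun, ZMod.card, Fintype.card_fin]
  norm_num

theorem no_pgroup_normal (N : Subgroup S3) [N.Normal] (hN : IsPGroup 3 N) : N = ⊥ := by
  haveI := CfsgLib.Linear.isSimpleGroup_PSL (ι := Fin 3) (F := ZMod 3) (Or.inl (by simp))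
  have hc : center S3 = ⊥ := by
    rw [Subgroup.eq_bot_iff_forall]
    intro g hg
    obtain ⟨r, hr, hg⟩ := Matrix.SpecialLinearGroup.mem_center_iff.1 hg
    have h : ∀ r : ZMod 3, r ^ 3 = 1 → r = 1 := by decide
    refine Subtype.ext ?_
    rw [← hg, h r (by simpa using hr), map_one]
    rfl
  rcases (Subgroup.Normal.map inferInstance (QuotientGroup.mk' (center S3))
    (QuotientGroup.mk'_surjective _) : (N.map (QuotientGroup.mk' (center S3))).Normal).eq_bot_or_eq_top
      with h | h
  · rw [Subgroup.map_eq_bot_iff, QuotientGroup.ker_mk', hc] at h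
    exact eq_bot_iff.2 h
  · exfalso
    obtain ⟨k, hk⟩ := IsPGroup.iff_card.1 (hN.map (QuotientGroup.mk' (center S3)))
    have h1 : Nat.card (S3 ⧸ center S3) = 3 ^ k := by
      rw [← hk, h]; exact (Nat.card_congr Subgroup.topEquiv.toEquiv).symm
    have h2 := (center S3).card_eq_card_quotient_mul_card_subgroup
    rw [h1, hc, Subgroup.card_bot, mul_one, card_S3] at h2
    have : 2 ∣ 3 ^ k := h2 ▸ (by norm_num)
    exact absurd (Nat.prime_two.dvd_of_dvd_pow this) (by norm_num)

theorem pCore_P : Cfsg.pCore 3 P = tau'.ker := by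
  refine le_antisymm ?_ ?_
  · haveI : (Cfsg.pCore 3 P).Normal := CfsgLib.Solvable.pCore_normal 3
    haveI := Subgroup.Normal.map (inferInstance : (Cfsg.pCore 3 P).Normal) tau' tau'_surjective
    rw [← Subgroup.map_eq_bot_iff]
    exact no_pgroup_normal _ ((CfsgLib.Solvable.isPGroup_pCore 3).map _)
  · refine CfsgLib.Solvable.le_pCore (p := 3) (MonoidHom.normal_ker tau') ?_
    exact IsPGroup.of_card (n := 3) (by rw [ker_tau', card_colHom_range]; norm_num)

theorem card_pCore_P : Nat.card (Cfsg.pCore 3 P) = 27 := by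
  rw [pCore_P, ker_tau', card_colHom_range]

theorem quotient_P : Nonempty (P ⧸ Cfsg.pCore 3 P ≃* S3) := by
  haveI : (Cfsg.pCore 3 P).Normal := CfsgLib.Solvable.pCore_normal 3
  exact ⟨(QuotientGroup.quotientMulEquivOfEq pCore_P).trans
    (QuotientGroup.quotientKerEquivOfSurjective tau' tau'_surjective)⟩

theorem card_P : Nat.card P = 151632 := by
  rw [Subgroup.card_eq_card_quotient_mul_card_subgroup tau'.ker,
    Nat.card_congr (QuotientGroup.quotientKerEquivOfSurjective tau' tau'_surjective).toEquiv,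
    ker_tau', card_colHom_range, card_S3]

/-- `A (v) = v A⁻¹`. -/
theorem levi_conj (A : S3) (v : Fin 3 → ZMod 3) :
    leviHom A * colHom (Multiplicative.ofAdd v) * (leviHom A)⁻¹ =
      colHom (Multiplicative.ofAdd (v ᵥ* (A⁻¹ : S3).1)) := by
  rw [← map_inv]
  show pr.subgroupMap L0 (block 0 A) * pr.subgroupMap L0 (block v 1) *
    pr.subgroupMap L0 (block 0 A⁻¹) = pr.subgroupMap L0 (block _ 1)
  rw [← map_mul, ← map_mul, block_mul, block_mul, mul_one, mul_inv_cancel, zero_add,
    Matrix.SpecialLinearGroup.coe_one]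
  simp only [Matrix.vecMul_one, Matrix.zero_vecMul, zero_add, add_zero, toAdd_ofAdd]

theorem exists_decomp (x : P) : ∃ v A, x = colHom v * leviHom A := by
  have h : x * (leviHom (tau' x))⁻¹ ∈ colHom.range := by
    rw [← ker_tau', MonoidHom.mem_ker, map_mul, map_inv, tau'_leviHom, mul_inv_cancel]
  obtain ⟨v, hv⟩ := h
  exact ⟨v, tau' x, by rw [hv, inv_mul_cancel_right]⟩

variable {G : Type*} [Group G]

/-- Recognition of the parabolic subgroup: dual action. -/
theorem iso_P_of_dual [Finite G] (ι : Multiplicative (Fin 3 → ZMod 3) →* G) (φ : S3 →* G)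
    (hι : Function.Injective ι) (hcard : Nat.card G = 151632)
    (hφ : ∀ A, φ A ∈ ι.range → A = 1)
    (hconj : ∀ A v, φ A * ι (Multiplicative.ofAdd v) * (φ A)⁻¹ =
      ι (Multiplicative.ofAdd (v ᵥ* (A⁻¹ : S3).1))) : Nonempty (G ≃* P) := by
  classical
  choose vv AA hx using exists_decomp
  have huniq : ∀ (x : P) v A, x = colHom v * leviHom A → v = vv x ∧ A = AA x := by
    intro x v A h
    have h1 := congrArg tau' ((hx x).symm.trans h)
    simp only [map_mul, tau'_colHom, tau'_leviHom, one_mul] at h1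
    refine ⟨colHom_injective ?_, h1.symm⟩
    have h2 := (hx x).symm.trans h
    rw [h1] at h2
    exact (mul_right_cancel h2).symm
  let f : P →* G := MonoidHom.mk' (fun x => ι (vv x) * φ (AA x)) fun x y => by
    obtain ⟨v, hv⟩ : ∃ v, v = vv x * Multiplicative.ofAdd ((vv y).toAdd ᵥ* ((AA x)⁻¹ : S3).1) :=
      ⟨_, rfl⟩
    have hxy : x * y = colHom v * leviHom (AA x * AA y) := by
      conv_lhs => rw [hx x, hx y]
      rw [hv, map_mul, map_mul leviHom, ← levi_conj]
      simp only [ofAdd_toAdd]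
      group
    obtain ⟨h1, h2⟩ := huniq _ _ _ hxy
    rw [← h1, ← h2, hv, map_mul, map_mul φ, ← hconj]
    simp only [ofAdd_toAdd]
    group
  have hinj : Function.Injective f := by
    rw [injective_iff_map_eq_one]
    intro x hf
    have h : φ (AA x) = ι (vv x)⁻¹ := by
      rw [map_inv]; exact eq_inv_of_mul_eq_one_right hf
    have hA := hφ _ ⟨_, h.symm⟩
    rw [hA, map_one, ← map_one ι] at h
    rw [hx x, hA, map_one, mul_one, inv_eq_one.1 (hι h).symm, map_one]
  exact ⟨(MulEquiv.ofBijective f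
    ((Nat.bijective_iff_injective_and_card f).2 ⟨hinj, card_P.trans hcard.symm⟩)).symm⟩

/-- Inverse transpose. -/
def dual : S3 →* S3 := MonoidHom.mk'
  (fun A => ⟨((A⁻¹ : S3).1)ᵀ, (Matrix.det_transpose _).trans (A⁻¹ : S3).2⟩) fun A B => Subtype.ext (by
    show ((A * B)⁻¹ : S3).1ᵀ = (A⁻¹ : S3).1ᵀ * (B⁻¹ : S3).1ᵀ
    rw [_root_.mul_inv_rev, Matrix.SpecialLinearGroup.coe_mul, Matrix.transpose_mul])

/-- Recognition of the parabolic subgroup: natural action. -/
theorem iso_P_of_natural [Finite G] (ι : Multiplicative (Fin 3 → ZMod 3) →* G) (φ : S3 →* G)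
    (hι : Function.Injective ι) (hcard : Nat.card G = 151632)
    (hφ : ∀ A, φ A ∈ ι.range → A = 1)
    (hconj : ∀ A v, φ A * ι (Multiplicative.ofAdd v) * (φ A)⁻¹ =
      ι (Multiplicative.ofAdd (A.1 *ᵥ v))) : Nonempty (G ≃* P) := by
  refine iso_P_of_dual ι (φ.comp dual) hι hcard (fun A h => ?_) fun A v => ?_
  · have h1 := congrArg Subtype.val (hφ _ h)
    change ((A⁻¹ : S3).1)ᵀ = 1 at h1
    rw [Matrix.transpose_eq_one] at h1
    exact inv_eq_one.1 (Subtype.ext h1)
  · rw [MonoidHom.comp_apply, hconj]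
    show ι (Multiplicative.ofAdd (((A⁻¹ : S3).1)ᵀ *ᵥ v)) = _
    rw [Matrix.mulVec_transpose]

theorem card_L4 : Nat.card L4 = 6065280 := by
  have h := CfsgLib.Linear.card_SL_mul (F := ZMod 3) (ZMod.card 3) 4 (by norm_num)
  rw [Fin.prod_univ_four] at h
  norm_num [-Nat.card_eq_fintype_card] at h
  have hc : Nat.card (center S4) = 2 := by
    rw [Nat.card_congr (Matrix.SpecialLinearGroup.center_equiv_rootsOfUnity).toEquiv,
      CfsgLib.Linear.card_rootsOfUnity_eq, Nat.card_zmod]
    simp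
  have h2 := (center S4).card_eq_card_quotient_mul_card_subgroup
  rw [hc] at h2
  have h' : 2 * Nat.card S4 = 24261120 := h
  show Nat.card (S4 ⧸ center S4) = _
  omega

/-- A nontrivial image of `SL(4,3)` killing the centre is `PSL(4,3)`. -/
theorem range_iso_L4 (φ : S4 →* G) (hz : center S4 ≤ φ.ker) (hne : φ ≠ 1) :
    Nonempty (φ.range ≃* L4) := by
  haveI : IsSimpleGroup L4 := CfsgLib.Linear.isSimpleGroup_PSL (Or.inl (by simp))
  let ψ : L4 →* G := QuotientGroup.lift (center S4) φ hz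
  have hψ : ∀ g, ψ (pr g) = φ g := fun g => rfl
  have hker : ψ.ker = ⊥ := by
    rcases ψ.normal_ker.eq_bot_or_eq_top with h | h
    · exact h
    · exact absurd (MonoidHom.ext fun g => (hψ g).symm.trans (MonoidHom.mem_ker.1 (h ▸ mem_top _))) hne
  have hrange : ψ.range = φ.range := by
    ext x
    constructor
    · rintro ⟨y, rfl⟩
      obtain ⟨g, rfl⟩ := pr_surjective y
      exact ⟨g, rfl⟩
    · rintro ⟨g, rfl⟩
      exact ⟨pr g, rfl⟩
  exact ⟨(MulEquiv.subgroupCongr hrange).symm.trans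
    (MonoidHom.ofInjective ((MonoidHom.ker_eq_bot_iff ψ).1 hker)).symm⟩

end CfsgLib.L43.PointStab
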