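import Cfsg.Agent.LFourThree.Emb
import Cfsg.Agent.LFourThree.PointStab

/-!
# From the interface to the two conclusions
-/

set_option autoImplicit false
set_option maxRecDepth 100000
set_option linter.style.haveILetI false

namespace CfsgLib.L43

open Matrix Subgroup

universe u

theorem Pv_le_L0 : Pv ≤ PointStab.L0 := fun g hg i => by
  have h := mem_Pv.1 hg i.succ
  rwa [if_neg (Fin.succ_ne_zero i)] at h

theorem neg_one_det : (-1 : M4).det = 1 := by decide +kernel

/-- The point stabiliser of `SL(4,3)` fixing a vector is the parabolic subgroup of `PSL(4,3)`. -/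
theorem Pv_iso_P : Nonempty (Pv ≃* PointStab.P) := by
  let f : Pv →* PointStab.P :=
    (PointStab.pr.subgroupMap PointStab.L0).comp (Subgroup.inclusion Pv_le_L0)
  have hinj : Function.Injective f := by
    rw [injective_iff_map_eq_one]
    intro g hg
    have h : (g : SL4) ∈ center SL4 := by
      rw [← PointStab.ker_pr]
      exact congrArg Subtype.val hg
    obtain ⟨r, -, hr⟩ := PointStab.scalar_cases h
    have h00 := mem_Pv.1 g.2 0
    rw [hr] at h00
    simp at h00
    refine Subtype.ext (Subtype.ext ?_)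
    rw [hr, h00, one_smul]
    rfl
  have hsurj : Function.Surjective f := by
    intro x
    obtain ⟨g, rfl⟩ := PointStab.pr.subgroupMap_surjective PointStab.L0 x
    have hor : ∀ a : ZMod 3, a * a = 1 → a = 1 ∨ a = -1 := by decide
    rcases hor _ (PointStab.corner_sq g.2) with h | h
    · refine ⟨⟨g.1, mem_Pv.2 fun i => ?_⟩, Subtype.ext rfl⟩
      exact Fin.cases h (fun j => (g.2 j).trans (if_neg (Fin.succ_ne_zero j)).symm) i
    · let n : SL4 := ⟨-1, neg_one_det⟩
      refine ⟨⟨n * g.1, mem_Pv.2 fun i => ?_⟩, Subtype.ext ?_⟩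
      · show ((-1 : M4) * g.1.1) i 0 = _
        rw [neg_one_mul, Matrix.neg_apply]
        refine Fin.cases ?_ (fun j => ?_) i
        · rw [h, neg_neg, if_pos rfl]
        · rw [g.2 j, neg_zero, if_neg (Fin.succ_ne_zero j)]
      · show PointStab.pr (n * g.1) = PointStab.pr g.1
        rw [map_mul, show PointStab.pr n = 1 from ?_, one_mul]
        rw [← MonoidHom.mem_ker, PointStab.ker_pr, Matrix.SpecialLinearGroup.mem_center_iff]
        refine ⟨-1, by decide, ?_⟩
        show _ = (-1 : M4)
        rw [map_neg, map_one]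
  exact ⟨MulEquiv.ofBijective f ⟨hinj, hsurj⟩⟩

variable {G : Type u} [Group G] {E : Emb G}

/-- If the parabolic is everything, `G` is the maximal parabolic subgroup. -/
theorem Emb.conclusion (h : E.ψ.range = ⊤) :
    ∃ P : Subgroup (Matrix.ProjectiveSpecialLinearGroup (Fin 4) (ZMod 3)),
      IsCoatom P ∧ Nat.card (Cfsg.pCore 3 P) = 27 ∧
      Nonempty (P ⧸ Cfsg.pCore 3 P ≃* Matrix.SpecialLinearGroup (Fin 3) (ZMod 3)) ∧
      Nonempty (G ≃* P) := by
  obtain ⟨e⟩ := Pv_iso_P
  refine ⟨PointStab.P, PointStab.isCoatom_P, PointStab.card_pCore_P, PointStab.quotient_P, ⟨?_⟩⟩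
  exact ((MulEquiv.ofBijective E.ψ ⟨E.inj, MonoidHom.range_eq_top.1 h⟩).symm.trans e)

/-- If the extension is everything, `G` is `PSL(4,3)`. -/
theorem Full.conclusion (F : Full E) (h : F.φ.range = ⊤) :
    Nonempty (G ≃* Matrix.ProjectiveSpecialLinearGroup (Fin 4) (ZMod 3)) := by
  obtain ⟨e⟩ := PointStab.range_iso_L4 F.φ (fun g hg => by
    obtain ⟨r, hr, hg⟩ := PointStab.scalar_cases hg
    rw [MonoidHom.mem_ker, F.ker]
    have hor : ∀ a : ZMod 3, a * a = 1 → a = 1 ∨ a = -1 := by decide
    rcases hor r hr with rfl | rfl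
    · exact Or.inl (by rw [hg, one_smul])
    · exact Or.inr (by rw [hg, neg_one_smul])) (fun e => by
      have h1 : F.φ (zm : SL4) = 1 := by rw [e]; rfl
      rcases (F.ker _).1 h1 with h2 | h2
      · exact absurd (congrFun (congrFun h2 0) 3) (by decide +kernel)
      · exact absurd (congrFun (congrFun h2 0) 3) (by decide +kernel))
  exact ⟨(Subgroup.topEquiv.symm.trans (MulEquiv.subgroupCongr h.symm)).trans e⟩

end CfsgLib.L43
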