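import Cfsg.Agent.LFourThree.Affine
import Mathlib.GroupTheory.PGroup

/-!
# An embedded maximal parabolic containing a three-centraliser
-/

set_option autoImplicit false
set_option linter.style.haveILetI false

namespace CfsgLib.L43

open Subgroup

universe u

/-- A copy of `3^3:SL(3,3)` containing the centraliser of its central element of order three. -/
structure Emb (G : Type u) [Group G] where
  ψ : Pv →* G
  inj : Function.Injective ψ
  cent : centralizer ({ψ zm} : Set G) ≤ ψ.range
  pure : ∀ g : G, ∀ x ∈ Qm, g * ψ zm * g⁻¹ = ψ x → Pure (x : SL4).1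
  norm : normalizer ((Um.map ψ : Subgroup G) : Set G) ≤ ψ.range
  sylow : ∀ P : Subgroup G, IsPGroup 3 P → Nat.card P ≤ 729

namespace Emb

variable {G : Type u} [Group G] (E : Emb G)

/-- The distinguished element of order three. -/
abbrev z : G := E.ψ zm

/-- The abelian subgroup of order `81`. -/
abbrev J : Subgroup G := Jm.map E.ψ

/-- No conjugate of the central element lies in the radical outside `U`. -/
def OnlyU : Prop :=
  ∀ g : G, ∀ x ∈ Qm, g * E.z * g⁻¹ = E.ψ x → InU (x : SL4).1

end Emb

/-- The parabolic extends to a copy of `PSL(4,3)`. -/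
structure Full {G : Type u} [Group G] (E : Emb G) where
  φ : SL4 →* G
  φ_eq : ∀ g : Pv, φ g = E.ψ g
  ker : ∀ g, φ g = 1 ↔ g.1 = 1 ∨ g.1 = -1

end CfsgLib.L43
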