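import Cfsg.Agent.LFourThree.Levi
import Cfsg.Agent.LFourThree.Emb

/-!
# The parabolic inside the group
-/

set_option autoImplicit false
set_option maxRecDepth 100000
set_option linter.style.haveILetI false
set_option linter.unusedSectionVars false
set_option maxHeartbeats 1600000

namespace CfsgLib.L43

open Subgroup CfsgLib.G23Amalgam Matrix

universe u

/-- The coordinates of an element of the radical. -/
def qcoord (g : M4) : W4 := (![g 0 1, g 0 2], ![-g 2 3, g 1 3])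

/-- The image in the quotient of `C(z)`. -/
def rblk (g : M4) : M2 := !![g 2 2, -g 2 1; -g 1 2, g 1 1]

/-- The top row. -/
def row (x : Pv) : V3 := fun j => (x : SL4).1 0 j.succ

theorem Pv_eq (x : Pv) :
    (x : SL4).1 = PointStab.blockMat (row x) (fun i j => (x : SL4).1 i.succ j.succ) := by
  funext a b
  have h := mem_Pv.1 x.2
  refine Fin.cases ?_ (fun i => ?_) a <;> refine Fin.cases ?_ (fun j => ?_) b
  · simpa [PointStab.blockMat] using h 0
  · simp [PointStab.blockMat, row]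
  · simpa [PointStab.blockMat, Fin.succ_ne_zero] using h i.succ
  · simp [PointStab.blockMat]

/-- The Levi part. -/
def blk (x : Pv) : SL3' :=
  ⟨fun i j => (x : SL4).1 i.succ j.succ, (PointStab.det_blockMat (row x) _).symm.trans
    ((congrArg Matrix.det (Pv_eq x).symm).trans (x : SL4).2)⟩

theorem blk_mul (x y : Pv) :
    blk (x * y) = blk x * blk y ∧ row (x * y) = row y + row x ᵥ* (blk y).1 := by
  have e : ((x * y : Pv) : SL4).1 =
      PointStab.blockMat (row y + row x ᵥ* (blk y).1) ((blk x).1 * (blk y).1) := by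
    rw [Subgroup.coe_mul, Matrix.SpecialLinearGroup.coe_mul, Pv_eq x, Pv_eq y]
    exact PointStab.blockMat_mul _ _ _ _
  constructor
  · refine Subtype.ext (funext fun i => funext fun j => ?_)
    show ((x * y : Pv) : SL4).1 i.succ j.succ = ((blk x).1 * (blk y).1) i j
    rw [e]; simp [PointStab.blockMat]
  · funext j
    show ((x * y : Pv) : SL4).1 0 j.succ = _
    rw [e]; simp [PointStab.blockMat]

/-- An element of `Pv` from its parts. -/
def mkPv (v : V3) (M : SL3') : Pv :=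
  ⟨⟨PointStab.blockMat v M.1, (PointStab.det_blockMat v M.1).trans M.2⟩, mem_Pv.2 fun i => by
    refine Fin.cases ?_ (fun k => ?_) i <;> simp [PointStab.blockMat, Fin.succ_ne_zero]⟩

theorem mkPv_spec (v : V3) (M : SL3') : blk (mkPv v M) = M ∧ row (mkPv v M) = v :=
  ⟨Subtype.ext (funext fun i => funext fun j => by simp [blk, mkPv, PointStab.blockMat]),
    funext fun j => by simp [row, mkPv, PointStab.blockMat]⟩

theorem InQ_iff (x : Pv) :
    InQ (x : SL4).1 ↔ ∃ f : V2, blk x = trm f := by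
  have h := mem_Pv.1 x.2
  have h0 := h 0; have h1 := h 1; have h2 := h 2; have h3 := h 3
  simp at h0 h1 h2 h3
  constructor
  · rintro ⟨a0, a1, a2, a3, a4, a5, a6, a7, a8, a9, a10⟩
    refine ⟨![(x : SL4).1 1 3, (x : SL4).1 2 3], Subtype.ext ?_⟩
    ext i j; fin_cases i <;> fin_cases j <;> simp [blk, trm, *]
  · rintro ⟨f, hf⟩
    have e : ∀ i j, (x : SL4).1 i.succ j.succ = (trm f).1 i j := fun i j =>
      congrFun (congrFun (congrArg Subtype.val hf) i) j
    have e00 := e 0 0; have e11 := e 1 1; have e22 := e 2 2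
    have e10 := e 1 0; have e20 := e 2 0; have e21 := e 2 1; have e01 := e 0 1
    simp [trm] at e00 e11 e22 e10 e20 e21 e01
    exact ⟨h0, e00, e11, e22, h1, h2, h3, e10, e20, e21, e01⟩

theorem InQ_blk {x : Pv} (h : InQ (x : SL4).1) :
    blk x = trm ![(x : SL4).1 1 3, (x : SL4).1 2 3] := by
  obtain ⟨f, hf⟩ := (InQ_iff x).1 h
  have e : ∀ i j, (x : SL4).1 i.succ j.succ = (trm f).1 i j := fun i j =>
    congrFun (congrFun (congrArg Subtype.val hf) i) j
  rw [hf]; congr 1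
  have e02 := e 0 2; have e12 := e 1 2
  simp [trm] at e02 e12
  ext i; fin_cases i <;> simp [e02, e12]

namespace Stg

variable {G : Type u} [Group G] (D : Stg G)

theorem cU_conj {κ : SL3' →* G} (hκ : ∀ M, ∃ h : κ M ∈ D.N, D.A ⟨κ M, h⟩ = M.1) (M : SL3') (r : V3) :
    κ M * D.cU r * (κ M)⁻¹ = D.cU (r ᵥ* (M⁻¹).1) := by
  obtain ⟨h, hA⟩ := hκ M⁻¹
  rw [← hA, D.cU_vecMul]
  simp [map_inv]

theorem Q_trm {n : D.N} (hn : (n : G) ∈ D.L.Q) : ∃ f, D.A n = (trm f).1 := by
  have hC := D.L.Q_le hn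
  have he := D.A_e2 hC
  have b0 := D.A_block hC ![1, 0, 0]
  have b1 := D.A_block hC ![0, 1, 0]
  rw [(D.L.ρ_ker _ hC).2 hn, inv_one] at b0 b1
  have a00 := congrFun b0 0
  have a01 := congrFun b0 1
  have a10 := congrFun b1 0
  have a11 := congrFun b1 1
  have a20 := congrFun he 0
  have a21 := congrFun he 1
  have a22 := congrFun he 2
  simp [e2, Matrix.vecMul, dotProduct, Fin.sum_univ_three] at a00 a01 a10 a11 a20 a21 a22
  refine ⟨![D.A n 0 2, D.A n 1 2], ?_⟩
  ext i j; fin_cases i <;> fin_cases j <;> simp [trm, a00, a01, a10, a11, a20, a21, a22]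

theorem mem_Q_of_trm [Finite G] {n : D.N} {f : V2} (hn : D.A n = (trm f).1) :
    (n : G) ∈ D.L.Q := by
  obtain ⟨q, hq, hA⟩ := D.exists_translation f
  have h : D.α (q⁻¹ * n) = 1 := by
    rw [map_mul, map_inv, inv_mul_eq_one]
    exact Subtype.ext (hA.trans hn.symm)
  simpa using mul_mem hq (D.α_ker.1 h).1

theorem trm_π [Finite G] {n : D.N} {f : V2} (hn : D.A n = (trm f).1) :
    (D.L.π n).2 = ![-f 1, f 0] := by
  have hq := D.mem_Q_of_trm hn
  have key : ∀ r : V3, det2 ![r 0, r 1] (D.L.π n).2 = r 0 * f 0 + r 1 * f 1 := fun r => by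
    have e := D.cU_vecMul n r
    rw [hn, show r ᵥ* (trm f).1 = ![0, 0, r 0 * f 0 + r 1 * f 1] + r by
      ext j; fin_cases j <;> simp [trm, Matrix.vecMul, dotProduct, Fin.sum_univ_three],
      D.cU_add, show D.cU ![0, 0, r 0 * f 0 + r 1 * f 1] = D.L.z ^ (r 0 * f 0 + r 1 * f 1).val by
        simp [cU]] at e
    have hcm := D.L.comm _ (inv_mem hq) _ (D.cU_mem r).1
    rw [D.form_eq, D.L.π_inv hq, D.π_cU, inv_inv, ← e, mul_inv_cancel_right] at hcm
    have := D.L.zpow_inj hcm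
    simp [det2] at this ⊢
    linear_combination -this
  have k0 := key ![1, 0, 0]
  have k1 := key ![0, 1, 0]
  simp [det2] at k0 k1
  ext i; fin_cases i <;> simp
  · linear_combination -k1
  · exact k0

theorem phi_table : ∀ p₁ p₂ : V2, det2 ![0, 1] p₁ = 0 → det2 ![-1, 0] p₂ = 0 →
    det2 (![0, 1] + ![-1, 0]) (p₁ + p₂) = 0 → det2 p₁ ![-1, 0] + det2 ![0, 1] p₂ = 0 →
    p₁ = 0 ∧ p₂ = 0 := by decide +kernel

theorem fix_table :
    (suA⁻¹ * trm ![0, 1] = trm ![0, 1] * suA⁻¹) ∧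
    (∀ f : V2, ∀ b : M2, b.det = 1 → ∀ M : SL3', M.1 = !![b 0 0, b 0 1, 0; b 1 0, b 1 1, 0; 0, 0, 1] →
      b *ᵥ f = f → M * trm f = trm f * M) := by
  refine ⟨by decide +kernel, fun f b hb M hM hf => Subtype.ext ?_⟩
  have f0 := congrFun hf 0
  have f1 := congrFun hf 1
  simp [Matrix.mulVec, dotProduct, Fin.sum_univ_two] at f0 f1
  rw [Matrix.SpecialLinearGroup.coe_mul, Matrix.SpecialLinearGroup.coe_mul, hM]
  ext i j; fin_cases i <;> fin_cases j <;>
    simp [trm, Matrix.mul_apply, Fin.sum_univ_three] <;> assumption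

theorem levi_trm [Finite G] {κ : SL3' →* G}
    (hκ : ∀ M, ∃ h : κ M ∈ D.N, D.A ⟨κ M, h⟩ = M.1) (f : V2) :
    κ (trm f) ∈ D.L.Q ∧ D.L.π (κ (trm f)) = (0, ![-f 1, f 0]) := by
  have hQ : ∀ f, κ (trm f) ∈ D.L.Q ∧ (D.L.π (κ (trm f))).2 = ![-f 1, f 0] := fun f => by
    obtain ⟨h, hA⟩ := hκ (trm f)
    exact ⟨D.mem_Q_of_trm hA, D.trm_π hA⟩
  let Φ : V2 →+ V2 := AddMonoidHom.mk' (fun f => (D.L.π (κ (trm f))).1) fun f f' => by
    rw [trm_add, map_mul, D.L.π_mul _ (hQ f).1 _ (hQ f').1, Prod.fst_add]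
  have hline : ∀ f : V2, ∀ b : M2, b.det = 1 → b * b * b = 1 → b ≠ 1 → f ≠ 0 → b *ᵥ f = f →
      det2 ![-f 1, f 0] (Φ f) = 0 := by
    intro f b hb hb3 hb1 hf0 hbf
    let M : SL3' := ⟨!![b 0 0, b 0 1, 0; b 1 0, b 1 1, 0; 0, 0, 1], by
      rw [Matrix.det_fin_two] at hb
      rw [Matrix.det_fin_three]; simp; linear_combination hb⟩
    obtain ⟨h, hA⟩ := hκ M
    have hC : κ M ∈ D.L.C := D.mem_C_of_A (n := ⟨κ M, h⟩) (by
      rw [hA]; ext j; fin_cases j <;> simp [M, e2, Matrix.vecMul, dotProduct, Fin.sum_univ_three])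
    have hfix : act (D.L.ρ (κ M)) (D.L.π (κ (trm f))) = D.L.π (κ (trm f)) := by
      rw [← D.L.conj _ hC _ (hQ f).1, ← map_inv, ← map_mul, ← map_mul,
        (fix_table.2 f b hb M rfl hbf : M * trm f = trm f * M), mul_inv_cancel_right]
    have hne : D.L.ρ (κ M) ≠ 1 := fun h1 => hb1 (by
      have hq := (D.L.ρ_ker _ hC).1 h1
      obtain ⟨f', hf'⟩ := D.Q_trm (n := ⟨κ M, h⟩) hq
      rw [hA] at hf'
      have e : ∀ i j, M.1 i j = (trm f').1 i j := fun i j => congrFun (congrFun hf' i) j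
      have e00 := e 0 0; have e01 := e 0 1; have e10 := e 1 0; have e11 := e 1 1
      simp [M, trm] at e00 e01 e10 e11
      ext i j; fin_cases i <;> fin_cases j <;> simp [e00, e01, e10, e11])
    have hM3 : M * M * M = 1 := by
      have e : ∀ i j, (b * b * b) i j = (1 : M2) i j := fun i j => by rw [hb3]
      have e00 := e 0 0; have e01 := e 0 1; have e10 := e 1 0; have e11 := e 1 1
      simp [Matrix.mul_apply, Fin.sum_univ_two] at e00 e01 e10 e11
      refine Subtype.ext ?_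
      show !![b 0 0, b 0 1, 0; b 1 0, b 1 1, 0; 0, 0, 1] * !![b 0 0, b 0 1, 0; b 1 0, b 1 1, 0; 0, 0, 1] *
        !![b 0 0, b 0 1, 0; b 1 0, b 1 1, 0; 0, 0, 1] = (1 : M3)
      ext i j; fin_cases i <;> fin_cases j <;>
        simp [Matrix.mul_apply, Fin.sum_univ_three, e00, e01, e10, e11]
    have h3 : D.L.ρ (κ M) * D.L.ρ (κ M) * D.L.ρ (κ M) = 1 := by
      rw [← D.L.ρ_mul _ hC _ hC, ← D.L.ρ_mul _ (mul_mem hC hC) _ hC, ← map_mul, ← map_mul, hM3,
        map_one, D.L.ρ_one]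
    have hn0 : (D.L.π (κ (trm f))).2 ≠ 0 := by
      rw [(hQ f).2]
      intro h0
      exact hf0 (by
        have := congrFun h0 0
        have := congrFun h0 1
        ext i; fin_cases i <;> simp_all)
    have T := unip_table (D.L.ρ (κ M)).1 (D.L.ρ _).2 (congrArg Subtype.val h3)
      (fun h1 => hne (Subtype.ext h1)) _ hn0 (congrArg Prod.snd hfix) (D.L.π (κ (trm f))).1
    rw [← (hQ f).2]
    exact T.1.2 (congrArg Prod.fst hfix)
  have h1 := hline ![1, 0] !![1, 1; 0, 1] (by decide +kernel) (by decide +kernel) (by decide +kernel)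
    (by decide +kernel) (by decide +kernel)
  have h2 := hline ![0, 1] !![1, 0; 1, 1] (by decide +kernel) (by decide +kernel) (by decide +kernel)
    (by decide +kernel) (by decide +kernel)
  have h3 := hline ![1, 1] !![0, 1; 2, 2] (by decide +kernel) (by decide +kernel) (by decide +kernel)
    (by decide +kernel) (by decide +kernel)
  have h4 : det2 (Φ ![1, 0]) ![-1, 0] + det2 ![0, 1] (Φ ![0, 1]) = 0 := by
    have hc : κ (trm ![1, 0]) * κ (trm ![0, 1]) = κ (trm ![0, 1]) * κ (trm ![1, 0]) := by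
      rw [← map_mul, ← map_mul, ← trm_add, ← trm_add, add_comm]
    have e := (D.L.comm_iff (hQ _).1 (hQ _).1).1 hc
    rw [D.form_eq, (hQ _).2, (hQ _).2] at e
    show det2 (D.L.π (κ (trm ![1, 0]))).1 _ + det2 _ (D.L.π (κ (trm ![0, 1]))).1 = 0
    simpa using e
  have e3 : ![-(![1, 1] : V2) 1, (![1, 1] : V2) 0] = ![0, 1] + ![-1, 0] := by decide +kernel
  rw [e3, show (![1, 1] : V2) = ![1, 0] + ![0, 1] by decide +kernel, map_add] at h3
  simp only [Matrix.cons_val_zero, Matrix.cons_val_one, neg_zero] at h1 h2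
  obtain ⟨p1, p2⟩ := phi_table _ _ h1 h2 h3 h4
  refine ⟨(hQ f).1, Prod.ext ?_ (hQ f).2⟩
  show Φ f = 0
  rw [show f = f 0 • (![1, 0] : V2) + f 1 • ![0, 1] by ext i; fin_cases i <;> simp, map_add,
    ZMod.map_smul, ZMod.map_smul, p1, p2, smul_zero, smul_zero, add_zero]

end Stg

/-- An embedding compatible with the coordinates. -/
structure Coord {G : Type u} [Group G] (L : Loc G) (t : G) (E : Emb G) : Prop where
  z_eq : E.ψ zm = L.z
  t_eq : E.ψ tm = t
  mem_iff : ∀ x : Pv, x ∈ Qm ↔ E.ψ x ∈ L.Q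
  Q_le : L.Q ≤ Qm.map E.ψ
  π_eq : ∀ x ∈ Qm, L.π (E.ψ x) = qcoord (x : SL4).1
  ρ_eq : ∀ x : Pv, E.ψ x ∈ L.C → (L.ρ (E.ψ x)).1 = rblk (x : SL4).1
  C_le : L.C ≤ E.ψ.range

namespace Stg

variable {G : Type u} [Group G] (D : Stg G)

theorem exists_emb [Finite G] : ∃ E : Emb G, Coord D.L D.t E := by
  obtain ⟨κ, hκd, hκ⟩ := D.exists_levi
  let v : Pv → V3 := fun x => row x ᵥ* ((blk x)⁻¹).1
  let ψ : Pv →* G := MonoidHom.mk' (fun x => D.cU (v x) * κ (blk x)) fun x y => by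
    obtain ⟨hb, hr⟩ := blk_mul x y
    have e : v (x * y) = v x + v y ᵥ* ((blk x)⁻¹).1 := by
      show row (x * y) ᵥ* _ = _
      rw [hb, hr, _root_.mul_inv_rev, Matrix.SpecialLinearGroup.coe_mul, ← Matrix.vecMul_vecMul,
        Matrix.add_vecMul, Matrix.add_vecMul, Matrix.vecMul_vecMul (row x), ← Matrix.SpecialLinearGroup.coe_mul,
        mul_inv_cancel, Matrix.SpecialLinearGroup.coe_one, Matrix.vecMul_one, add_comm]
    rw [e, hb, map_mul, D.cU_add, ← D.cU_conj hκ (blk x) (v y)]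
    group
  have hψ : ∀ x, ψ x = D.cU (v x) * κ (blk x) := fun x => rfl
  have hN : ∀ x, ψ x ∈ D.N := fun x =>
    mul_mem (le_normalizer (D.cU_mem _)) (hκ (blk x)).1
  have hA : ∀ x, D.α ⟨ψ x, hN x⟩ = blk x := fun x => by
    obtain ⟨h, hM⟩ := hκ (blk x)
    rw [show (⟨ψ x, hN x⟩ : D.N) = ⟨D.cU (v x), le_normalizer (D.cU_mem _)⟩ * ⟨κ (blk x), h⟩ from rfl,
      map_mul, D.α_ker.2 (D.cU_mem _), one_mul]
    exact Subtype.ext hM
  have hmk : ∀ r M, ψ (mkPv (r ᵥ* M.1) M) = D.cU r * κ M := fun r M => by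
    obtain ⟨hb, hr⟩ := mkPv_spec (r ᵥ* M.1) M
    rw [hψ, hb, show v (mkPv (r ᵥ* M.1) M) = r by
      show row _ ᵥ* _ = r
      rw [hb, hr, Matrix.vecMul_vecMul, ← Matrix.SpecialLinearGroup.coe_mul, mul_inv_cancel,
        Matrix.SpecialLinearGroup.coe_one, Matrix.vecMul_one]]
  have hinj : Function.Injective ψ := by
    refine (injective_iff_map_eq_one _).2 fun x hx => ?_
    have hb : blk x = 1 := by
      rw [← hA x, show (⟨ψ x, hN x⟩ : D.N) = 1 from Subtype.ext hx, map_one]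
    have hv : D.cU (v x) = D.cU 0 := by
      rw [hψ, hb, map_one, mul_one] at hx
      rw [hx, D.cU_zero]
    have hr : row x = 0 := by
      have := D.cU_inj hv
      simpa [v, hb] using this
    refine Subtype.ext (Subtype.ext ?_)
    rw [Pv_eq x, show (fun i j => (x : SL4).1 i.succ j.succ) = (1 : M3) from congrArg Subtype.val hb, hr]
    decide +kernel
  have hrange : ψ.range = D.N := by
    refine le_antisymm (by rintro _ ⟨x, rfl⟩; exact hN x) fun n hn => ?_
    set M := D.α ⟨n, hn⟩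
    obtain ⟨h, hM⟩ := hκ M
    have hu : n * (κ M)⁻¹ ∈ D.U := by
      have : D.α (⟨n, hn⟩ * (⟨κ M, h⟩ : D.N)⁻¹) = 1 := by
        rw [map_mul, map_inv, show D.α ⟨κ M, h⟩ = M from Subtype.ext hM, mul_inv_cancel]
      simpa using D.α_ker.1 this
    obtain ⟨r, hr⟩ := D.cU_surj hu
    exact ⟨_, by rw [hmk r M, hr, inv_mul_cancel_right]⟩
  have hz : ψ zm = D.L.z := by
    rw [hψ, show blk zm = 1 by decide +kernel, map_one, mul_one, ← D.cU_e2]
    exact congrArg D.cU (show row zm ᵥ* ((blk zm)⁻¹).1 = e2 by decide +kernel)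
  have ht : ψ tm = D.t := by
    rw [hψ, show blk tm = d3 by decide +kernel, hκd,
      show v tm = 0 from (show row tm ᵥ* ((blk tm)⁻¹).1 = 0 by decide +kernel), D.cU_zero, one_mul]
  have hmem : ∀ x : Pv, x ∈ Qm ↔ ψ x ∈ D.L.Q := fun x => by
    refine (InQ_iff x).trans ⟨fun ⟨f, hf⟩ => ?_, fun h => ?_⟩
    · exact D.mem_Q_of_trm (n := ⟨ψ x, hN x⟩) (f := f) (congrArg Subtype.val ((hA x).trans hf))
    · obtain ⟨f, hf⟩ := D.Q_trm (n := ⟨ψ x, hN x⟩) h
      exact ⟨f, (hA x).symm.trans (Subtype.ext hf)⟩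
  have hπ : ∀ x ∈ Qm, D.L.π (ψ x) = qcoord (x : SL4).1 := by
    intro x hx
    obtain ⟨hkQ, hkπ⟩ := D.levi_trm hκ ![(x : SL4).1 1 3, (x : SL4).1 2 3]
    rw [hψ, InQ_blk hx, D.L.π_mul _ (D.cU_mem _).1 _ hkQ, hkπ, D.π_cU]
    have hinv : (trm ![(x : SL4).1 1 3, (x : SL4).1 2 3])⁻¹ =
        trm (-![(x : SL4).1 1 3, (x : SL4).1 2 3]) := by
      refine inv_eq_of_mul_eq_one_right ?_
      rw [← trm_add, add_neg_cancel]; decide +kernel
    have e : v x = row x ᵥ* (trm (-![(x : SL4).1 1 3, (x : SL4).1 2 3])).1 := by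
      show row x ᵥ* _ = _; rw [InQ_blk hx, hinv]
    rw [e]
    refine Prod.ext ?_ ?_
    · ext i; fin_cases i <;>
        simp [qcoord, row, trm, Matrix.vecMul, dotProduct, Fin.sum_univ_three]
    · simp [qcoord]
  have hUm : Um.map ψ = D.U := by
    ext g
    constructor
    · rintro ⟨x, hx, rfl⟩
      refine D.mem_U.2 ⟨(hmem x).1 hx.1, ?_⟩
      rw [hπ x hx.1]
      simp [qcoord, hx.2.1, hx.2.2]
    · intro hg
      obtain ⟨x, rfl⟩ : g ∈ ψ.range := hrange ▸ le_normalizer hg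
      have hq : x ∈ Qm := (hmem x).2 hg.1
      refine ⟨x, ⟨hq, ?_⟩, rfl⟩
      have h2 := hg.2
      rw [hπ x hq] at h2
      exact ⟨by simpa [qcoord] using congrFun h2 1, by simpa [qcoord] using congrFun h2 0⟩
  refine ⟨{ ψ := ψ, inj := hinj, cent := ?_, pure := ?_, norm := ?_, sylow := D.L.sylow }, ?_⟩
  · rw [hz, hrange]; exact D.C_le
  · intro g x hx hgx
    rw [hz] at hgx
    have hy : g * D.L.z * g⁻¹ ∈ D.L.Q := hgx ▸ (hmem x).1 hx
    by_cases hyz : g * D.L.z * g⁻¹ ∈ zpowers D.L.z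
    · have h0 := (D.L.π_ker _ hy).2 hyz
      rw [hgx, hπ x hx] at h0
      have h2 := congrArg Prod.snd h0
      exact Or.inl ⟨hx, by simpa [qcoord] using congrFun h2 1, by simpa [qcoord] using congrFun h2 0⟩
    obtain ⟨n, b, hn, hπy, hb0, hiso⟩ := D.L.pure_iso hy hyz
    rw [hgx, hπ x hx] at hπy
    simp [D.hB] at hiso
    have hb : b 0 = 0 ∨ b 1 = 0 := by
      rcases hiso with (h | h) | h
      · exact absurd h (by decide)
      · exact Or.inl h
      · exact Or.inr h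
    have e1 := congrArg Prod.fst hπy
    have e2 := congrArg Prod.snd hπy
    rcases hb with hb | hb
    · rw [hb, zero_smul] at e1
      exact Or.inr ⟨hx, by simpa [qcoord] using congrFun e1 0, by simpa [qcoord] using congrFun e1 1⟩
    · rw [hb, zero_smul] at e2
      exact Or.inl ⟨hx, by simpa [qcoord] using congrFun e2 1, by simpa [qcoord] using congrFun e2 0⟩
  · rw [hUm, hrange]
  · refine ⟨hz, ht, hmem, ?_, hπ, ?_, by intro c hc; show c ∈ ψ.range; rw [hrange]; exact D.C_le hc⟩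
    · intro q hq
      obtain ⟨x, rfl⟩ : q ∈ ψ.range := hrange ▸ D.C_le (D.L.Q_le hq)
      exact ⟨x, (hmem x).2 hq, rfl⟩
    · intro x hx
      show (D.L.ρ (ψ x)).1 = _
      have hb := congrArg Subtype.val (hA x)
      have b0 := D.A_block (n := ⟨ψ x, hN x⟩) hx ![1, 0, 0]
      have b1 := D.A_block (n := ⟨ψ x, hN x⟩) hx ![0, 1, 0]
      rw [show D.A ⟨ψ x, hN x⟩ = (blk x).1 from hb] at b0 b1
      have a00 := congrFun b0 0
      have a01 := congrFun b0 1
      have a10 := congrFun b1 0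
      have a11 := congrFun b1 1
      simp [blk, Matrix.vecMul, Matrix.mulVec, dotProduct, Fin.sum_univ_three, Fin.sum_univ_two,
        Matrix.SpecialLinearGroup.coe_inv, Matrix.adjugate_fin_two] at a00 a01 a10 a11
      ext i j; fin_cases i <;> fin_cases j <;> simp [rblk, a00, a01, a10, a11]

end Stg

end CfsgLib.L43
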