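import Cfsg.Agent.LFourThree.Fusion
import Cfsg.Agent.SmithTyrer.Main
import Cfsg.Agent.FGSA.PLengthSeries

/-!
# The centraliser of `fm` when no conjugate of the central element leaves `U`
-/

set_option autoImplicit false
set_option maxRecDepth 100000
set_option linter.style.haveILetI false
set_option linter.unusedSectionVars false

namespace CfsgLib.L43

open Subgroup FM Fus

universe u

namespace Fus

/-- The transfer of an element all of whose relevant conjugates have the same image. -/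
theorem transfer_const {H : Type*} [Group H] [Finite H] {P : Subgroup H} {A : Type*} [CommGroup A]
    (φ : P →* A) {y : H} (hy : y ∈ P)
    (key : ∀ (k : ℕ) (g : H) (h : g⁻¹ * y ^ k * g ∈ P), φ ⟨_, h⟩ = φ ⟨y, hy⟩ ^ k) :
    MonoidHom.transfer φ y = φ ⟨y, hy⟩ ^ P.index := by
  classical
  haveI : Fintype (Quotient (MulAction.orbitRel (zpowers y) (H ⧸ P))) := Fintype.ofFinite _
  rw [MonoidHom.transfer_eq_prod_quotient_orbitRel_zpowers_quot φ y]
  rw [Subgroup.index_eq_sum_minimalPeriod P y, ← Finset.prod_pow_eq_pow_sum]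
  exact Finset.prod_congr rfl fun q _ => key _ _ _

/-- In a group with a central subgroup of index prime to `p` the `p'`-elements form a subgroup. -/
theorem exists_prime_part {X : Type*} [Group X] [Finite X] (Z : Subgroup X) (hZ : Z ≤ center X)
    {p : ℕ} [hp : Fact p.Prime] (hZp : IsPGroup p Z) (hidx : Z.index.Coprime p) :
    ∃ C : Subgroup X, (Nat.card C).Coprime p ∧ ∀ x, x ∈ C ↔ (orderOf x).Coprime p := by
  haveI : Z.Normal := ⟨fun n hn g => by
    rw [mem_center_iff.1 (hZ hn) g, mul_inv_cancel_right]; exact hn⟩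
  obtain ⟨k, hk⟩ := IsPGroup.iff_card.1 hZp
  have hco : (Nat.card Z).Coprime Z.index := by
    rw [hk]; exact Nat.Coprime.pow_left k hidx.symm
  obtain ⟨C, hC⟩ := exists_right_complement'_of_coprime (N := Z) hco
  have hCc : (Nat.card C).Coprime p := by
    rw [← hC.symm.index_eq_card]; exact hidx
  refine ⟨C, hCc, fun x => ⟨fun hx => ?_, fun hx => ?_⟩⟩
  · exact Nat.Coprime.coprime_dvd_left (orderOf_dvd_natCard C hx) hCc
  · obtain ⟨⟨⟨z, hz⟩, ⟨c, hc⟩⟩, hzc, -⟩ := hC.existsUnique x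
    change z * c = x at hzc
    subst hzc
    suffices z = 1 by rw [this, one_mul]; exact hc
    have hcomm : Commute z c := (mem_center_iff.1 (hZ hz) c).symm
    have hn : z ^ (orderOf (z * c) * Nat.card C) = 1 := by
      have h1 : (z * c) ^ (orderOf (z * c) * Nat.card C) = 1 := by
        rw [pow_mul, pow_orderOf_eq_one, one_pow]
      rw [hcomm.mul_pow, mul_comm _ (Nat.card C), pow_mul c,
        show c ^ Nat.card C = 1 from congrArg Subtype.val (pow_card_eq_one' (x := (⟨c, hc⟩ : C))),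
        one_pow, mul_one] at h1
      rwa [mul_comm]
    obtain ⟨m, hm⟩ := hZp ⟨z, hz⟩
    exact orderOf_eq_one_iff.1 (Nat.eq_one_of_dvd_coprimes
      (Nat.Coprime.pow_right m (Nat.Coprime.mul_left hx hCc))
      (orderOf_dvd_of_pow_eq_one hn) (orderOf_dvd_of_pow_eq_one (congrArg Subtype.val hm)))

/-- A group of `p`-length one without `p'`-core has normal Sylow `p`-subgroup. -/
theorem sylow_normal_of_pLength {Q : Type*} [Group Q] [Finite Q] {p : ℕ} [hp : Fact p.Prime]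
    (h : Cfsg.PLengthLE p 1 Q) (hb : ∀ N : Subgroup Q, N.Normal → (Nat.card N).Coprime p → N = ⊥)
    (P : Sylow p Q) : (P : Subgroup Q).Normal := by
  have h1 : FGSA.PLen.U p Q 1 = ⊥ := hb _ (Cfsg.upperPSeries p Q 1).2 FGSA.PLen.card_U_one_coprime
  have h2 := FGSA.PLen.isPGroup_U_two h1
  have h3 : ((FGSA.PLen.U p Q 2).index).Coprime p := by
    have := FGSA.PLen.good_factor (G := Q) (p := p) 2
    rw [show FGSA.PLen.U p Q (2 + 1) = ⊤ from h, relIndex_top_right] at this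
    exact this
  haveI : (FGSA.PLen.U p Q 2).Normal := (Cfsg.upperPSeries p Q 2).2
  set S := h2.toSylow ((Nat.Prime.coprime_iff_not_dvd hp.out).1 h3.symm) with hS
  haveI hSn : (S : Subgroup Q).Normal := (Cfsg.upperPSeries p Q 2).2
  obtain ⟨g, hg⟩ := MulAction.exists_smul_eq Q S P
  rw [← hg, Sylow.smul_eq_of_normal]
  exact hSn

/-- Everything lies in the residual once a Sylow subgroup does. -/
theorem residual_top {Q : Type*} [Group Q] [Finite Q] {p : ℕ} [hp : Fact p.Prime] (P : Sylow p Q)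
    (hP : (P : Subgroup Q) ≤ Cfsg.pResidual p Q) : Cfsg.pResidual p Q = ⊤ := by
  set N := Cfsg.pResidual p Q
  haveI : N.Normal := by
    refine ⟨fun n hn g => ?_⟩
    induction hn using closure_induction with
    | mem x hx =>
      refine subset_closure ?_
      show (orderOf (g * x * g⁻¹)).Coprime p
      rwa [show orderOf (g * x * g⁻¹) = orderOf x from
        orderOf_injective (MulAut.conj g).toMonoidHom (MulAut.conj g).injective x]
    | one => rw [mul_one, mul_inv_cancel]; exact one_mem _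
    | mul x y _ _ hx hy =>
      rw [show g * (x * y) * g⁻¹ = g * x * g⁻¹ * (g * y * g⁻¹) by group]; exact mul_mem hx hy
    | inv x _ hx => rw [show g * x⁻¹ * g⁻¹ = (g * x * g⁻¹)⁻¹ by group]; exact inv_mem hx
  refine top_le_iff.1 fun x _ => ?_
  rw [← QuotientGroup.eq_one_iff]
  set f := QuotientGroup.mk' N
  show f x = 1
  rw [← orderOf_eq_one_iff]
  by_contra hne
  obtain ⟨q, hq, hqd⟩ := Nat.exists_prime_and_dvd hne
  obtain ⟨y, hy⟩ : ∃ y : Q, orderOf (f y) = q := ⟨x ^ (orderOf (f x) / q), by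
    rw [map_pow, orderOf_pow_orderOf_div (orderOf_pos (f x)).ne' hqd]⟩
  rcases eq_or_ne q p with rfl | hqp
  · have hsub : ∀ y : Q, (∃ k, y ^ q ^ k = 1) → f y = 1 := by
      rintro y ⟨k, hk⟩
      have hz : IsPGroup q (zpowers y) := by
        obtain ⟨m, -, hm⟩ := (Nat.dvd_prime_pow hq).1 (orderOf_dvd_of_pow_eq_one hk)
        exact IsPGroup.of_card (n := m) (by rw [Nat.card_zpowers, hm])
      obtain ⟨P', hP'⟩ := hz.exists_le_sylow
      obtain ⟨g, hg⟩ := MulAction.exists_smul_eq Q P P'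
      have hyP : y ∈ (P' : Subgroup Q) := hP' (mem_zpowers y)
      rw [← hg, Sylow.coe_subgroup_smul] at hyP
      obtain ⟨w, hw, rfl⟩ := hyP
      exact (QuotientGroup.eq_one_iff _).2 (‹N.Normal›.conj_mem w (hP hw) g)
    set n := orderOf y
    set r := n / q ^ n.factorization q
    have hn : n ≠ 0 := (orderOf_pos y).ne'
    have h1 : f (y ^ r) = 1 := hsub _ ⟨n.factorization q, by
      rw [← pow_mul, Nat.div_mul_cancel (Nat.ordProj_dvd n q)]; exact pow_orderOf_eq_one y⟩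
    rw [map_pow] at h1
    have h2 := orderOf_dvd_of_pow_eq_one h1
    rw [hy] at h2
    exact Nat.not_dvd_ordCompl hq hn h2
  · have h1 : ∀ y : Q, (orderOf y).Coprime p → f y = 1 := fun y h =>
      (QuotientGroup.eq_one_iff _).2 (subset_closure h)
    set n := orderOf y
    have hn : n ≠ 0 := (orderOf_pos y).ne'
    have h2 : f (y ^ p ^ n.factorization p) = 1 := h1 _ (by
      rw [orderOf_pow_of_dvd (pow_ne_zero _ hp.out.ne_zero) (Nat.ordProj_dvd n p)]
      exact (Nat.coprime_ordCompl hp.out hn).symm)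
    rw [map_pow] at h2
    have h3 := orderOf_dvd_of_pow_eq_one h2
    rw [hy] at h3
    exact hqp ((Nat.prime_dvd_prime_iff_eq hq hp.out).1 (hq.dvd_of_dvd_pow h3))

end Fus

namespace FM

/-- The Sylow subgroup of the centraliser of `fm`. -/
abbrev R0 : Subgroup Pv := Sm ⊓ centralizer ({fm} : Set Pv)

theorem up_fm (a b c s d e : ZMod 3) :
    up a b c s d e * fm = fm * up a b c s d e ↔ a = 0 := by
  rw [fm_eq, up_mul, up_mul]
  constructor
  · intro h
    obtain ⟨-, -, h3, -⟩ := up_inj h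
    linear_combination h3
  · rintro rfl
    congr 1 <;> ring

theorem mem_R0 {x : Pv} : x ∈ R0 ↔ ∃ b c s d e, x = up 0 b c s d e := by
  constructor
  · rintro ⟨hS, hc⟩
    have h := eq_up hS
    have h' := mem_centralizer_singleton_iff.1 hc
    rw [h, up_fm] at h'
    exact ⟨_, _, _, _, _, by rw [h, h']⟩
  · rintro ⟨b, c, s, d, e, rfl⟩
    exact ⟨mem_Sm_up _ _ _ _ _ _, mem_centralizer_singleton_iff.2 ((up_fm _ _ _ _ _ _).2 rfl)⟩

theorem card_R0 : Nat.card R0 = 243 := by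
  let f : ZMod 3 × ZMod 3 × ZMod 3 × ZMod 3 × ZMod 3 → R0 := fun v =>
    ⟨up 0 v.1 v.2.1 v.2.2.1 v.2.2.2.1 v.2.2.2.2, mem_R0.2 ⟨_, _, _, _, _, rfl⟩⟩
  have hf : Function.Bijective f := by
    refine ⟨fun v w h => ?_, fun g => ?_⟩
    · obtain ⟨-, h1, h2, h3, h4, h5⟩ := up_inj (congrArg Subtype.val h)
      exact Prod.ext h1 (Prod.ext h2 (Prod.ext h3 (Prod.ext h4 h5)))
    · obtain ⟨b, c, s, d, e, h⟩ := mem_R0.1 g.2
      exact ⟨(b, c, s, d, e), Subtype.ext h.symm⟩
  rw [← Nat.card_congr (Equiv.ofBijective f hf)]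
  simp [Nat.card_zmod]

theorem lam_choice : ∀ l m : ZMod 3, l * m * l = 1 → m = 1 ∧ (l = 1 ∨ l = -1) := by decide +kernel

theorem cent_fm_cases {g : Pv} (h : g * fm = fm * g) : g ∈ R0 ∨ g * dl ∈ R0 := by
  have h00 := col0 g 0
  have h10 := col0 g 1
  have h20 := col0 g 2
  have h30 := col0 g 3
  simp only [Fin.reduceEq, if_true, if_false, one_ne_zero] at h00 h10 h20 h30
  have h' : (g : SL4).1 * upM 0 0 0 0 1 0 = upM 0 0 0 0 1 0 * (g : SL4).1 := by
    have := congrArg (fun x : Pv => (x : SL4).1) h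
    simpa [fm_eq] using this
  have hdet := (g : SL4).2
  set A := (g : SL4).1 with hA
  have e03 := congrFun (congrFun h' 0) 3
  have e11 := congrFun (congrFun h' 1) 1
  have e12 := congrFun (congrFun h' 1) 2
  have e13 := congrFun (congrFun h' 1) 3
  have e23 := congrFun (congrFun h' 2) 3
  have e33 := congrFun (congrFun h' 3) 3
  simp [upM, Matrix.mul_apply, Fin.sum_univ_four, h10, h20, h30] at e03 e11 e12 e13 e23 e33
  have a01 : A 0 1 = 0 := e03
  have a21 : A 2 1 = 0 := e23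
  have a31 : A 3 1 = 0 := e11
  have a32 : A 3 2 = 0 := e12
  have a33 : A 3 3 = A 1 1 := by linear_combination -e13
  have hprod : A 1 1 * A 2 2 * A 1 1 = 1 := by
    rw [← hdet]
    simp [Matrix.det_succ_row_zero, Fin.sum_univ_succ, h00, h10, h20, h30, a01, a21, a31, a32, a33]
    ring
  obtain ⟨a22, hl⟩ := lam_choice _ _ hprod
  rcases hl with hl | hl
  · refine Or.inl (mem_R0.2 ⟨A 0 2, A 0 3, A 1 2, A 1 3, A 2 3, pv_ext ?_⟩)
    ext i j
    fin_cases i <;> fin_cases j <;>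
      simp [upM, ← hA, h00, h10, h20, h30, a01, a21, a31, a32, a33, a22, hl]
  · refine Or.inr (mem_R0.2 ⟨A 0 2, -A 0 3, A 1 2, -A 1 3, -A 2 3, pv_ext ?_⟩)
    show A * Matrix.diagonal ![1, -1, 1, -1] = _
    ext i j
    rw [Matrix.mul_diagonal]
    fin_cases i <;> fin_cases j <;>
      simp [upM, h00, h10, h20, h30, a01, a21, a31, a32, a33, a22, hl]

theorem dl_fm : dl * fm = fm * dl := by
  have := dl_conj 0 0 0 0 1 0
  rw [neg_zero, ← fm_eq, mul_inv_eq_iff_eq_mul] at this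
  exact this

/-- The second coordinate on `R0`. -/
def bHom : R0 →* Multiplicative (ZMod 3) where
  toFun x := Multiplicative.ofAdd ((x.1 : SL4).1 0 2)
  map_one' := by
    have h : ((((1 : R0) : Pv) : SL4).1 0 2 : ZMod 3) = 0 := by
      rw [Subgroup.coe_one, one_eq, up_val]; simp [upM]
    rw [h, ofAdd_zero]
  map_mul' x y := by
    obtain ⟨b, c, s, d, e, hx⟩ := mem_R0.1 x.2
    obtain ⟨b', c', s', d', e', hy⟩ := mem_R0.1 y.2
    rw [Subgroup.coe_mul, hx, hy, up_mul, up_val, up_val, up_val, ← ofAdd_add]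
    simp [upM]

theorem bHom_up {b c s d e : ZMod 3} (h : up 0 b c s d e ∈ R0) :
    bHom ⟨_, h⟩ = Multiplicative.ofAdd b := by
  show Multiplicative.ofAdd ((up 0 b c s d e : SL4).1 0 2) = _
  simp [upM]

theorem tau_R0 : tau ∈ R0 := mem_R0.2 ⟨_, _, _, _, _, rfl⟩

theorem R0_decomp (b c s d e : ZMod 3) : up 0 b c s d e =
    up 0 b 0 0 0 0 * up 0 0 (c - b * e) 0 0 0 * up 0 0 0 0 (d - s * e) 0 *
      up 0 0 0 s 0 0 * up 0 0 0 0 0 e := by
  rw [up_mul, up_mul, up_mul, up_mul]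
  congr 1 <;> ring

theorem comm_z' (t : ZMod 3) : up 0 1 0 0 0 0 * up 0 0 0 0 0 t * (up 0 1 0 0 0 0)⁻¹ *
    (up 0 0 0 0 0 t)⁻¹ = up 0 0 t 0 0 0 := by
  rw [mul_inv_eq_iff_eq_mul, mul_inv_eq_iff_eq_mul, up_mul, up_mul, up_mul]
  congr 1 <;> ring

theorem comm_f' (t : ZMod 3) : up 0 0 0 1 0 0 * up 0 0 0 0 0 t * (up 0 0 0 1 0 0)⁻¹ *
    (up 0 0 0 0 0 t)⁻¹ = up 0 0 0 0 t 0 := by
  rw [mul_inv_eq_iff_eq_mul, mul_inv_eq_iff_eq_mul, up_mul, up_mul, up_mul]
  congr 1 <;> ring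

theorem cube_R1 (c s d e : ZMod 3) :
    up 0 0 c s d e * up 0 0 c s d e * up 0 0 c s d e = 1 := by
  have h30 : (3 : ZMod 3) = 0 := by decide
  rw [up_mul, up_mul, one_eq]
  congr 1 <;> first
    | ring1
    | linear_combination c * h30
    | linear_combination s * h30
    | linear_combination (d + s * e) * h30
    | linear_combination e * h30

theorem mem_J_cases {x : Pv} (hx : x ∈ Jm) : x ∈ R0 := by
  have hxS : x ∈ Sm := InJ.inS hx
  refine ⟨hxS, mem_centralizer_singleton_iff.2 ?_⟩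
  rw [eq_up hxS, up_fm]
  exact hx.2.2.2.2.2.2.2.2.2.2.1

theorem mult_sq : ∀ w : Multiplicative (ZMod 3), w ^ 2 = 1 → w = 1 := by decide +kernel

theorem mult_inv : ∀ w : Multiplicative (ZMod 3), w⁻¹ = w → w = 1 := by decide +kernel

theorem mult_cover : ∀ u w : Multiplicative (ZMod 3), w ≠ 1 → u = 1 ∨ u * w = 1 ∨ u * (w * w) = 1 := by
  decide +kernel

theorem mult_inv_one : (Multiplicative.ofAdd (1 : ZMod 3))⁻¹ = Multiplicative.ofAdd ((2 : ℕ) : ZMod 3) := by
  decide +kernel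

theorem neg_one_ne_one : (-1 : ZMod 3) ≠ 1 := by decide

theorem fm_pow (t : ZMod 3) : fm ^ t.val = up 0 0 0 0 t 0 := by
  apply pv_ext
  revert t
  decide +kernel

end FM

namespace Emb

variable {G : Type u} [Group G] [Finite G] (E : Emb G)
include E

/-- No conjugate of `z` is central in a Sylow subgroup containing `fm`, in the first case. -/
theorem card_le_R0 (h : E.OnlyU) (P : Subgroup G) (hP : IsPGroup 3 P)
    (hPC : ∀ x ∈ P, x * E.ψ fm = E.ψ fm * x) (hRP : R0.map E.ψ ≤ P) : P = R0.map E.ψ := by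
  haveI : Fact (Nat.Prime 3) := ⟨Nat.prime_three⟩
  refine (eq_of_le_of_card_ge hRP ?_).symm
  rw [card_map_of_injective E.inj, card_R0]
  by_contra hlt
  push Not at hlt
  obtain ⟨n, hn⟩ := IsPGroup.iff_card.1 hP
  have hle := E.sylow P hP
  have hn6 : n = 6 := by
    rw [hn] at hlt hle
    have h1 : 5 < n := (Nat.pow_lt_pow_iff_right (by norm_num : 1 < 3)).1 (by norm_num; exact hlt)
    have h2 : n ≤ 6 := (Nat.pow_le_pow_iff_right (by norm_num : 1 < 3)).1 (by norm_num; exact hle)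
    omega
  obtain ⟨S₁, hS₁⟩ := hP.exists_le_sylow
  obtain ⟨S₂, hS₂⟩ := (IsPGroup.of_card (n := 6) (by
    rw [card_map_of_injective E.inj, card_Sm]; norm_num) : IsPGroup 3 (Sm.map E.ψ)).exists_le_sylow
  have hP₁ : P = (S₁ : Subgroup G) := eq_of_le_of_card_ge hS₁ (by rw [hn, hn6]; exact E.sylow _ S₁.2)
  have hS : Sm.map E.ψ = (S₂ : Subgroup G) := eq_of_le_of_card_ge hS₂ (by
    rw [card_map_of_injective E.inj, card_Sm]; exact E.sylow _ S₂.2)
  obtain ⟨k, hk⟩ := MulAction.exists_smul_eq G S₁ S₂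
  have hfP : E.ψ fm ∈ P := hRP ⟨fm, mem_R0.2 ⟨_, _, _, _, _, fm_eq⟩, rfl⟩
  -- the conjugate of `fm` is central in `Sm`
  set w := k * E.ψ fm * k⁻¹ with hw
  have hcomm : ∀ a b c s d e, w * E.ψ (up a b c s d e) = E.ψ (up a b c s d e) * w := by
    intro a b c s d e
    have hm : E.ψ (up a b c s d e) ∈ (S₂ : Subgroup G) := hS ▸ ⟨_, mem_Sm_up a b c s d e, rfl⟩
    rw [← hk, Sylow.coe_subgroup_smul] at hm
    obtain ⟨x, hx, hxe⟩ := hm
    rw [← hxe]
    show w * (k * x * k⁻¹) = k * x * k⁻¹ * w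
    rw [hw]
    calc k * E.ψ fm * k⁻¹ * (k * x * k⁻¹) = k * (E.ψ fm * x) * k⁻¹ := by group
      _ = k * (x * E.ψ fm) * k⁻¹ := by rw [hPC x (hP₁ ▸ hx)]
      _ = k * x * k⁻¹ * (k * E.ψ fm * k⁻¹) := by group
  obtain ⟨p, hp, hpe⟩ := E.exists_C0 (g := w) (by
    show w * E.ψ zm = E.ψ zm * w
    rw [zm_eq]; exact hcomm _ _ _ _ _ _)
  have hpc : ∀ a b c s d e, p * up a b c s d e = up a b c s d e * p := fun a b c s d e =>
    E.inj (by rw [map_mul, map_mul, hpe]; exact hcomm a b c s d e)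
  obtain ⟨i, j, l, rfl⟩ := cent_regm hp (by rw [regm_eq]; exact hpc _ _ _ _ _ _)
  have hj : j = 0 := tau_tel_fixed (hpc 0 1 0 0 0 0).symm
  subst hj
  have hl : l = 0 := by
    have h1 := hpc 1 0 0 0 0 0
    rw [up_mul, up_mul] at h1
    obtain ⟨-, -, h3, -⟩ := up_inj h1
    linear_combination -h3
  subst hl
  obtain ⟨g, hg⟩ : ∃ g : G, g * E.z * g⁻¹ = E.ψ (tel i 0 0) := by
    obtain rfl | rfl | rfl := three_cases i
    · exfalso
      rw [show tel 0 0 0 = 1 from one_eq.symm, map_one] at hpe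
      have h1 : E.ψ fm = 1 := by
        calc E.ψ fm = k⁻¹ * w * k := by rw [hw]; group
          _ = 1 := by rw [← hpe]; group
      rw [← map_one E.ψ] at h1
      have h2 := E.inj h1
      rw [fm_eq, one_eq] at h2
      exact one_ne_zero (up_inj h2).2.2.2.2.1
    · exact ⟨1, by rw [one_mul, inv_one, mul_one]; exact E.z_eq⟩
    · refine ⟨1 * E.ψ dl, ?_⟩
      rw [E.conj_dl (x := E.z) (by rw [one_mul, inv_one, mul_one]), E.z_eq, ← map_inv]
      refine congrArg E.ψ (inv_eq_of_mul_eq_one_right ?_)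
      rw [up_mul, one_eq]
      congr 1 <;> ring
  have hfU := h (k⁻¹ * g) (up 0 0 0 0 1 0) (mem_Qm_up.2 rfl) (by
    rw [show k⁻¹ * g * E.z * (k⁻¹ * g)⁻¹ = k⁻¹ * (g * E.z * g⁻¹) * k by group, hg, hpe, hw, ← fm_eq]
    group)
  exact one_ne_zero (mem_Um_up.1 (show up 0 0 0 0 1 0 ∈ Um from hfU)).2.1

set_option maxHeartbeats 1600000 in
/-- **Piece B**: in the first case the centraliser of `fm` is in the range. -/
theorem cent_fm (h : E.OnlyU)
    (hJ : ∀ K : Subgroup G, (Nat.card K).Coprime 3 → E.J ≤ normalizer (K : Set G) → K = ⊥) :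
    centralizer ({E.ψ fm} : Set G) ≤ E.ψ.range := by
  classical
  haveI : Fact (Nat.Prime 3) := ⟨Nat.prime_three⟩
  haveI : Finite Pv := Finite.of_injective E.ψ E.inj
  set H := centralizer ({E.ψ fm} : Set G) with hH
  have hmemH : ∀ {x : Pv}, x * fm = fm * x → E.ψ x ∈ H := fun {x} hx =>
    mem_centralizer_singleton_iff.2 (by rw [← map_mul, ← map_mul, hx])
  let ι : R0 →* H := (E.ψ.comp R0.subtype).codRestrict H fun x =>
    hmemH (mem_centralizer_singleton_iff.1 x.2.2)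
  have hιi : Function.Injective ι := fun x y e => Subtype.ext (E.inj (congrArg Subtype.val e))
  let P : Subgroup H := ι.range
  let χ : P →* Multiplicative (ZMod 3) := bHom.comp (MonoidHom.ofInjective hιi).symm.toMonoidHom
  have hχ : ∀ (r : R0) (hr : ι r ∈ P), χ ⟨ι r, hr⟩ = bHom r := fun r hr => by
    show bHom ((MonoidHom.ofInjective hιi).symm ⟨ι r, hr⟩) = _
    rw [show (⟨ι r, hr⟩ : P) = MonoidHom.ofInjective hιi r from Subtype.ext rfl,
      MulEquiv.symm_apply_apply]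
  -- elements of `H` inside the range
  have hrange : ∀ {g : G}, g ∈ H → g ∈ E.ψ.range →
      ∃ r ∈ R0, g = E.ψ r ∨ g = E.ψ r * E.ψ dl := by
    rintro _ hg ⟨x, rfl⟩
    have hx : x * fm = fm * x := E.inj (by
      rw [map_mul, map_mul]; exact mem_centralizer_singleton_iff.1 hg)
    rcases cent_fm_cases hx with h1 | h1
    · exact ⟨x, h1, Or.inl rfl⟩
    · exact ⟨x * dl, h1, Or.inr (by rw [← map_mul, mul_assoc, dl_sq, mul_one])⟩
  -- the transfer
  set yH : H := ι ⟨tau, tau_R0⟩ with hyH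
  set V := MonoidHom.transfer χ with hV
  have hconjb : ∀ g : G, g ∈ H → ∀ (x : R0), g⁻¹ * E.ψ tau * g = E.ψ (x : Pv) →
      bHom x = Multiplicative.ofAdd (1 : ZMod 3) := by
    intro g hg x hx
    obtain ⟨q, hq⟩ := exists_moveU (a := 0) (b := 1) (c := 0) (by simp)
    have hgr : g ∈ E.ψ.range := by
      have h1 : (g⁻¹ * (E.ψ q)⁻¹) ∈ E.ψ.range := by
        refine E.conj_range h ⟨x, ?_⟩
        rw [← hx, show E.ψ tau = (E.ψ q)⁻¹ * E.z * E.ψ q by
          show E.ψ (up 0 1 0 0 0 0) = (E.ψ q)⁻¹ * E.ψ zm * E.ψ q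
          rw [← hq, map_mul, map_mul, map_inv]; group]
        group
      have h2 := mul_mem h1 ⟨q, rfl⟩
      rw [inv_mul_cancel_right] at h2
      exact inv_mem_iff.1 h2
    obtain ⟨r, hr, hgr'⟩ := hrange hg hgr
    have hb : ∀ u ∈ R0, ∀ hu : u⁻¹ * tau * u ∈ R0,
        bHom ⟨_, hu⟩ = Multiplicative.ofAdd (1 : ZMod 3) := fun u hu' hu => by
      rw [show (⟨_, hu⟩ : R0) = ⟨u, hu'⟩⁻¹ * ⟨tau, tau_R0⟩ * ⟨u, hu'⟩ from rfl,
        map_mul, map_mul, map_inv, mul_comm (bHom ⟨u, hu'⟩)⁻¹, inv_mul_cancel_right]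
      exact bHom_up _
    have hmem : r⁻¹ * tau * r ∈ R0 := mul_mem (mul_mem (inv_mem hr) tau_R0) hr
    rcases hgr' with rfl | rfl
    · have hxe : (x : Pv) = r⁻¹ * tau * r := E.inj (by rw [← hx, map_mul, map_mul, map_inv])
      rw [show x = ⟨_, hmem⟩ from Subtype.ext hxe]
      exact hb r hr hmem
    · obtain ⟨b, c, s, d, e, he⟩ := mem_R0.1 hmem
      have hb1 := hb r hr hmem
      have hsub : (⟨_, hmem⟩ : R0) = ⟨up 0 b c s d e, mem_R0.2 ⟨_, _, _, _, _, rfl⟩⟩ := Subtype.ext he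
      rw [hsub, bHom_up] at hb1
      have hxe : (x : Pv) = dl * up 0 b c s d e * dl⁻¹ := E.inj (by
        rw [← hx, ← he, inv_eq_of_mul_eq_one_right dl_sq, map_mul, map_mul, map_mul, map_mul, map_inv]
        rw [mul_inv_rev, show (E.ψ dl)⁻¹ = E.ψ dl by
          rw [← map_inv, inv_eq_of_mul_eq_one_right dl_sq]]
        group)
      rw [dl_conj, neg_zero] at hxe
      rw [show x = ⟨_, mem_R0.2 ⟨_, _, _, _, _, rfl⟩⟩ from Subtype.ext hxe, bHom_up, hb1]
  have hbt : bHom ⟨tau, tau_R0⟩ = Multiplicative.ofAdd (1 : ZMod 3) := bHom_up _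
  have hy3 : yH ^ 3 = 1 := by
    rw [hyH, ← map_pow, show (⟨tau, tau_R0⟩ : R0) ^ 3 = 1 from Subtype.ext (by
      rw [Subgroup.coe_pow, Subgroup.coe_one, pow_succ, pow_two]
      show up 0 1 0 0 0 0 * up 0 1 0 0 0 0 * up 0 1 0 0 0 0 = 1
      rw [up_mul, up_mul, one_eq]; congr 1 <;> decide), map_one]
  have hyP : yH ∈ P := ⟨_, rfl⟩
  have hχy : χ ⟨yH, hyP⟩ = Multiplicative.ofAdd (1 : ZMod 3) := (hχ ⟨tau, tau_R0⟩ hyP).trans hbt
  have hkey : ∀ (k : ℕ) (g : H) (hk : g⁻¹ * yH ^ k * g ∈ P),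
      χ ⟨_, hk⟩ = χ ⟨yH, hyP⟩ ^ k := by
    intro k g hk
    rw [hχy, ← ofAdd_nsmul]
    obtain ⟨x, hx⟩ := hk
    have hmod : yH ^ k = yH ^ (k % 3) := by
      conv_lhs => rw [← Nat.mod_add_div k 3, pow_add, pow_mul, hy3, one_pow, mul_one]
    have hsub : (⟨g⁻¹ * yH ^ k * g, ⟨x, hx⟩⟩ : P) = ⟨ι x, ⟨x, rfl⟩⟩ := Subtype.ext hx.symm
    rw [hsub, hχ x ⟨x, rfl⟩]
    rw [hmod] at hx
    have hk3 : (k : ZMod 3) = ((k % 3 : ℕ) : ZMod 3) := (ZMod.natCast_mod k 3).symm
    rw [nsmul_one, hk3]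
    have hlt := Nat.mod_lt k (show 3 > 0 by norm_num)
    interval_cases hk' : k % 3
    · rw [pow_zero, mul_one, inv_mul_cancel] at hx
      rw [show x = 1 from hιi (by rw [hx, map_one]), map_one, Nat.cast_zero, ofAdd_zero]
    · rw [pow_one] at hx
      rw [Nat.cast_one]
      exact hconjb g g.2 x (congrArg Subtype.val hx).symm
    · have hx' : g⁻¹ * yH * g = ι x⁻¹ := by
        rw [map_inv, hx, show yH ^ 2 = yH⁻¹ from eq_inv_of_mul_eq_one_left (by rw [← pow_succ, hy3])]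
        group
      have h1 := hconjb g g.2 x⁻¹ (congrArg Subtype.val hx')
      rw [map_inv, inv_eq_iff_eq_inv] at h1
      rw [h1]
      exact mult_inv_one
  have hRmax : ∀ Q : Subgroup H, IsPGroup 3 Q → P ≤ Q → Q = P := by
    intro Q hQ hle
    have hmap : P.map H.subtype = R0.map E.ψ := by
      rw [show P = ι.range from rfl, MonoidHom.map_range]
      ext w
      constructor
      · rintro ⟨r, rfl⟩; exact ⟨r, r.2, rfl⟩
      · rintro ⟨r, hr, rfl⟩; exact ⟨⟨r, hr⟩, rfl⟩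
    refine map_injective H.subtype_injective ((E.card_le_R0 h _ (hQ.map H.subtype) ?_ ?_).trans hmap.symm)
    · rintro _ ⟨w, -, rfl⟩
      exact mem_centralizer_singleton_iff.1 w.2
    · rw [← hmap]; exact map_mono hle
  have hP3 : IsPGroup 3 P := IsPGroup.of_card (n := 5) (by
    rw [show P = ι.range from rfl, ← Nat.card_congr (MonoidHom.ofInjective hιi).toEquiv, card_R0]
    norm_num)
  obtain ⟨SP, hSP⟩ : ∃ S : Sylow 3 H, (S : Subgroup H) = P := by
    obtain ⟨S, hS⟩ := hP3.exists_le_sylow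
    exact ⟨S, hRmax _ S.2 hS⟩
  have hVy : V yH = Multiplicative.ofAdd (1 : ZMod 3) ^ P.index := by
    rw [hV, Fus.transfer_const χ hyP hkey, hχy]
  have hVy1 : V yH ≠ 1 := by
    rw [hVy]
    intro e
    have h1 := SP.not_dvd_index
    rw [hSP] at h1
    refine h1 ?_
    rw [← ofAdd_nsmul, ofAdd_eq_one, nsmul_one] at e
    exact (CharP.cast_eq_zero_iff (ZMod 3) 3 _).1 e
  -- the transfer on `R0`
  have hdlH : E.ψ dl ∈ H := hmemH dl_fm
  set dH : H := ⟨E.ψ dl, hdlH⟩ with hdH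
  have hVd : V dH = 1 := by
    have h1 : dH ^ 2 = 1 := Subtype.ext (by
      rw [pow_two, Subgroup.coe_mul, ← map_mul, dl_sq, map_one, Subgroup.coe_one])
    have h2 : V dH ^ 2 = 1 := by rw [← map_pow, h1, map_one]
    exact mult_sq _ h2
  have hVinv : ∀ r r' : R0, dl * (r : Pv) * dl⁻¹ = r' → V (ι r') = V (ι r) := by
    intro r r' hr
    have : ι r' = dH * ι r * dH⁻¹ := Subtype.ext (by
      show E.ψ (r' : Pv) = E.ψ dl * E.ψ (r : Pv) * (E.ψ dl)⁻¹
      rw [← hr, map_mul, map_mul, map_inv])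
    rw [this, map_mul, map_mul, map_inv, hVd, one_mul, inv_one, mul_one]
  have hself := mult_inv
  let Rv : ZMod 3 → ZMod 3 → ZMod 3 → ZMod 3 → ZMod 3 → R0 := fun b c s d e =>
    ⟨up 0 b c s d e, mem_R0.2 ⟨_, _, _, _, _, rfl⟩⟩
  have hVs : ∀ s : ZMod 3, V (ι (Rv 0 0 s 0 0)) = 1 := fun s => hself _ (by
    rw [← map_inv, ← map_inv, show (Rv 0 0 s 0 0)⁻¹ = Rv 0 0 (-s) 0 0 from inv_eq_of_mul_eq_one_right
      (Subtype.ext (by
        show up 0 0 0 s 0 0 * up 0 0 0 (-s) 0 0 = 1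
        rw [up_mul, one_eq]; congr 1 <;> ring))]
    refine hVinv _ _ ?_
    show dl * up 0 0 0 s 0 0 * dl⁻¹ = up 0 0 0 (-s) 0 0
    rw [dl_conj, neg_zero])
  have hVe : ∀ e : ZMod 3, V (ι (Rv 0 0 0 0 e)) = 1 := fun e => hself _ (by
    rw [← map_inv, ← map_inv, show (Rv 0 0 0 0 e)⁻¹ = Rv 0 0 0 0 (-e) from inv_eq_of_mul_eq_one_right
      (Subtype.ext (by
        show up 0 0 0 0 0 e * up 0 0 0 0 0 (-e) = 1
        rw [up_mul, one_eq]; congr 1 <;> ring))]
    refine hVinv _ _ ?_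
    show dl * up 0 0 0 0 0 e * dl⁻¹ = up 0 0 0 0 0 (-e)
    rw [dl_conj, neg_zero])
  have hVc : ∀ c : ZMod 3, V (ι (Rv 0 c 0 0 0)) = 1 := fun c => by
    rw [show Rv 0 c 0 0 0 = Rv 1 0 0 0 0 * Rv 0 0 0 0 c * (Rv 1 0 0 0 0)⁻¹ * (Rv 0 0 0 0 c)⁻¹ from
      Subtype.ext (comm_z' c).symm, map_mul, map_mul, map_mul, map_inv, map_inv, map_mul, map_mul,
      map_mul, map_inv, map_inv, hVe, mul_one, inv_one, mul_one, mul_inv_cancel]
  have hVd' : ∀ d : ZMod 3, V (ι (Rv 0 0 0 d 0)) = 1 := fun d => by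
    rw [show Rv 0 0 0 d 0 = Rv 0 0 1 0 0 * Rv 0 0 0 0 d * (Rv 0 0 1 0 0)⁻¹ * (Rv 0 0 0 0 d)⁻¹ from
      Subtype.ext (comm_f' d).symm, map_mul, map_mul, map_mul, map_inv, map_inv, map_mul, map_mul,
      map_mul, map_inv, map_inv, hVe, mul_one, inv_one, mul_one, mul_inv_cancel]
  have hVR : ∀ b c s d e, V (ι (Rv b c s d e)) = 1 ↔ b = 0 := by
    intro b c s d e
    rw [show Rv b c s d e = Rv b 0 0 0 0 * Rv 0 (c - b * e) 0 0 0 * Rv 0 0 0 (d - s * e) 0 *
      Rv 0 0 s 0 0 * Rv 0 0 0 0 e from Subtype.ext (R0_decomp b c s d e), map_mul, map_mul, map_mul,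
      map_mul, map_mul, map_mul, map_mul, map_mul, hVc, hVd', hVs, hVe, mul_one, mul_one, mul_one,
      mul_one]
    constructor
    · intro hb
      obtain rfl | rfl | rfl := three_cases b
      · rfl
      · exact absurd hb hVy1
      · exfalso
        refine hVy1 ?_
        rw [show Rv (-1) 0 0 0 0 = (⟨tau, tau_R0⟩ : R0)⁻¹ from (inv_eq_of_mul_eq_one_right
          (Subtype.ext (by
            show up 0 1 0 0 0 0 * up 0 (-1) 0 0 0 0 = 1
            rw [up_mul, one_eq]; congr 1 <;> ring))).symm, map_inv, map_inv, inv_eq_one] at hb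
        exact hb
    · rintro rfl
      rw [show Rv 0 0 0 0 0 = 1 from Subtype.ext one_eq.symm, map_one, map_one]
  -- the kernel and its quotient by `fm`
  set fH : H := ⟨E.ψ fm, hmemH rfl⟩ with hfH
  have hfι : fH = ι (Rv 0 0 0 1 0) := Subtype.ext (congrArg E.ψ fm_eq)
  set K := V.ker with hK
  set fK : K := ⟨fH, by rw [hK, MonoidHom.mem_ker, hfι, hVd']⟩ with hfK
  have hcen : ∀ g : H, g * fH = fH * g := fun g => Subtype.ext (mem_centralizer_singleton_iff.1 g.2)
  set Z : Subgroup K := zpowers fK with hZ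
  have hZc : Z ≤ center K := zpowers_le.2 (mem_center_iff.2 fun g => Subtype.ext (hcen g))
  haveI hZn : Z.Normal := ⟨fun n hn g => by
    rw [mem_center_iff.1 (hZc hn) g, mul_inv_cancel_right]; exact hn⟩
  have hf3 : fK ^ 3 = 1 := Subtype.ext (Subtype.ext (by
    rw [Subgroup.coe_pow, Subgroup.coe_pow, Subgroup.coe_one, Subgroup.coe_one]
    show E.ψ fm ^ 3 = 1
    rw [← map_pow, ← map_one E.ψ]
    refine congrArg E.ψ ?_
    rw [fm_eq, pow_succ, pow_two, cube_R1]))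
  have hfo : orderOf fK = 3 := orderOf_eq_prime hf3 (fun e => by
    have h1 : E.ψ fm = E.ψ 1 := by rw [map_one]; exact congrArg (fun w : K => ((w : H) : G)) e
    have h2 := E.inj h1
    rw [fm_eq, one_eq] at h2
    exact one_ne_zero (up_inj h2).2.2.2.2.1)
  have hZ3 : IsPGroup 3 Z := IsPGroup.of_card (n := 1) (by rw [hZ, Nat.card_zpowers, hfo, pow_one])
  -- the Sylow subgroup of the kernel
  let R1 : Subgroup K := P.subgroupOf K
  have hR1mem : ∀ x : K, x ∈ R1 ↔ ∃ c s d e, ((x : H) : G) = E.ψ (up 0 0 c s d e) := by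
    intro x
    constructor
    · rintro ⟨r, hr⟩
      obtain ⟨b, c, s, d, e, hre⟩ := mem_R0.1 r.2
      have hr' : r = Rv b c s d e := Subtype.ext hre
      have hr2 : ι r = (x : H) := hr
      have hb : b = 0 := (hVR b c s d e).1 (by rw [← hr', hr2]; exact x.2)
      subst hb
      exact ⟨c, s, d, e, by rw [← hr2, hr']; rfl⟩
    · rintro ⟨c, s, d, e, hx⟩
      exact ⟨Rv 0 c s d e, Subtype.ext hx.symm⟩
  have hR13 : IsPGroup 3 R1 := hP3.comap_of_injective K.subtype K.subtype_injective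
  obtain ⟨S1, hS1⟩ : ∃ S : Sylow 3 K, (S : Subgroup K) = R1 := by
    obtain ⟨S, hS⟩ := hR13.exists_le_sylow
    refine ⟨S, le_antisymm (fun x hx => ?_) hS⟩
    obtain ⟨T, hT⟩ := (S.2.map K.subtype).exists_le_sylow
    obtain ⟨g, hg⟩ := MulAction.exists_smul_eq H SP T
    -- `S` is a Sylow subgroup of the normal subgroup `K` meeting `P` in `R1`
    have hcard : Nat.card (S : Subgroup K) ≤ Nat.card R1 := by
      rw [← card_map_of_injective (f := K.subtype) K.subtype_injective]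
      have hle : (S : Subgroup K).map K.subtype ≤
          ((P ⊓ K).map (MulAut.conj g).toMonoidHom) := by
        rintro _ ⟨w, hw, rfl⟩
        have h1 : (w : H) ∈ (T : Subgroup H) := hT ⟨w, hw, rfl⟩
        rw [← hg, Sylow.coe_subgroup_smul] at h1
        obtain ⟨u, hu, hue⟩ := h1
        refine ⟨u, ⟨hSP ▸ hu, ?_⟩, hue⟩
        have h2 : u = g⁻¹ * (w : H) * g := by
          rw [← show g * u * g⁻¹ = (w : H) from hue]; group
        have hwv : V (w : H) = 1 := w.2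
        rw [h2]
        refine MonoidHom.mem_ker.2 ?_
        rw [map_mul, map_mul, map_inv, hwv, mul_one, inv_mul_cancel]
      refine (card_le_of_le hle).trans (le_of_eq ?_)
      rw [card_map_of_injective (MulAut.conj g).injective,
        ← Nat.card_congr (subgroupOfEquivOfLe (inf_le_right : P ⊓ K ≤ K)).toEquiv]
      refine congrArg (fun W : Subgroup K => Nat.card W) ?_
      rw [inf_subgroupOf_right]
    exact eq_of_le_of_card_ge hS hcard ▸ hx
  set π := QuotientGroup.mk' Z with hπ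
  let SQ : Sylow 3 (K ⧸ Z) := S1.mapSurjective (QuotientGroup.mk'_surjective Z)
  have hSQ : (SQ : Subgroup (K ⧸ Z)) = R1.map π := by rw [← hS1]; rfl
  have hfR1 : Z ≤ R1 := zpowers_le.2 ((hR1mem fK).2 ⟨0, 0, 1, 0, congrArg E.ψ fm_eq⟩)
  have hZmem : ∀ x : K, (∃ t, ((x : H) : G) = E.ψ (up 0 0 0 0 t 0)) → x ∈ Z := by
    rintro x ⟨t, ht⟩
    refine mem_zpowers_iff.2 ⟨(t.val : ℤ), ?_⟩
    rw [zpow_natCast]
    refine Subtype.ext (Subtype.ext ?_)
    rw [Subgroup.coe_pow, Subgroup.coe_pow, ht]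
    show E.ψ fm ^ t.val = _
    rw [← map_pow]
    exact congrArg E.ψ (fm_pow t)
  have hmk : ∀ (r : Pv) (hr : r * fm = fm * r) (hv : V ⟨E.ψ r, hmemH hr⟩ = 1),
      ∃ x : K, ((x : H) : G) = E.ψ r := fun r hr hv => ⟨⟨⟨_, hmemH hr⟩, MonoidHom.mem_ker.2 hv⟩, rfl⟩
  obtain ⟨dK, hdK⟩ := hmk dl dl_fm hVd
  have hinvert : ∀ x ∈ R1, dK * x * dK⁻¹ * x ∈ Z := by
    intro x hx
    obtain ⟨c, s, d, e, hxe⟩ := (hR1mem x).1 hx
    refine hZmem _ ⟨2 * d + (-s) * e, ?_⟩
    simp only [Subgroup.coe_mul, Subgroup.coe_inv, hdK, hxe]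
    rw [← map_inv, ← map_mul, ← map_mul, ← map_mul, dl_conj, neg_zero, up_mul]
    congr 2 <;> ring
  have hab : IsMulCommutative (SQ : Subgroup (K ⧸ Z)) := by
    refine ⟨⟨fun ⟨p, hp⟩ ⟨q, hq⟩ => Subtype.ext ?_⟩⟩
    show p * q = q * p
    rw [hSQ] at hp hq
    obtain ⟨a, ha, rfl⟩ := hp
    obtain ⟨b, hb, rfl⟩ := hq
    obtain ⟨c, s, d, e, hae⟩ := (hR1mem a).1 ha
    obtain ⟨c', s', d', e', hbe⟩ := (hR1mem b).1 hb
    rw [← map_mul, ← map_mul, hπ, QuotientGroup.mk'_eq_mk']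
    refine ⟨(a * b)⁻¹ * (b * a), hZmem _ ⟨s' * e - s * e', ?_⟩, by group⟩
    simp only [Subgroup.coe_mul, Subgroup.coe_inv, hae, hbe]
    rw [← map_mul, ← map_mul, ← map_inv, ← map_mul]
    refine congrArg E.ψ ?_
    rw [inv_mul_eq_iff_eq_mul, up_mul, up_mul, up_mul]
    congr 1 <;> ring
  have hnc : ¬ IsCyclic (SQ : Subgroup (K ⧸ Z)) := by
    intro hcyc
    obtain ⟨g, hg⟩ := hcyc.exists_generator
    have h1 : Nat.card (SQ : Subgroup (K ⧸ Z)) = orderOf g := (orderOf_eq_card_of_forall_mem_zpowers hg).symm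
    have hgm : (g : K ⧸ Z) ∈ R1.map π := hSQ ▸ g.2
    obtain ⟨x, hx, hxe⟩ := hgm
    obtain ⟨c, s, d, e, hxv⟩ := (hR1mem x).1 hx
    have h3 : orderOf g ∣ 3 := by
      refine orderOf_dvd_of_pow_eq_one (Subtype.ext ?_)
      rw [Subgroup.coe_pow, ← hxe, ← map_pow, show x ^ 3 = 1 from Subtype.ext (Subtype.ext (by
        rw [Subgroup.coe_pow, Subgroup.coe_pow, hxv, pow_succ, pow_two, ← map_mul, ← map_mul, cube_R1,
          map_one]; rfl)), map_one]
      rfl
    have h81 : 81 ≤ Nat.card R1 := by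
      have hm : ∀ v : ZMod 3 × ZMod 3 × ZMod 3 × ZMod 3, ∃ x : R1,
          ((x : K) : H).1 = E.ψ (up 0 0 v.1 v.2.1 v.2.2.1 v.2.2.2) := fun v => by
        obtain ⟨x, hx⟩ := hmk (up 0 0 v.1 v.2.1 v.2.2.1 v.2.2.2) ((up_fm _ _ _ _ _ _).2 rfl)
          ((hVR 0 _ _ _ _).2 rfl)
        exact ⟨⟨x, (hR1mem x).2 ⟨_, _, _, _, hx⟩⟩, hx⟩
      choose v hv using hm
      have := Nat.card_le_card_of_injective v fun a b e => by
        have e' : E.ψ (up 0 0 a.1 a.2.1 a.2.2.1 a.2.2.2) = E.ψ (up 0 0 b.1 b.2.1 b.2.2.1 b.2.2.2) := by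
          rw [← hv a, e]; exact hv b
        obtain ⟨-, -, h1, h2, h3, h4⟩ := up_inj (E.inj e')
        exact Prod.ext h1 (Prod.ext h2 (Prod.ext h3 h4))
      simpa [Nat.card_zmod] using this
    have h27 : Nat.card R1 ≤ 3 * Nat.card (SQ : Subgroup (K ⧸ Z)) := by
      let ρ := π.comp R1.subtype
      have hk : Nat.card ρ.ker ≤ 3 := by
        have hkZ : ρ.ker.map R1.subtype ≤ Z := by
          rintro _ ⟨w, hw, rfl⟩
          have hw' : π (w : K) = 1 := hw
          exact (QuotientGroup.eq_one_iff _).1 hw'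
        have := card_le_of_le hkZ
        rw [card_map_of_injective R1.subtype_injective] at this
        exact this.trans (le_of_eq ((Nat.card_zpowers fK).trans hfo))
      have hr : ρ.range = R1.map π := by
        rw [MonoidHom.range_comp, range_subtype]
      rw [← ρ.ker.card_mul_index, index_ker, hSQ, hr]
      exact Nat.mul_le_mul_right _ hk
    have := Nat.le_of_dvd (by norm_num) h3
    omega
  -- the normaliser of the Sylow subgroup
  have hzK : ∃ zK : K, zK ∈ R1 ∧ ((zK : H) : G) = E.z := by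
    obtain ⟨x, hx⟩ := hmk (up 0 0 1 0 0 0) ((up_fm _ _ _ _ _ _).2 rfl) ((hVR 0 _ _ _ _).2 rfl)
    exact ⟨x, (hR1mem x).2 ⟨_, _, _, _, hx⟩, by rw [hx, ← zm_eq]⟩
  obtain ⟨zK, hzR, hzG⟩ := hzK
  have hcomap : (R1.map π).comap π = R1 := comap_map_eq_self (by rw [hπ, QuotientGroup.ker_mk']; exact hfR1)
  have hnorm : ∀ g : K, π g ∈ normalizer ((SQ : Subgroup (K ⧸ Z)) : Set (K ⧸ Z)) →
      g ∈ R1 ∨ g * dK ∈ R1 := by
    intro g hg
    have h1 : g * zK * g⁻¹ ∈ R1 := by
      rw [← hcomap, mem_comap, map_mul, map_mul, map_inv]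
      rw [hSQ] at hg
      exact (mem_normalizer_iff.1 hg _).1 (mem_map_of_mem π hzR)
    obtain ⟨c, s, d, e, he⟩ := (hR1mem _).1 h1
    simp only [Subgroup.coe_mul, Subgroup.coe_inv, hzG] at he
    have hgr := E.conj_range h (g := ((g : H) : G)) ⟨_, he.symm⟩
    obtain ⟨r, hr, hre⟩ := hrange (g : H).2 hgr
    obtain ⟨b, c', s', d', e', hb⟩ := mem_R0.1 hr
    subst hb
    rcases hre with hre | hre
    · have hgι : (g : H) = ι (Rv b c' s' d' e') := Subtype.ext hre
      have hb : b = 0 := (hVR b c' s' d' e').1 (by rw [← hgι]; exact g.2)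
      subst hb
      exact Or.inl ((hR1mem g).2 ⟨_, _, _, _, hre⟩)
    · have hge : (((g * dK : K) : H) : G) = E.ψ (up 0 b c' s' d' e') := by
        rw [Subgroup.coe_mul, Subgroup.coe_mul, hdK, hre, mul_assoc, ← map_mul, dl_sq, map_one, mul_one]
      have hgι : ((g * dK : K) : H) = ι (Rv b c' s' d' e') := Subtype.ext hge
      have hb : b = 0 := (hVR b c' s' d' e').1 (by rw [← hgι]; exact (g * dK).2)
      subst hb
      exact Or.inr ((hR1mem _).2 ⟨_, _, _, _, hge⟩)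
  have hdN : π dK ∈ normalizer ((SQ : Subgroup (K ⧸ Z)) : Set (K ⧸ Z)) := by
    rw [hSQ]
    have hle : ∀ x ∈ R1.map π, π dK * x * (π dK)⁻¹ ∈ R1.map π := by
      rintro _ ⟨x, hx, rfl⟩
      have h2 := hinvert x hx
      rw [← map_inv, ← map_mul, ← map_mul]
      refine ⟨x⁻¹, inv_mem hx, ?_⟩
      rw [map_inv]
      refine inv_eq_of_mul_eq_one_left ?_
      rw [← map_mul]
      exact (QuotientGroup.eq_one_iff _).2 h2
    rw [mem_normalizer_iff_map_conj_eq]
    refine eq_of_le_of_card_ge ?_ (le_of_eq (card_map_of_injective (MulAut.conj (π dK)).injective).symm)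
    rintro _ ⟨x, hx, rfl⟩
    exact hle x hx
  have hdC : π dK ∉ centralizer ((SQ : Subgroup (K ⧸ Z)) : Set (K ⧸ Z)) := by
    intro hd
    have h1 := mem_centralizer_iff.1 hd (π zK) (by rw [hSQ]; exact mem_map_of_mem π hzR)
    have h2 : dK * zK * dK⁻¹ * zK⁻¹ ∈ Z := by
      rw [← QuotientGroup.eq_one_iff]
      show π _ = 1
      rw [map_mul, map_mul, map_mul, map_inv, map_inv, ← h1]
      group
    obtain ⟨n, hn⟩ := mem_zpowers_iff.1 h2
    obtain ⟨t, ht⟩ : ∃ t : ZMod 3, fm ^ n = up 0 0 0 0 t 0 := by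
      refine ⟨(n : ZMod 3), ?_⟩
      have h3 : fm ^ (3 : ℤ) = 1 := by
        rw [show ((3 : ℤ)) = ((3 : ℕ) : ℤ) from rfl, zpow_natCast, fm_eq, pow_succ, pow_two, cube_R1]
      rw [← Int.emod_add_mul_ediv n 3, zpow_add, zpow_mul, h3, one_zpow, mul_one]
      push_cast
      rw [three_zmod_zero, zero_mul, add_zero]
      have h0 := Int.emod_nonneg n (show (3 : ℤ) ≠ 0 by norm_num)
      have h2' := Int.emod_lt_of_pos n (show (0 : ℤ) < 3 by norm_num)
      interval_cases n % 3 <;>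
        [rw [zpow_zero, Int.cast_zero, one_eq];
         rw [zpow_one, Int.cast_one, fm_eq];
         (rw [zpow_two, fm_eq, up_mul]; congr 1 <;> decide)]
    have h4 : E.ψ dl * E.ψ (tel 1 0 0) * (E.ψ dl)⁻¹ * (E.ψ (tel 1 0 0))⁻¹ = E.ψ (fm ^ n) := by
      rw [map_zpow]
      have := congrArg (fun w : K => ((w : H) : G)) hn
      simp only [Subgroup.coe_mul, Subgroup.coe_inv, Subgroup.coe_zpow, hdK, hzG] at this
      rw [← E.z_eq]
      exact this.symm
    rw [ht, ← map_inv, ← map_inv, ← map_mul, ← map_mul, ← map_mul] at h4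
    have h5 := E.inj h4
    rw [dl_conj, mul_inv_eq_iff_eq_mul, up_mul] at h5
    obtain ⟨-, -, h6, -⟩ := up_inj h5
    exact absurd h6 (by simpa using neg_one_ne_one)
  have hidx : ((centralizer ((SQ : Subgroup (K ⧸ Z)) : Set (K ⧸ Z))).subgroupOf
      (normalizer ((SQ : Subgroup (K ⧸ Z)) : Set (K ⧸ Z)))).index = 2 := by
    rw [index_eq_two_iff]
    refine ⟨⟨π dK, hdN⟩, fun q => ?_⟩
    obtain ⟨g, hg⟩ := QuotientGroup.mk'_surjective Z (q : K ⧸ Z)
    rw [mem_subgroupOf, mem_subgroupOf, Subgroup.coe_mul, ← hg, ← map_mul]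
    have hsub : (SQ : Subgroup (K ⧸ Z)) ≤ centralizer ((SQ : Subgroup (K ⧸ Z)) : Set (K ⧸ Z)) :=
      le_centralizer_iff_isMulCommutative.2 hab
    rcases hnorm g (by rw [hg]; exact q.2) with h1 | h1
    · have h2 : π g ∈ centralizer ((SQ : Subgroup (K ⧸ Z)) : Set (K ⧸ Z)) :=
        hsub (by rw [hSQ]; exact mem_map_of_mem π h1)
      refine Or.inr ⟨h2, fun h3 => hdC ?_⟩
      have := mul_mem (inv_mem h2) h3
      rwa [map_mul, inv_mul_cancel_left] at this
    · have h2 : π (g * dK) ∈ centralizer ((SQ : Subgroup (K ⧸ Z)) : Set (K ⧸ Z)) :=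
        hsub (by rw [hSQ]; exact mem_map_of_mem π h1)
      refine Or.inl ⟨h2, fun h3 => hdC ?_⟩
      have := mul_mem (inv_mem h3) h2
      rwa [map_mul, inv_mul_cancel_left] at this
  have hres : ¬ Cfsg.pResidual 3 (K ⧸ Z) ≠ ⊤ := fun hne => hne (Fus.residual_top SQ fun p hp => by
    rw [hSQ] at hp
    obtain ⟨x, hx, rfl⟩ := hp
    have hd : π dK ∈ Cfsg.pResidual 3 (K ⧸ Z) := by
      refine subset_closure ?_
      show (orderOf (π dK)).Coprime 3
      refine Nat.Coprime.coprime_dvd_left (orderOf_dvd_of_pow_eq_one (n := 2) ?_) (by norm_num)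
      rw [← map_pow, show dK ^ 2 = 1 from Subtype.ext (Subtype.ext (by
        rw [Subgroup.coe_pow, Subgroup.coe_pow, hdK, pow_two, ← map_mul, dl_sq, map_one]; rfl)),
        map_one]
    have hx2 : π x ^ 2 ∈ Cfsg.pResidual 3 (K ⧸ Z) := by
      have hd' : π x * π dK * (π x)⁻¹ ∈ Cfsg.pResidual 3 (K ⧸ Z) := by
        refine subset_closure ?_
        show (orderOf (π x * π dK * (π x)⁻¹)).Coprime 3
        rw [show orderOf (π x * π dK * (π x)⁻¹) = orderOf (π dK) from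
          orderOf_injective (MulAut.conj (π x)).toMonoidHom (MulAut.conj (π x)).injective (π dK)]
        refine Nat.Coprime.coprime_dvd_left (orderOf_dvd_of_pow_eq_one (n := 2) ?_) (by norm_num)
        rw [← map_pow, show dK ^ 2 = 1 from Subtype.ext (Subtype.ext (by
          rw [Subgroup.coe_pow, Subgroup.coe_pow, hdK, pow_two, ← map_mul, dl_sq, map_one]; rfl)),
          map_one]
      have h1 : π x * π dK * (π x)⁻¹ * (π dK)⁻¹ = π x ^ 2 := by
        have h2 : π (dK * x * dK⁻¹ * x) = 1 := (QuotientGroup.eq_one_iff _).2 (hinvert x hx)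
        rw [map_mul, map_mul, map_mul, map_inv] at h2
        have h3 : π dK * (π x)⁻¹ * (π dK)⁻¹ = π x := by
          calc π dK * (π x)⁻¹ * (π dK)⁻¹ = (π dK * π x * (π dK)⁻¹)⁻¹ := by group
            _ = π x := by rw [eq_inv_of_mul_eq_one_left h2, inv_inv]
        rw [pow_two]
        conv_rhs => arg 2; rw [← h3]
        group
      rw [← h1]
      exact mul_mem hd' (inv_mem hd)
    obtain ⟨c, s, d, e, hxv⟩ := (hR1mem x).1 hx
    have hx3 : π x ^ 3 = 1 := by
      rw [← map_pow, show x ^ 3 = 1 from Subtype.ext (Subtype.ext (by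
        rw [Subgroup.coe_pow, Subgroup.coe_pow, hxv, pow_succ, pow_two, ← map_mul, ← map_mul, cube_R1,
          map_one]; rfl)), map_one]
    have := inv_mem hx2
    rwa [show (π x ^ 2)⁻¹ = π x from inv_eq_of_mul_eq_one_left (by rw [← pow_succ', hx3])] at this)
  haveI := Fintype.ofFinite (K ⧸ Z)
  have hlen : Cfsg.PLengthLE 3 1 (K ⧸ Z) :=
    (CfsgLib.SmithTyrer.residual_or_pLength (by norm_num) hab hnc hidx).resolve_left hres
  -- there is no normal subgroup of order prime to three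
  have hcore : ∀ N : Subgroup (K ⧸ Z), N.Characteristic → (Nat.card N).Coprime 3 → N = ⊥ := by
    intro N hNc hN
    set X := N.comap π with hX
    have hZX : Z ≤ X := fun x hx => by
      rw [hX, mem_comap, show π x = 1 from (QuotientGroup.eq_one_iff x).2 hx]; exact one_mem N
    obtain ⟨C, hC, hCm⟩ := Fus.exists_prime_part (Z.subgroupOf X) (fun w hw => mem_center_iff.2 fun u =>
      Subtype.ext (mem_center_iff.1 (hZc hw) u)) (hZ3.comap_of_injective X.subtype X.subtype_injective) (by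
      show (Z.relIndex X).Coprime 3
      have e := Subgroup.relIndex_ker X (f := π)
      rw [hπ, QuotientGroup.ker_mk'] at e
      rw [e, hX, hπ, map_comap_eq_self_of_surjective (QuotientGroup.mk'_surjective Z)]
      exact hN)
    set C' : Subgroup G := ((C.map X.subtype).map K.subtype).map H.subtype with hC'
    have hC'3 : (Nat.card C').Coprime 3 := by
      rwa [hC', card_map_of_injective H.subtype_injective, card_map_of_injective K.subtype_injective,
        card_map_of_injective X.subtype_injective]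
    have hmemC : ∀ w : G, w ∈ C' ↔ ∃ x : K, x ∈ X ∧ ((x : H) : G) = w ∧ (orderOf x).Coprime 3 := by
      intro w
      constructor
      · rintro ⟨_, ⟨_, ⟨x, hx, rfl⟩, rfl⟩, rfl⟩
        refine ⟨x, x.2, rfl, ?_⟩
        rw [orderOf_coe]
        exact (hCm x).1 hx
      · rintro ⟨x, hx, rfl, ho⟩
        refine ⟨_, ⟨_, ⟨⟨x, hx⟩, (hCm _).2 ?_, rfl⟩, rfl⟩, rfl⟩
        rwa [Subgroup.orderOf_mk]
    have hC'b : C' = ⊥ := by
      refine hJ C' hC'3 ?_
      rintro _ ⟨j, hj, rfl⟩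
      have hjH : E.ψ j ∈ H := hmemH (mem_centralizer_singleton_iff.1 (mem_J_cases hj).2)
      have hKn : K.Normal := MonoidHom.normal_ker V
      let c : MulAut K := MulAut.conjNormal (⟨E.ψ j, hjH⟩ : H)
      -- the automorphism preserves `X`
      have hcX : ∀ x ∈ X, c x ∈ X := by
        intro x hx
        have hcZ : Z.map c.toMonoidHom = Z := by
          rw [hZ, MonoidHom.map_zpowers]
          show zpowers (c fK) = _
          rw [show c fK = fK from Subtype.ext (by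
            rw [MulAut.conjNormal_apply]
            exact mul_inv_eq_iff_eq_mul.2 (hcen _))]
        let cq : (K ⧸ Z) ≃* (K ⧸ Z) := QuotientGroup.congr Z Z c hcZ
        have h1 : π (c x) = cq (π x) := rfl
        show π (c x) ∈ N
        rw [h1]
        exact (hNc.fixed cq).ge hx
      rw [mem_normalizer_iff_map_conj_eq]
      refine eq_of_le_of_card_ge ?_ (le_of_eq (card_map_conj C' (E.ψ j)).symm)
      rintro _ ⟨w, hw, rfl⟩
      obtain ⟨x, hx, rfl, ho⟩ := (hmemC w).1 hw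
      refine (hmemC _).2 ⟨c x, hcX x hx, by simp [c], ?_⟩
      rwa [MulEquiv.orderOf_eq]
    rw [eq_bot_iff]
    intro q hq
    obtain ⟨x, rfl⟩ := QuotientGroup.mk'_surjective Z q
    have hxX : x ∈ X := hq
    rw [mem_bot]
    refine (QuotientGroup.eq_one_iff x).2 ?_
    set n := orderOf x
    have hn : n ≠ 0 := (orderOf_pos x).ne'
    have h1 : x ^ 3 ^ n.factorization 3 = 1 := by
      have h2 : (((x ^ 3 ^ n.factorization 3 : K) : H) : G) ∈ C' := (hmemC _).2 ⟨_, pow_mem hxX _, rfl, by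
        rw [orderOf_pow_of_dvd (pow_ne_zero _ (by norm_num)) (Nat.ordProj_dvd n 3)]
        exact (Nat.coprime_ordCompl Nat.prime_three hn).symm⟩
      rw [hC'b, mem_bot] at h2
      exact Subtype.ext (Subtype.ext h2)
    have h3 : π x = 1 := by
      rw [← orderOf_eq_one_iff]
      refine Nat.eq_one_of_dvd_coprimes (Nat.Coprime.pow_right (n.factorization 3) hN) ?_
        (orderOf_dvd_of_pow_eq_one (by rw [← map_pow, h1, map_one]))
      exact orderOf_dvd_natCard N hq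
    exact (QuotientGroup.eq_one_iff x).1 h3
  have hSn : (SQ : Subgroup (K ⧸ Z)).Normal := by
    refine Fus.sylow_normal_of_pLength hlen (fun N hN hN3 => ?_) SQ
    have hchar : (Cfsg.pPrimeCore 3 (K ⧸ Z)).Characteristic :=
      characteristic_iff_map_le.2 fun φ => CfsgLib.Solvable.le_pPrimeCore 3
        ((CfsgLib.Solvable.pPrimeCore_normal (p := 3)).map φ.toMonoidHom φ.surjective)
        (by rw [card_map_of_injective φ.injective]; exact CfsgLib.Solvable.coprime_card_pPrimeCore 3)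
    have hle : N ≤ Cfsg.pPrimeCore 3 (K ⧸ Z) := CfsgLib.Solvable.le_pPrimeCore 3 hN hN3
    rw [hcore _ hchar (CfsgLib.Solvable.coprime_card_pPrimeCore 3)] at hle
    exact le_bot_iff.1 hle
  -- conclusion
  intro g hg
  have hKr : ∀ x : K, ((x : H) : G) ∈ E.ψ.range := by
    intro x
    rcases hnorm x (by rw [normalizer_eq_top_iff.2 hSn]; exact mem_top _) with h1 | h1
    · obtain ⟨c, s, d, e, he⟩ := (hR1mem x).1 h1
      exact ⟨_, he.symm⟩
    · obtain ⟨c, s, d, e, he⟩ := (hR1mem _).1 h1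
      refine ⟨up 0 0 c s d e * dl⁻¹, ?_⟩
      rw [map_mul, map_inv, ← he, Subgroup.coe_mul, Subgroup.coe_mul, hdK, mul_inv_cancel_right]
  obtain ⟨b, hb⟩ : ∃ b : ZMod 3, V (⟨g, hg⟩ * ι (Rv b 0 0 0 0)) = 1 := by
    have hy' : yH = ι (Rv 1 0 0 0 0) := rfl
    have h2 := mult_cover
    rcases h2 (V ⟨g, hg⟩) _ hVy1 with h1 | h1 | h1
    · exact ⟨0, by rw [show Rv 0 0 0 0 0 = 1 from Subtype.ext one_eq.symm, map_one, mul_one, h1]⟩
    · exact ⟨1, by rw [map_mul, ← hy', h1]⟩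
    · refine ⟨1 + 1, ?_⟩
      rw [show Rv (1 + 1) 0 0 0 0 = Rv 1 0 0 0 0 * Rv 1 0 0 0 0 from Subtype.ext (by
        show up 0 (1 + 1) 0 0 0 0 = up 0 1 0 0 0 0 * up 0 1 0 0 0 0
        rw [up_mul]; congr 1 <;> ring), map_mul ι, map_mul, map_mul, ← hy', h1]
  have h1 := hKr ⟨_, MonoidHom.mem_ker.2 hb⟩
  have h2 : E.ψ (up 0 b 0 0 0 0) ∈ E.ψ.range := ⟨_, rfl⟩
  have := mul_mem h1 (inv_mem h2)
  rwa [show ((⟨g, hg⟩ * ι (Rv b 0 0 0 0) : H) : G) * (E.ψ (up 0 b 0 0 0 0))⁻¹ = g from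
    mul_inv_cancel_right g _] at this

end Emb

end CfsgLib.L43
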