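import Cfsg.Agent.LFourThree.CentFm
import Cfsg.Agent.Solvable.CoprimeAbelian

/-!
# The centraliser of the involution in the first case
-/

set_option autoImplicit false
set_option maxRecDepth 100000
set_option linter.style.haveILetI false
set_option linter.unusedSectionVars false
set_option maxHeartbeats 1000000

namespace CfsgLib.L43

open Subgroup FM Fus

universe u

namespace CTA

/-- The Sylow three-subgroup of the centraliser of `tm`. -/
def e0 (i j : ZMod 3) : Pv := up 0 0 i j 0 0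

theorem e0_mat (i j : ZMod 3) :
    (e0 i j : SL4).1 = !![1, 0, 0, i; 0, 1, j, 0; 0, 0, 1, 0; 0, 0, 0, 1] := rfl

theorem pv_mul_val (x y : Pv) : ((x * y : Pv) : SL4).1 = (x : SL4).1 * (y : SL4).1 := rfl

theorem e0_mul (i j k l : ZMod 3) : e0 i j * e0 k l = e0 (i + k) (j + l) := by
  refine pv_ext ?_
  rw [pv_mul_val, e0_mat, e0_mat, e0_mat]
  ext a b; fin_cases a <;> fin_cases b <;> simp [Matrix.mul_apply, Fin.sum_univ_four, add_comm]

theorem mult_cube : ∀ w : Multiplicative (ZMod 3 × ZMod 3), w ^ 3 = 1 := by decide +kernel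

theorem unit_cases : ∀ i : ZMod 3, i ≠ 0 → i = 1 ∨ i = -1 := by decide

theorem e0_facts : e0 1 0 = zm ∧ e0 0 1 = um ∧ e0 0 0 = 1 ∧ tm * tm = (1 : Pv) ∧ dl ∉ Sm ∧
    (∀ i j : ZMod 3, tm * e0 i j * tm = e0 i j ∧ dl * e0 i j * dl = e0 (-i) (-j)) ∧
    dl * tm = tm * dl := by
  refine ⟨pv_ext (by decide +kernel), pv_ext (by decide +kernel), pv_ext (by decide +kernel),
    pv_ext (by decide +kernel), fun h => dl_not_mem_C0 (Sm_le_C0 h), fun i j => ?_, pv_ext (by decide +kernel)⟩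
  constructor
  all_goals
    refine pv_ext ?_
    rw [pv_mul_val, pv_mul_val, e0_mat]
    ext a b; fin_cases a <;> fin_cases b <;>
      simp [tm, dl, Matrix.diagonal, Matrix.mul_apply, Fin.sum_univ_four, e0_mat]

theorem norm_cases {x : Pv} (ht : x * tm = tm * x) {i j k l : ZMod 3} (hz : x * zm = e0 i j * x)
    (hu : x * um = e0 k l * x) :
    ∃ c b : ZMod 3, x = e0 c b ∨ x = e0 c b * tm ∨ x = e0 c b * dl ∨ x = e0 c b * (tm * dl) := by
  have h := mem_Pv.1 x.2
  have a0 := h 0; have a1 := h 1; have a2 := h 2; have a3 := h 3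
  simp at a0 a1 a2 a3
  rw [← e0_facts.1] at hz
  rw [← e0_facts.2.1] at hu
  have e : ∀ {p q : Pv}, p = q → ∀ r s, (p : SL4).1 r s = (q : SL4).1 r s := fun h r s => by rw [h]
  have t01 := e ht 0 1; have t02 := e ht 0 2; have t13 := e ht 1 3; have t23 := e ht 2 3
  have t31 := e ht 3 1; have t32 := e ht 3 2
  have z03 := e hz 0 3; have z12 := e hz 1 2; have z11 := e hz 1 1
  have u22 := e hu 2 2; have u12 := e hu 1 2; have u03 := e hu 0 3
  simp only [pv_mul_val, e0_mat] at t01 t02 t13 t23 t31 t32 z03 z12 z11 u22 u12 u03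
  simp [tm, Matrix.diagonal, Matrix.mul_apply, Fin.sum_univ_four, a0, a1, a2, a3] at t01 t02 t13 t23 t31 t32
  have hd := (x : SL4).2
  have g01 : (x : SL4).1 0 1 = 0 := (by decide : ∀ a : ZMod 3, -a = a → a = 0) _ (by linear_combination t01)
  have g02 : (x : SL4).1 0 2 = 0 := (by decide : ∀ a : ZMod 3, -a = a → a = 0) _ (by linear_combination t02)
  have g13 : (x : SL4).1 1 3 = 0 := (by decide : ∀ a : ZMod 3, -a = a → a = 0) _ (by linear_combination -t13)
  have g23 : (x : SL4).1 2 3 = 0 := (by decide : ∀ a : ZMod 3, -a = a → a = 0) _ (by linear_combination -t23)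
  have g31 : (x : SL4).1 3 1 = 0 := (by decide : ∀ a : ZMod 3, -a = a → a = 0) _ (by linear_combination t31)
  have g32 : (x : SL4).1 3 2 = 0 := (by decide : ∀ a : ZMod 3, -a = a → a = 0) _ (by linear_combination t32)
  simp [Matrix.mul_apply, Fin.sum_univ_four, a0, a1, a2, a3, g01, g02, g13, g23, g31, g32] at z03 z12 z11 u22 u12 u03
  rw [Matrix.det_succ_column_zero] at hd
  simp [Fin.sum_univ_succ, a0, a1, a2, a3, Matrix.det_fin_three, g13, g23, g31, g32] at hd
  have g21 : (x : SL4).1 2 1 = 0 := by linear_combination u22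
  have hafd : (x : SL4).1 1 1 * (x : SL4).1 2 2 * (x : SL4).1 3 3 = 1 := by
    rw [g21] at hd; linear_combination hd
  have hcases : ∀ a f d : ZMod 3, a * f * d = 1 →
      (a = 1 ∧ f = 1 ∧ d = 1) ∨ (a = -1 ∧ f = -1 ∧ d = 1) ∨ (a = -1 ∧ f = 1 ∧ d = -1) ∨
        (a = 1 ∧ f = -1 ∧ d = -1) := by decide
  have hx : (x : SL4).1 = !![1, 0, 0, (x : SL4).1 0 3; 0, (x : SL4).1 1 1, (x : SL4).1 1 2, 0;
      0, 0, (x : SL4).1 2 2, 0; 0, 0, 0, (x : SL4).1 3 3] := by
    ext r s; fin_cases r <;> fin_cases s <;>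
      simp [a0, a1, a2, a3, g01, g02, g13, g23, g31, g32, g21]
  have htab : ∀ c b : ZMod 3,
      (!![1, 0, 0, c; 0, 1, b, 0; 0, 0, 1, 0; 0, 0, 0, 1] : M4) = (e0 c b : SL4).1 ∧
      (!![1, 0, 0, c; 0, -1, b, 0; 0, 0, -1, 0; 0, 0, 0, 1] : M4) = ((e0 c (-b) * tm : Pv) : SL4).1 ∧
      (!![1, 0, 0, c; 0, -1, b, 0; 0, 0, 1, 0; 0, 0, 0, -1] : M4) = ((e0 (-c) b * dl : Pv) : SL4).1 ∧
      (!![1, 0, 0, c; 0, 1, b, 0; 0, 0, -1, 0; 0, 0, 0, -1] : M4) =
        ((e0 (-c) (-b) * (tm * dl) : Pv) : SL4).1 := by decide +kernel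
  obtain ⟨q1, q2, q3, q4⟩ := htab ((x : SL4).1 0 3) ((x : SL4).1 1 2)
  rcases hcases _ _ _ hafd with ⟨h1, h2, h3⟩ | ⟨h1, h2, h3⟩ | ⟨h1, h2, h3⟩ | ⟨h1, h2, h3⟩ <;>
    rw [h1, h2, h3] at hx
  · exact ⟨_, _, Or.inl (pv_ext (hx.trans q1))⟩
  · exact ⟨_, _, Or.inr (Or.inl (pv_ext (hx.trans q2)))⟩
  · exact ⟨_, _, Or.inr (Or.inr (Or.inl (pv_ext (hx.trans q3))))⟩
  · exact ⟨_, _, Or.inr (Or.inr (Or.inr (pv_ext (hx.trans q4))))⟩

theorem conj_facts :
    (∀ i j : ZMod 3, i ≠ 0 → j ≠ 0 → ∃ q : Pv, ∃ c : ZMod 3, c ≠ 0 ∧ q * e0 i j = wm c * q) ∧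
    (∀ j : ZMod 3, j ≠ 0 → ∃ q : Pv, q * e0 0 j = fm * q) := by
  constructor
  · intro i j hi hj
    refine ⟨⟨⟨!![1, 0, 0, 0; 0, 1, 0, 0; 0, 0, 0, i; 0, 0, -i, 0], ?_⟩, ?_⟩, -(i * j), ?_, ?_⟩
    · revert hi; revert i; decide +kernel
    · exact mem_Pv.2 fun r => by fin_cases r <;> rfl
    · exact neg_ne_zero.2 (mul_ne_zero hi hj)
    · refine pv_ext ?_
      revert hi hj; revert i j; decide +kernel
  · intro j hj
    refine ⟨⟨⟨!![1, 0, 0, 0; 0, j, 0, 0; 0, 0, 0, -j; 0, 0, 1, 0], ?_⟩, ?_⟩, ?_⟩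
    · revert hj; revert j; decide +kernel
    · exact mem_Pv.2 fun r => by fin_cases r <;> rfl
    · refine pv_ext ?_
      revert hj; revert j; decide +kernel

end CTA

open CTA

namespace Emb

variable {G : Type u} [Group G] [Finite G] (E : Emb G)

/-- **Piece C, first case**: the centraliser of the involution lies in the parabolic. -/
theorem cent_tm (hz : ∀ g, g * E.z * g⁻¹ ∈ E.ψ.range → g ∈ E.ψ.range)
    (hw : ∀ c : ZMod 3, c ≠ 0 → centralizer ({E.ψ (wm c)} : Set G) ≤ E.ψ.range)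
    (hf : centralizer ({E.ψ fm} : Set G) ≤ E.ψ.range) :
    centralizer ({E.ψ tm} : Set G) ≤ E.ψ.range := by
  classical
  haveI : Fact (Nat.Prime 3) := ⟨Nat.prime_three⟩
  obtain ⟨hze, hue, h00, ht2, -, hact, hdt⟩ := e0_facts
  set H := centralizer ({E.ψ tm} : Set G) with hH
  have hmemH : ∀ {x : Pv}, x * tm = tm * x → E.ψ x ∈ H := fun {x} hx =>
    mem_centralizer_singleton_iff.2 (by rw [← map_mul, ← map_mul, hx])
  have het : ∀ i j, e0 i j * tm = tm * e0 i j := fun i j => by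
    conv_lhs => rw [← (hact i j).1]
    rw [mul_assoc, ht2, mul_one]
  let η : Multiplicative (ZMod 3 × ZMod 3) →* H :=
    MonoidHom.mk' (fun v => ⟨E.ψ (e0 v.toAdd.1 v.toAdd.2), hmemH (het _ _)⟩) fun v w => Subtype.ext (by
      show E.ψ (e0 (v.toAdd + w.toAdd).1 (v.toAdd + w.toAdd).2) = E.ψ _ * E.ψ _
      rw [← map_mul, e0_mul, Prod.fst_add, Prod.snd_add])
  have hη : Function.Injective η := fun v w h => by
    have h' : e0 v.toAdd.1 v.toAdd.2 = e0 w.toAdd.1 w.toAdd.2 := E.inj (congrArg Subtype.val h)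
    obtain ⟨-, -, h1, h2, -, -⟩ := up_inj h'
    exact Multiplicative.toAdd.injective (Prod.ext h1 h2)
  let T : Subgroup H := η.range
  have hTmem : ∀ {g : H}, g ∈ T ↔ ∃ i j, (g : G) = E.ψ (e0 i j) := fun {g} =>
    ⟨fun ⟨v, hv⟩ => ⟨_, _, (congrArg Subtype.val hv).symm⟩,
      fun ⟨i, j, h⟩ => ⟨Multiplicative.ofAdd (i, j), Subtype.ext h.symm⟩⟩
  have hT9 : Nat.card T = 9 := by
    rw [show T = η.range from rfl, ← Nat.card_congr (MonoidHom.ofInjective hη).toEquiv,
      Nat.card_congr Multiplicative.toAdd]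
    simp
  set dH : H := ⟨E.ψ dl, hmemH hdt⟩ with hdH
  set tH : H := ⟨E.ψ tm, hmemH rfl⟩ with htH
  have ht0 : e0 0 0 = 1 := h00
  -- elements normalising `T`
  have hnorm : ∀ g : H, g ∈ normalizer (T : Set H) →
      g ∈ T ∨ g * tH ∈ T ∨ g * dH ∈ T ∨ g * (dH * tH) ∈ T := by
    intro g hg
    have hzT : η (Multiplicative.ofAdd (1, 0)) ∈ T := ⟨_, rfl⟩
    obtain ⟨i, j, hij⟩ := hTmem.1 ((mem_normalizer_iff.1 hg _).1 hzT)
    have hij' : (g : G) * E.ψ zm * (g : G)⁻¹ = E.ψ (e0 i j) := by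
      rw [← hze]; exact hij
    obtain ⟨x, hx⟩ := hz g ⟨_, hij'.symm⟩
    obtain ⟨k, l, hkl⟩ := hTmem.1 ((mem_normalizer_iff.1 hg _).1
      (⟨Multiplicative.ofAdd (0, 1), rfl⟩ : η (Multiplicative.ofAdd (0, 1)) ∈ T))
    have hkl' : (g : G) * E.ψ um * (g : G)⁻¹ = E.ψ (e0 k l) := by
      rw [← hue]; exact hkl
    rw [← hx, mul_inv_eq_iff_eq_mul, ← map_mul, ← map_mul] at hij' hkl'
    have hxt : x * tm = tm * x := E.inj (by
      rw [map_mul, map_mul, hx]; exact mem_centralizer_singleton_iff.1 g.2)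
    obtain ⟨c, b, h | h | h | h⟩ := norm_cases hxt (E.inj hij') (E.inj hkl')
    · exact Or.inl (hTmem.2 ⟨c, b, by rw [← hx, h]⟩)
    · exact Or.inr (Or.inl (hTmem.2 ⟨c, b, by
        show (g : G) * E.ψ tm = _
        rw [← hx, h, ← map_mul, mul_assoc, ht2, mul_one]⟩))
    · exact Or.inr (Or.inr (Or.inl (hTmem.2 ⟨c, b, by
        show (g : G) * E.ψ dl = _
        rw [← hx, h, ← map_mul, mul_assoc, dl_sq, mul_one]⟩)))
    · refine Or.inr (Or.inr (Or.inr (hTmem.2 ⟨c, b, ?_⟩)))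
      show (g : G) * (E.ψ dl * E.ψ tm) = _
      rw [← hx, h, ← map_mul, ← map_mul, mul_assoc, show tm * dl * (dl * tm) = tm * (dl * dl) * tm by group,
        dl_sq, mul_one, ht2, mul_one]
  have hconjd : ∀ g ∈ T, dH * g * dH = g⁻¹ := by
    intro g hg
    obtain ⟨i, j, hij⟩ := hTmem.1 hg
    refine Subtype.ext ?_
    show E.ψ dl * (g : G) * E.ψ dl = (g : G)⁻¹
    rw [hij, ← map_mul, ← map_mul, (hact i j).2, ← map_inv]
    refine congrArg E.ψ (eq_inv_of_mul_eq_one_left ?_)
    rw [e0_mul, neg_add_cancel, neg_add_cancel, h00]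
  have hconjt : ∀ g ∈ T, tH * g * tH = g := by
    intro g hg
    obtain ⟨i, j, hij⟩ := hTmem.1 hg
    refine Subtype.ext ?_
    show E.ψ tm * (g : G) * E.ψ tm = (g : G)
    rw [hij, ← map_mul, ← map_mul, (hact i j).1]
  have hd2 : dH * dH = 1 := Subtype.ext (by
    show E.ψ dl * E.ψ dl = 1
    rw [← map_mul, dl_sq, map_one])
  have htt : tH * tH = 1 := Subtype.ext (by
    show E.ψ tm * E.ψ tm = 1
    rw [← map_mul, ht2, map_one])
  have hdi : dH⁻¹ = dH := inv_eq_of_mul_eq_one_right hd2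
  have hti : tH⁻¹ = tH := inv_eq_of_mul_eq_one_right htt
  have hdtc : dH * tH = tH * dH := Subtype.ext (by
    show E.ψ dl * E.ψ tm = E.ψ tm * E.ψ dl
    rw [← map_mul, ← map_mul, hdt])
  -- `T` is a Sylow subgroup
  have hT3 : IsPGroup 3 T := IsPGroup.of_card (n := 2) (by rw [hT9]; norm_num)
  obtain ⟨P, hP⟩ := hT3.exists_le_sylow
  have hPT : (P : Subgroup H) = T := by
    by_contra hne
    haveI := P.2.isNilpotent
    have hlt : T.subgroupOf (P : Subgroup H) < ⊤ := by
      rw [lt_top_iff_ne_top, Ne, subgroupOf_eq_top]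
      exact fun h => hne (le_antisymm h hP)
    obtain ⟨⟨n, hnP⟩, hnN, hnT⟩ := SetLike.exists_of_lt
      (Group.normalizerCondition_of_isNilpotent _ hlt)
    have hn : n ∈ normalizer (T : Set H) := by
      refine mem_normalizer_iff.2 fun w => ?_
      constructor
      · intro hw
        exact (mem_normalizer_iff.1 hnN ⟨w, hP hw⟩).1 hw
      · intro hw
        have hwP : w ∈ (P : Subgroup H) := by
          have := mul_mem (mul_mem (inv_mem hnP) (hP hw)) hnP
          simpa [mul_assoc] using this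
        exact (mem_normalizer_iff.1 hnN ⟨w, hwP⟩).2 hw
    have hsq : ∀ h : H, h * h = 1 → (∀ w ∈ T, h * w * h ∈ T) → n * h ∈ T → n * n ∈ T := by
      intro h hh hc hw
      have h1 : n * n = n * h * (h * (n * h) * h) * 1 := by
        calc n * n = n * (h * h) * n * (h * h) := by rw [hh, mul_one, mul_one]
          _ = n * h * (h * (n * h) * h) * 1 := by group
      rw [h1, mul_one]
      exact mul_mem hw (hc _ hw)
    have hn2 : n * n ∈ T := by
      rcases hnorm n hn with h | h | h | h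
      · exact mul_mem h h
      · exact hsq tH htt (fun w hw => by rw [hconjt w hw]; exact hw) h
      · exact hsq dH hd2 (fun w hw => by rw [hconjd w hw]; exact inv_mem hw) h
      · refine hsq (dH * tH) (by rw [Commute.mul_mul_mul_comm (show Commute tH dH from hdtc.symm), hd2, htt, one_mul]) (fun w hw => ?_) h
        have e : dH * tH * w * (dH * tH) = dH * (tH * w * tH) * dH := by
          conv_lhs => arg 2; rw [hdtc]
          group
        rw [e, hconjt w hw, hconjd w hw]; exact inv_mem hw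
    obtain ⟨k, hk⟩ := P.2 ⟨n, hnP⟩
    have hk' : n ^ 3 ^ k = 1 := congrArg Subtype.val hk
    refine hnT (show n ∈ T from ?_)
    obtain ⟨m, hm⟩ := (Nat.Prime.odd_of_ne_two Nat.prime_three (by norm_num)).pow (n := k)
    rw [hm, pow_succ, pow_mul, pow_two] at hk'
    rw [eq_inv_of_mul_eq_one_right hk']
    exact inv_mem (pow_mem hn2 m)
  -- the hypotheses of Smith and Tyrer
  haveI hab : IsMulCommutative (P : Subgroup H) := by
    rw [hPT]
    refine ⟨⟨fun ⟨a, ha⟩ ⟨b, hb⟩ => Subtype.ext ?_⟩⟩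
    obtain ⟨v, rfl⟩ := ha
    obtain ⟨w, rfl⟩ := hb
    show η v * η w = η w * η v
    rw [← map_mul, mul_comm, map_mul]
  have hP3 : ∀ g ∈ (P : Subgroup H), g ^ 3 = 1 := by
    intro g hg
    rw [hPT] at hg
    obtain ⟨v, rfl⟩ := hg
    rw [← map_pow, mult_cube v, map_one]
  have hnc : ¬ IsCyclic (P : Subgroup H) := by
    intro hcyc
    obtain ⟨g, hg⟩ := hcyc.exists_generator
    have h1 : Nat.card (P : Subgroup H) = orderOf g := (orderOf_eq_card_of_forall_mem_zpowers hg).symm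
    have h2 : orderOf g ∣ 3 := orderOf_dvd_of_pow_eq_one (Subtype.ext (hP3 _ g.2))
    rw [← h1, hPT, hT9] at h2
    norm_num at h2
  have hcd : dH ∉ centralizer ((P : Subgroup H) : Set H) := by
    intro h
    have hm : η (Multiplicative.ofAdd (1, 0)) ∈ T := ⟨_, rfl⟩
    have h1 := mem_centralizer_iff.1 h _ (by rw [hPT]; exact hm)
    have h2 := hconjd _ hm
    rw [← h1, mul_assoc, hd2, mul_one] at h2
    have h3 := hP3 _ (hPT ▸ hm)
    rw [pow_succ, pow_two] at h3
    nth_rewrite 2 [h2] at h3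
    rw [mul_inv_cancel, one_mul] at h3
    have h4 := congrArg Subtype.val h3
    have h5 : e0 1 0 = e0 0 0 := E.inj (by
      rw [h00, map_one]; exact h4)
    exact one_ne_zero (up_inj h5).2.2.1
  have hdN : dH ∈ normalizer ((P : Subgroup H) : Set H) := by
    rw [hPT]
    refine mem_normalizer_iff.2 fun w => ?_
    rw [hdi]
    refine ⟨fun hw => by rw [hconjd w hw]; exact inv_mem hw, fun hw => ?_⟩
    have := hconjd _ hw
    have e : dH * (dH * w * dH) * dH = w := by
      calc dH * (dH * w * dH) * dH = dH * dH * w * (dH * dH) := by group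
        _ = w := by rw [hd2, one_mul, mul_one]
    rw [e] at this
    rw [this]; exact inv_mem hw
  have hidx : (centralizer ((P : Subgroup H) : Set H)).relIndex
      (normalizer ((P : Subgroup H) : Set H)) = 2 := by
    show ((centralizer ((P : Subgroup H) : Set H)).subgroupOf _).index = 2
    rw [index_eq_two_iff]
    refine ⟨⟨dH, hdN⟩, fun q => ?_⟩
    rw [mem_subgroupOf, mem_subgroupOf, Subgroup.coe_mul]
    have hTC : T ≤ centralizer ((P : Subgroup H) : Set H) := by
      rw [← hPT]; exact le_centralizer_iff_isMulCommutative.2 hab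
    have htC : tH ∈ centralizer ((P : Subgroup H) : Set H) := by
      refine mem_centralizer_iff.2 fun w hw => ?_
      have h1 := hconjt w (hPT ▸ hw)
      calc w * tH = tH * w * tH * tH := by rw [h1]
        _ = tH * w := by rw [mul_assoc _ tH, htt, mul_one]
    rcases hnorm q (hPT ▸ q.2) with h | h | h | h
    · refine Or.inr ⟨hTC h, fun h3 => hcd ?_⟩
      simpa using mul_mem (inv_mem (hTC h)) h3
    · have h2 : (q : H) ∈ centralizer ((P : Subgroup H) : Set H) := by
        simpa [mul_assoc, htt] using mul_mem (hTC h) htC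
      refine Or.inr ⟨h2, fun h3 => hcd ?_⟩
      simpa using mul_mem (inv_mem h2) h3
    · refine Or.inl ⟨hTC h, fun h3 => hcd ?_⟩
      simpa using mul_mem (inv_mem h3) (hTC h)
    · have h2 : (q : H) * dH ∈ centralizer ((P : Subgroup H) : Set H) := by
        simpa [mul_assoc, htt] using mul_mem (hTC h) htC
      refine Or.inl ⟨h2, fun h3 => hcd ?_⟩
      simpa using mul_mem (inv_mem h3) h2
  have hres : ¬ Cfsg.pResidual 3 H ≠ ⊤ := fun hne => hne (Fus.residual_top P fun p hp => by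
    have hd : ∀ y : H, y * y = 1 → y ∈ Cfsg.pResidual 3 H := fun y hy => by
      refine subset_closure ?_
      show (orderOf y).Coprime 3
      exact Nat.Coprime.coprime_dvd_left (orderOf_dvd_of_pow_eq_one (n := 2) (by rw [pow_two, hy]))
        (by norm_num)
    have hpd : p * dH * p⁻¹ ∈ Cfsg.pResidual 3 H := hd _ (by
      calc p * dH * p⁻¹ * (p * dH * p⁻¹) = p * (dH * dH) * p⁻¹ := by group
        _ = 1 := by rw [hd2, mul_one, mul_inv_cancel])
    have e : p * dH * p⁻¹ * dH = p * p := by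
      rw [mul_assoc (p * dH), mul_assoc p, ← mul_assoc dH,
        hconjd _ (inv_mem (hPT ▸ hp : p ∈ T)), inv_inv]
    have h2 : (p * p)⁻¹ = p := by
      refine inv_eq_of_mul_eq_one_right ?_
      have := hP3 p hp
      rwa [pow_succ, pow_two] at this
    rw [← h2, ← e]
    exact inv_mem (mul_mem hpd (hd _ hd2)))
  haveI := Fintype.ofFinite H
  have hlen : Cfsg.PLengthLE 3 1 H :=
    (CfsgLib.SmithTyrer.residual_or_pLength (by norm_num) hab hnc hidx).resolve_left hres
  -- the series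
  let K := FGSA.PLen.U 3 H 1
  let M := FGSA.PLen.U 3 H 2
  haveI : K.Normal := (Cfsg.upperPSeries 3 H 1).2
  haveI : M.Normal := (Cfsg.upperPSeries 3 H 2).2
  have hK : (Nat.card K).Coprime 3 := FGSA.PLen.card_U_one_coprime
  have hKM : K ≤ M := FGSA.PLen.U_le_succ 1
  have hM : M.index.Coprime 3 := by
    have := FGSA.PLen.good_factor (G := H) (p := 3) 2
    rw [show FGSA.PLen.U 3 H (2 + 1) = ⊤ from hlen, relIndex_top_right] at this
    exact this
  have hTM : T ≤ M := fun g hg => by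
    rw [← QuotientGroup.eq_one_iff (N := M), ← orderOf_eq_one_iff]
    refine Nat.eq_one_of_dvd_coprimes hM ?_ (orderOf_dvd_of_pow_eq_one (n := 3) ?_)
    · rw [Subgroup.index]; exact orderOf_dvd_natCard _
    · rw [← QuotientGroup.mk_pow, hP3 g (hPT ▸ hg)]; rfl
  have hMKT : M = K ⊔ T := by
    obtain ⟨m, hm⟩ : ∃ m, K.relIndex M = 3 ^ m := by
      have := FGSA.PLen.good_factor (G := H) (p := 3) 1
      exact this
    have hcM : Nat.card M = Nat.card K * 3 ^ m := by
      rw [← hm, ← (K.subgroupOf M).card_mul_index, Nat.card_congr (subgroupOfEquivOfLe hKM).toEquiv]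
      rfl
    have hm2 : 3 ^ m ≤ 9 := by
      have hd : 3 ^ m ∣ Nat.card H := (Dvd.intro_left _ hcM.symm).trans (card_subgroup_dvd_card M)
      have hc := P.card_eq_multiplicity
      rw [hPT, hT9] at hc
      rw [hc]
      exact Nat.pow_le_pow_right (by norm_num)
        ((Nat.Prime.pow_dvd_iff_le_factorization Nat.prime_three Nat.card_pos.ne').1 hd)
    refine (eq_of_le_of_card_ge (sup_le hKM hTM) ?_).symm
    have h1 : Nat.card K * 9 ∣ Nat.card (K ⊔ T : Subgroup H) := by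
      refine Nat.Coprime.mul_dvd_of_dvd_of_dvd ?_ (card_dvd_of_le le_sup_left)
        (hT9 ▸ card_dvd_of_le le_sup_right)
      exact Nat.Coprime.pow_right 2 hK
    rw [hcM]
    exact (Nat.mul_le_mul_left _ hm2).trans (Nat.le_of_dvd Nat.card_pos h1)
  -- everything is inside the parabolic
  let R : Subgroup H := E.ψ.range.subgroupOf H
  have hTR : T ≤ R := fun g hg => by
    obtain ⟨i, j, hij⟩ := hTmem.1 hg
    exact ⟨_, hij.symm⟩
  have hKR : K ≤ R := by
    haveI : IsMulCommutative T := hPT ▸ hab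
    have hgen := CfsgLib.CoprimeAct.generated_by_centralizers (A := T) (K := K) (hPT ▸ hnc)
      (fun g _ => (normalizer_eq_top K).ge (mem_top g)) (by rw [hT9]; exact Nat.Coprime.pow_left 2 hK.symm)
    rw [← hgen]
    refine iSup₂_le fun a ha => ?_
    obtain ⟨haT, hane⟩ := ha
    intro g hg
    obtain ⟨i, j, hij⟩ := hTmem.1 haT
    have hga : (g : G) ∈ centralizer ({E.ψ (e0 i j)} : Set G) := by
      refine mem_centralizer_singleton_iff.2 ?_
      rw [← hij]
      exact congrArg Subtype.val (mem_centralizer_singleton_iff.1 hg.2)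
    have hcj : ∀ (q : Pv) (w : Pv), q * e0 i j = w * q →
        centralizer ({E.ψ w} : Set G) ≤ E.ψ.range → (g : G) ∈ E.ψ.range := by
      intro q w hq hle
      have h1 : E.ψ q * (g : G) * (E.ψ q)⁻¹ ∈ centralizer ({E.ψ w} : Set G) := by
        refine mem_centralizer_singleton_iff.2 ?_
        have e : E.ψ w = E.ψ q * E.ψ (e0 i j) * (E.ψ q)⁻¹ := by
          rw [← map_mul, hq, map_mul, mul_inv_cancel_right]
        rw [e]
        calc E.ψ q * (g : G) * (E.ψ q)⁻¹ * (E.ψ q * E.ψ (e0 i j) * (E.ψ q)⁻¹) =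
              E.ψ q * ((g : G) * E.ψ (e0 i j)) * (E.ψ q)⁻¹ := by group
          _ = E.ψ q * (E.ψ (e0 i j) * (g : G)) * (E.ψ q)⁻¹ := by
            rw [mem_centralizer_singleton_iff.1 hga]
          _ = _ := by group
      obtain ⟨r, hr⟩ := hle h1
      exact ⟨q⁻¹ * r * q, by rw [map_mul, map_mul, map_inv, hr]; group⟩
    show (g : G) ∈ E.ψ.range
    by_cases hj : j = 0
    · subst hj
      have hi : i ≠ 0 := by
        rintro rfl
        exact hane (Subtype.ext (by rw [hij, h00, map_one]; rfl))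
      refine E.cent ?_
      refine mem_centralizer_singleton_iff.2 ?_
      have hi' : i = 1 ∨ i = -1 := unit_cases i hi
      have hc := mem_centralizer_singleton_iff.1 hga
      rcases hi' with rfl | rfl
      · rwa [hze] at hc
      · have e : E.ψ zm = (E.ψ (e0 (-1) 0))⁻¹ := by
          rw [← map_inv, ← hze]
          refine congrArg E.ψ (eq_inv_of_mul_eq_one_left ?_)
          rw [e0_mul, add_neg_cancel, zero_add, h00]
        rw [e]
        exact (Commute.inv_right hc).eq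
    by_cases hi : i = 0
    · subst hi
      obtain ⟨q, hq⟩ := conj_facts.2 j hj
      exact hcj q fm hq hf
    · obtain ⟨q, c, hc, hq⟩ := conj_facts.1 i j hi hj
      exact hcj q (wm c) hq (hw c hc)
  intro g hg
  have hNR : normalizer (T : Set H) ≤ R := by
    intro n hn
    obtain ⟨i, j, hij⟩ := hTmem.1 ((mem_normalizer_iff.1 hn _).1
      (⟨Multiplicative.ofAdd (1, 0), rfl⟩ : η (Multiplicative.ofAdd (1, 0)) ∈ T))
    refine hz n ⟨e0 i j, ?_⟩
    show _ = (n : G) * E.ψ zm * (n : G)⁻¹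
    rw [← hze]; exact hij.symm
  have htop : normalizer (T : Set H) ⊔ M = ⊤ := by
    have hPM : IsPGroup 3 (T.subgroupOf M) := hT3.comap_of_injective M.subtype M.subtype_injective
    obtain ⟨S, hS⟩ := hPM.exists_le_sylow
    have hS' : (S : Subgroup M).map M.subtype = T := by
      have h1 : T ≤ (S : Subgroup M).map M.subtype := fun w hw => ⟨⟨w, hTM hw⟩, hS hw, rfl⟩
      have h2 := P.3 (S.2.map M.subtype) (hPT ▸ h1)
      rw [h2, hPT]
    have := Sylow.normalizer_sup_eq_top S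
    rwa [hS'] at this
  have hR : (⊤ : Subgroup H) ≤ R := by
    rw [← htop, hMKT]
    exact sup_le hNR (sup_le hKR hTR)
  exact (hR (mem_top (⟨g, hg⟩ : H)) : _)

end Emb

end CfsgLib.L43
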