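import Cfsg.Agent.SmithTyrer.Main
import Cfsg.Agent.Solvable.CoprimeAbelian
import Cfsg.Agent.Solvable.Basics
import Cfsg.Prelude.Def_Transfer

/-!
# A subgroup containing the centralisers of an elementary group of order nine
-/

set_option autoImplicit false
set_option linter.style.haveILetI false
set_option linter.unusedSectionVars false

namespace CfsgLib.L43.CT

open Subgroup

variable {G : Type*} [Group G] [Finite G]

/-- An elementary group `E` of order nine, a Sylow subgroup of `W`, whose centralisers and normaliser in `W` lie in `R`. -/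
structure Cfg (W R E : Subgroup G) : Prop where
  le : E ≤ W
  comm : ∀ a ∈ E, ∀ b ∈ E, a * b = b * a
  card : Nat.card E = 9
  exp : ∀ e ∈ E, e ^ 3 = 1
  cent : ∀ e ∈ E, e ≠ 1 → centralizer ({e} : Set G) ⊓ W ≤ R
  norm : normalizer (E : Set G) ⊓ W ≤ R
  self : ∀ n ∈ normalizer (E : Set G) ⊓ W, ∀ k : ℕ, n ^ 3 ^ k = 1 → n ∈ E

namespace Cfg

variable {W R E : Subgroup G} (h : Cfg W R E)

include h

theorem anti {W' : Subgroup G} (hW : W' ≤ W) (hE : E ≤ W') : Cfg W' R E :=
  { le := hE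
    comm := h.comm
    card := h.card
    exp := h.exp
    cent := fun e he he1 => (inf_le_inf_left _ hW).trans (h.cent e he he1)
    norm := (inf_le_inf_left _ hW).trans h.norm
    self := fun n hn => h.self n ⟨hn.1, hW hn.2⟩ }

theorem le_R : E ≤ R := fun _ he => h.norm ⟨le_normalizer he, h.le he⟩

theorem isPGroup : IsPGroup 3 E := IsPGroup.of_card (n := 2) (by rw [h.card]; norm_num)

theorem not_cyclic : ¬ IsCyclic E := fun hc => by
  obtain ⟨g, hg⟩ := hc.exists_generator
  have h9 : orderOf g = 9 := (orderOf_eq_card_of_forall_mem_zpowers hg).trans h.card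
  have h3 : orderOf g ∣ 3 := orderOf_dvd_of_pow_eq_one (Subtype.ext (h.exp g g.2))
  rw [h9] at h3
  norm_num at h3

/-- `E` is a maximal three-subgroup of `W`. -/
theorem max {P : Subgroup G} (hP : IsPGroup 3 P) (hEP : E ≤ P) (hPW : P ≤ W) : P = E := by
  haveI : Fact (Nat.Prime 3) := ⟨Nat.prime_three⟩
  haveI := hP.isNilpotent
  by_contra hne
  have hlt : E.subgroupOf P < ⊤ := lt_top_iff_ne_top.2 fun e =>
    hne (le_antisymm (subgroupOf_eq_top.1 e) hEP)
  obtain ⟨x, hx, hxE⟩ := Set.exists_of_ssubset (SetLike.coe_ssubset_coe.2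
    (Group.normalizerCondition_of_isNilpotent (E.subgroupOf P) hlt))
  obtain ⟨k, hk⟩ := hP x
  refine hxE (mem_subgroupOf.2 (h.self x ⟨?_, hPW x.2⟩ k ?_))
  · show (x : G) ∈ normalizer (E : Set G)
    rw [mem_normalizer_iff]
    intro y
    refine ⟨fun hy => ?_, fun hy => ?_⟩
    · exact mem_subgroupOf.1 ((mem_normalizer_iff.1 hx ⟨y, hEP hy⟩).1 (mem_subgroupOf.2 hy))
    · have hyP : y ∈ P := by
        have := mul_mem (mul_mem (inv_mem x.2) (hEP hy)) x.2
        simpa [mul_assoc] using this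
      exact mem_subgroupOf.1 ((mem_normalizer_iff.1 hx ⟨y, hyP⟩).2 (mem_subgroupOf.2 hy))
  · simpa using congrArg Subtype.val hk

/-- A three-element of `W` lies in a conjugate of `E` inside `W`. -/
theorem exists_sylow : ∃ S : Sylow 3 W, (S : Subgroup W) = E.subgroupOf W := by
  obtain ⟨S, hS⟩ := (h.isPGroup.comap_of_injective W.subtype W.subtype_injective).exists_le_sylow
  refine ⟨S, le_antisymm (fun x hx => ?_) hS⟩
  have e := h.max (P := (S : Subgroup W).map W.subtype) (S.2.map _)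
    (fun y hy => ⟨⟨y, h.le hy⟩, hS (mem_subgroupOf.2 hy), rfl⟩) (map_subtype_le _)
  exact mem_subgroupOf.2 (e ▸ mem_map_of_mem W.subtype hx)

/-- A subgroup of `W` normalised by `E` and meeting it trivially lies in `R`. -/
theorem coprime {K : Subgroup G} (hKW : K ≤ W) (hn : E ≤ normalizer (K : Set G))
    (hEK : E ⊓ K = ⊥) : K ≤ R := by
  haveI : Fact (Nat.Prime 3) := ⟨Nat.prime_three⟩
  haveI : IsMulCommutative E := ⟨⟨fun a b => Subtype.ext (h.comm a a.2 b b.2)⟩⟩
  let X := E ⊔ K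
  have hXW : X ≤ W := sup_le h.le hKW
  obtain ⟨S, hS⟩ := (h.anti hXW le_sup_left).exists_sylow
  haveI : (K.subgroupOf X).Normal := normal_subgroupOf_of_le_normalizer (sup_le hn le_normalizer)
  obtain ⟨Q⟩ : Nonempty (Sylow 3 (K.subgroupOf X)) := inferInstance
  have hcop : (Nat.card E).Coprime (Nat.card K) := by
    rw [h.card, show (9 : ℕ) = 3 ^ 2 by norm_num]
    refine Nat.Coprime.pow_left 2 ((Nat.prime_three.coprime_iff_not_dvd).2 fun hd => ?_)
    rw [← Nat.card_congr (subgroupOfEquivOfLe (le_sup_right : K ≤ X)).toEquiv] at hd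
    obtain ⟨y, hy⟩ := exists_prime_orderOf_dvd_card' 3 hd
    obtain ⟨S', hS'⟩ := ((IsPGroup.of_card (n := 1) (by rw [pow_one, Nat.card_zpowers]; simpa using hy)) :
      IsPGroup 3 (zpowers (y : X))).exists_le_sylow
    obtain ⟨g, hg⟩ := MulAction.exists_smul_eq X S' S
    have hin : g * (y : X) * g⁻¹ ∈ (S : Subgroup X) := by
      rw [← hg]
      exact Subgroup.smul_mem_pointwise_smul (y : X) (MulAut.conj g) _ (hS' (mem_zpowers _))
    rw [hS] at hin
    have hK : g * (y : X) * g⁻¹ ∈ K.subgroupOf X := Subgroup.Normal.conj_mem inferInstance _ y.2 g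
    have h1 : ((g * (y : X) * g⁻¹ : X) : G) ∈ E ⊓ K := ⟨mem_subgroupOf.1 hin, mem_subgroupOf.1 hK⟩
    rw [hEK, Subgroup.mem_bot, OneMemClass.coe_eq_one, conj_eq_one_iff, OneMemClass.coe_eq_one] at h1
    rw [h1, orderOf_one] at hy
    norm_num at hy
  rw [← CfsgLib.CoprimeAct.generated_by_centralizers h.not_cyclic hn hcop]
  refine iSup₂_le fun e he => ?_
  exact fun x hx => h.cent e he.1 he.2 ⟨hx.2, hKW hx.1⟩

/-- If the normaliser acts on `E` by signs, `W` lies in `R`. -/
theorem le_of_inv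
    (hpm : ∀ n ∈ normalizer (E : Set G) ⊓ W, (∀ e ∈ E, n * e * n⁻¹ = e) ∨ ∀ e ∈ E, n * e * n⁻¹ = e⁻¹)
    {d : G} (hd : d ∈ normalizer (E : Set G) ⊓ W) (hd3 : (orderOf d).Coprime 3)
    (hinv : ∀ e ∈ E, d * e * d⁻¹ = e⁻¹) : W ≤ R := by
  haveI : Fact (Nat.Prime 3) := ⟨Nat.prime_three⟩
  haveI := Fintype.ofFinite W
  obtain ⟨S, hS⟩ := h.exists_sylow
  have memS : ∀ {x : W}, x ∈ (S : Subgroup W) ↔ (x : G) ∈ E := fun {x} => by rw [hS, mem_subgroupOf]
  have hab : IsMulCommutative (S : Subgroup W) :=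
    ⟨⟨fun a b => Subtype.ext (Subtype.ext (h.comm _ (memS.1 a.2) _ (memS.1 b.2)))⟩⟩
  have hnc : ¬ IsCyclic (S : Subgroup W) := fun hc => h.not_cyclic (by
    rw [hS] at hc
    haveI := hc
    exact (subgroupOfEquivOfLe h.le).isCyclic.1 hc)
  have hnorm : ∀ {x : W}, x ∈ normalizer ((S : Subgroup W) : Set W) → (x : G) ∈ normalizer (E : Set G) ⊓ W := by
    intro x hx
    refine ⟨?_, x.2⟩
    show (x : G) ∈ normalizer (E : Set G)
    rw [mem_normalizer_iff]
    intro y
    refine ⟨fun hy => ?_, fun hy => ?_⟩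
    · exact memS.1 ((mem_normalizer_iff.1 hx ⟨y, h.le hy⟩).1 (memS.2 hy))
    · have hyW : y ∈ W := by
        have := mul_mem (mul_mem (inv_mem x.2) (h.le hy)) x.2
        simpa [mul_assoc] using this
      exact memS.1 ((mem_normalizer_iff.1 hx ⟨y, hyW⟩).2 (memS.2 hy))
  let dW : W := ⟨d, hd.2⟩
  have hdN : dW ∈ normalizer ((S : Subgroup W) : Set W) := by
    rw [mem_normalizer_iff]
    intro y
    rw [memS, memS]
    exact mem_normalizer_iff.1 hd.1 (y : G)
  obtain ⟨e, he, he1⟩ : ∃ e ∈ E, e ≠ 1 := by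
    by_contra hn
    push Not at hn
    have := h.card
    rw [show E = ⊥ from eq_bot_iff.2 fun x hx => hn x hx, card_bot] at this
    norm_num at this
  have hne : e⁻¹ ≠ e := fun hh => he1 (by
    have h2 : e * e = 1 := by nth_rw 1 [← hh]; exact inv_mul_cancel e
    calc e = e ^ 3 := by rw [pow_succ, pow_two, h2, one_mul]
      _ = 1 := h.exp e he)
  have hidx : (centralizer ((S : Subgroup W) : Set W)).relIndex (normalizer ((S : Subgroup W) : Set W)) = 2 := by
    show ((centralizer _).subgroupOf _).index = 2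
    rw [index_eq_two_iff]
    refine ⟨⟨dW, hdN⟩, fun x => ?_⟩
    have mc : ∀ y : normalizer ((S : Subgroup W) : Set W), y ∈ (centralizer ((S : Subgroup W) : Set W)).subgroupOf _ ↔
        ∀ f ∈ E, ((y : W) : G) * f * ((y : W) : G)⁻¹ = f := fun y => by
      rw [mem_subgroupOf, mem_centralizer_iff]
      constructor
      · intro hy f hf
        rw [mul_inv_eq_iff_eq_mul]
        exact (congrArg Subtype.val (hy ⟨f, h.le hf⟩ (memS.2 hf))).symm
      · intro hy f hf
        exact Subtype.ext (mul_inv_eq_iff_eq_mul.1 (hy f (memS.1 hf))).symm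
    have hxd : ∀ f ∈ E, (((x * ⟨dW, hdN⟩ : normalizer _) : W) : G) * f *
        (((x * ⟨dW, hdN⟩ : normalizer _) : W) : G)⁻¹ = ((x : W) : G) * f⁻¹ * ((x : W) : G)⁻¹ := fun f hf => by
      rw [← hinv f hf]
      simp [dW, mul_assoc]
    rw [mc, mc]
    rcases hpm _ (hnorm x.2) with hc | hi
    · refine Or.inr ⟨hc, fun hh => hne ?_⟩
      have h1 := hh e he
      rwa [hxd e he, hc _ (inv_mem he)] at h1
    · refine Or.inl ⟨fun f hf => by rw [hxd f hf, hi _ (inv_mem hf), inv_inv], fun hh => hne ?_⟩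
      exact (hi e he).symm.trans (hh e he)
  have hres : Cfsg.pResidual 3 W = ⊤ := by
    have conj : ∀ {x : W} (g : W), (orderOf x).Coprime 3 → g * x * g⁻¹ ∈ Cfsg.pResidual 3 W := fun {x} g hx =>
      subset_closure (show (orderOf (g * x * g⁻¹)).Coprime 3 by
        rwa [← MulAut.conj_apply, MulEquiv.orderOf_eq])
    have hdW : (orderOf dW).Coprime 3 := by rwa [← Subgroup.orderOf_coe]
    have hS3 : ∀ g : W, ∀ f ∈ (S : Subgroup W), g * f * g⁻¹ ∈ Cfsg.pResidual 3 W := by
      intro g f hf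
      have hf' : (f : G) ∈ E := memS.1 hf
      have e1 : (dW * f * dW⁻¹ * f⁻¹ : W) = f := Subtype.ext (by
        show d * (f : G) * d⁻¹ * (f : G)⁻¹ = f
        rw [hinv _ hf']
        have h3 := h.exp _ hf'
        calc (f : G)⁻¹ * (f : G)⁻¹ = (f : G)⁻¹ * (f : G)⁻¹ * (f : G) ^ 3 := by rw [h3, mul_one]
          _ = f := by group)
      rw [← e1]
      have h1 := conj g hdW
      have h2 := conj (g * f) (x := dW⁻¹) (by rwa [orderOf_inv])
      have := mul_mem h1 h2
      simpa [mul_assoc] using this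
    rw [eq_top_iff]
    intro x _
    obtain ⟨a, m, hm, hx⟩ := Nat.exists_eq_pow_mul_and_not_dvd (orderOf_pos x).ne' 3 (by norm_num)
    have h1 : x ^ 3 ^ a ∈ Cfsg.pResidual 3 W := subset_closure (show (orderOf (x ^ 3 ^ a)).Coprime 3 by
      rw [orderOf_pow, hx, Nat.gcd_mul_right_left, Nat.mul_div_cancel_left _ (by positivity)]
      exact (Nat.prime_three.coprime_iff_not_dvd.2 hm).symm)
    have h2 : x ^ m ∈ Cfsg.pResidual 3 W := by
      have hp : IsPGroup 3 (zpowers (x ^ m)) := by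
        obtain ⟨i, -, hi⟩ := (Nat.dvd_prime_pow Nat.prime_three).1
          (orderOf_dvd_of_pow_eq_one (show (x ^ m) ^ 3 ^ a = 1 by
            rw [← pow_mul, mul_comm, ← hx, pow_orderOf_eq_one]))
        exact IsPGroup.of_card (n := i) (by rw [Nat.card_zpowers, hi])
      obtain ⟨S', hS'⟩ := hp.exists_le_sylow
      obtain ⟨g, hg⟩ := MulAction.exists_smul_eq W S S'
      have hin := hS' (mem_zpowers _)
      rw [← hg] at hin
      obtain ⟨f, hf, hfe⟩ := hin
      rw [← hfe]
      exact hS3 g f hf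
    have hco : Nat.gcd (3 ^ a) m = 1 := (Nat.prime_three.coprime_iff_not_dvd.2 hm).pow_left a
    have := Nat.gcd_eq_gcd_ab (3 ^ a) m
    rw [hco, Nat.cast_one] at this
    rw [← zpow_one x, this, zpow_add, zpow_mul, zpow_mul, zpow_natCast, zpow_natCast]
    exact mul_mem (zpow_mem h1 _) (zpow_mem h2 _)
  have hlen : Cfsg.PLengthLE 3 1 W :=
    (CfsgLib.SmithTyrer.residual_or_pLength (P := S) (by norm_num) hab hnc hidx).resolve_left
      (not_not_intro hres)
  -- the core lies in R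
  set U1 := (Cfsg.upperPSeries 3 W 1).1 with hU1
  set U2 := (Cfsg.upperPSeries 3 W 2).1 with hU2
  have g0 := FGSA.PLen.good_factor (p := 3) (G := W) 0
  have g1 := FGSA.PLen.good_factor (p := 3) (G := W) 1
  have g2 := FGSA.PLen.good_factor (p := 3) (G := W) 2
  simp only [FGSA.PLen.Good, FGSA.PLen.U, Nat.even_iff, Nat.zero_mod, Nat.one_mod, Nat.mod_self, if_true,
    one_ne_zero, if_false, zero_add, show (1 : ℕ) + 1 = 2 from rfl, show (2 : ℕ) + 1 = 3 from rfl] at g0 g1 g2
  rw [show (Cfsg.upperPSeries 3 W 0).1 = ⊥ from rfl, relIndex_bot_left] at g0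
  rw [show (Cfsg.upperPSeries 3 W 3).1 = ⊤ from hlen, relIndex_top_right] at g2
  have hU12 : U1 ≤ U2 := FGSA.PLen.U_le_succ 1
  have hK : U1.map W.subtype ≤ R := by
    refine h.coprime (map_subtype_le _) ?_ ?_
    · intro f hf
      rw [mem_normalizer_iff]
      intro y
      constructor
      · rintro ⟨x, hx, rfl⟩
        exact ⟨(⟨f, h.le hf⟩ : W) * x * (⟨f, h.le hf⟩ : W)⁻¹, Subgroup.Normal.conj_mem inferInstance _ hx _, rfl⟩
      · rintro ⟨x, hx, hxe⟩
        refine ⟨(⟨f, h.le hf⟩ : W)⁻¹ * x * (⟨f, h.le hf⟩ : W), ?_, ?_⟩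
        · simpa using Subgroup.Normal.conj_mem inferInstance _ hx (⟨f, h.le hf⟩ : W)⁻¹
        · show f⁻¹ * (x : G) * f = y
          rw [show (x : G) = f * y * f⁻¹ from hxe]
          group
    · rw [eq_bot_iff]
      rintro f ⟨hf, x, hx, rfl⟩
      have hd1 : orderOf x ∣ Nat.card U1 := Subgroup.orderOf_dvd_natCard _ hx
      have hd2 : orderOf x ∣ 3 := orderOf_dvd_of_pow_eq_one (Subtype.ext (by simpa using h.exp _ hf))
      have hx1 : x = 1 := orderOf_eq_one_iff.1 (Nat.eq_one_of_dvd_coprimes g0 hd1 hd2)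
      rw [hx1, map_one]
      exact one_mem _
  -- U2 is the core times E, so lies in R
  let RW := R.subgroupOf W
  have hS2 : (S : Subgroup W) ≤ U2 := by
    intro f hf
    by_contra hfn
    have h3 : f ^ 3 = 1 := Subtype.ext (by simpa using h.exp _ (memS.1 hf))
    have hq : orderOf (f : W ⧸ U2) ∣ 3 := orderOf_dvd_of_pow_eq_one (by
      rw [← QuotientGroup.mk_pow, h3, QuotientGroup.mk_one])
    have hq2 : orderOf (f : W ⧸ U2) ∣ U2.index := orderOf_dvd_natCard _
    exact hfn ((QuotientGroup.eq_one_iff f).1 (orderOf_eq_one_iff.1 (Nat.eq_one_of_dvd_coprimes g2 hq2 hq)))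
  have hU2R : U2 ≤ RW := by
    rw [← relIndex_eq_one]
    obtain ⟨k, hk⟩ := g1
    have hd1 : RW.relIndex U2 ∣ U1.relIndex U2 := by
      rw [← inf_relIndex_right RW U2]
      exact relIndex_dvd_of_le_left _ (le_inf (fun x hx => mem_subgroupOf.2 (hK (mem_map_of_mem _ hx))) hU12)
    have hd2 : RW.relIndex U2 ∣ (S : Subgroup W).index := by
      refine dvd_trans ?_ ((relIndex_dvd_index_of_le hS2 : (S : Subgroup W).relIndex U2 ∣ _))
      rw [← inf_relIndex_right RW U2]
      exact relIndex_dvd_of_le_left _ (le_inf (fun x hx => mem_subgroupOf.2 (h.le_R (memS.1 hx))) hS2)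
    rw [show U1.relIndex U2 = 3 ^ k from hk] at hd1
    exact Nat.eq_one_of_dvd_coprimes ((Nat.prime_three.coprime_iff_not_dvd.2 S.not_dvd_index).pow_left k) hd1 hd2
  -- Frattini
  intro x hx
  obtain ⟨S2, hS2'⟩ := (IsPGroup.comap_of_injective S.2 U2.subtype U2.subtype_injective).exists_le_sylow
  have hmap : (S2 : Subgroup U2).map U2.subtype = (S : Subgroup W) :=
    S.3 (S2.2.map _) fun f hf => ⟨⟨f, hS2 hf⟩, hS2' hf, rfl⟩
  have htop := Sylow.normalizer_sup_eq_top S2
  rw [hmap] at htop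
  have hmem : (⟨x, hx⟩ : W) ∈ normalizer ((S : Subgroup W) : Set W) ⊔ U2 := htop ▸ mem_top _
  exact (sup_le (fun n hn => mem_subgroupOf.2 (h.norm (hnorm hn))) hU2R : _ ≤ RW) hmem

end Cfg

end CfsgLib.L43.CT
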