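import Cfsg.Agent.LFourThree.Affine

/-!
# Matrix facts for the finish: conjugacy in `SL(4,3)` and its maximal parabolic
-/

set_option autoImplicit false
set_option maxRecDepth 100000
set_option linter.style.haveILetI false
set_option maxHeartbeats 1000000

namespace CfsgLib.L43.Fin4

open Matrix

/-! ### Witnesses for transvections -/

/-- A row completed to a member of the parabolic. -/
def rowWit (a b c : ZMod 3) : M4 :=
  if c ≠ 0 then !![1, 0, 0, 0; 0, c, 0, 0; 0, 0, 1, 0; 0, a, b, c]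
  else if b ≠ 0 then !![1, 0, 0, 0; 0, 1, 0, 0; 0, 0, 0, -b; 0, a, b, c]
  else !![1, 0, 0, 0; 0, 0, a, 0; 0, 0, 0, 1; 0, a, b, c]

theorem rowWit_spec : ∀ a b c : ZMod 3, ¬ (a = 0 ∧ b = 0 ∧ c = 0) →
    (rowWit a b c).det = 1 ∧ (∀ i, rowWit a b c i 0 = if i = 0 then 1 else 0) ∧
      (Matrix.transvection 0 3 1 : M4) * rowWit a b c =
        rowWit a b c * !![1, a, b, c; 0, 1, 0, 0; 0, 0, 1, 0; 0, 0, 0, 1] := by
  decide +kernel

/-- A column completed to a matrix. -/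
def colWit (a b c : ZMod 3) : M4 :=
  if a ≠ 0 then !![a, 0, 0, 0; b, a, 0, 0; c, 0, 1, 0; 0, 0, 0, 1]
  else if b ≠ 0 then !![a, 1, 0, 0; b, 0, 0, 0; c, 0, -b, 0; 0, 0, 0, 1]
  else !![a, 1, 0, 0; b, 0, c, 0; c, 0, 0, 0; 0, 0, 0, 1]

theorem colWit_spec : ∀ a b c : ZMod 3, ¬ (a = 0 ∧ b = 0 ∧ c = 0) →
    (colWit a b c).det = 1 ∧
      colWit a b c * (Matrix.transvection 0 3 1 : M4) =
        !![1, 0, 0, a; 0, 1, 0, b; 0, 0, 1, c; 0, 0, 0, 1] * colWit a b c := by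
  decide +kernel

theorem eq_rowMat {g : M4} (h : InU g) :
    g = !![1, g 0 1, g 0 2, g 0 3; 0, 1, 0, 0; 0, 0, 1, 0; 0, 0, 0, 1] := by
  obtain ⟨⟨a0, a1, a2, a3, a4, a5, a6, a7, a8, a9, a10⟩, b1, b2⟩ := h
  ext i j
  fin_cases i <;> fin_cases j <;>
    simp [a0, a1, a2, a3, a4, a5, a6, a7, a8, a9, a10, b1, b2]

theorem eq_colMat {g : M4} (h : InV g) :
    g = !![1, 0, 0, g 0 3; 0, 1, 0, g 1 3; 0, 0, 1, g 2 3; 0, 0, 0, 1] := by
  obtain ⟨⟨a0, a1, a2, a3, a4, a5, a6, a7, a8, a9, a10⟩, b1, b2⟩ := h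
  ext i j
  fin_cases i <;> fin_cases j <;>
    simp [a0, a1, a2, a3, a4, a5, a6, a7, a8, a9, a10, b1, b2]

theorem exists_rowConj {x : Pv} (h : InU (x : SL4).1) (hne : x ≠ 1) :
    ∃ k : Pv, x = k * zm * k⁻¹ := by
  have hg := eq_rowMat h
  obtain ⟨hd, h0, hc⟩ := rowWit_spec ((x : SL4).1 0 1) ((x : SL4).1 0 2) ((x : SL4).1 0 3) (by
    rintro ⟨e1, e2, e3⟩
    refine hne (Subtype.ext (Subtype.ext ?_))
    rw [hg, e1, e2, e3]
    show _ = (1 : M4)
    decide +kernel)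
  rw [← hg] at hc
  let m : Pv := ⟨⟨_, hd⟩, mem_Pv.2 h0⟩
  have he : zm * m = m * x := Subtype.ext (Subtype.ext hc)
  refine ⟨m⁻¹, ?_⟩
  rw [inv_inv, mul_assoc, he, inv_mul_cancel_left]

theorem exists_colConj {x : SL4} (h : InV x.1) (hne : x ≠ 1) :
    ∃ k : SL4, x = k * (zm : SL4) * k⁻¹ := by
  have hg := eq_colMat h
  obtain ⟨hd, hc⟩ := colWit_spec (x.1 0 3) (x.1 1 3) (x.1 2 3) (by
    rintro ⟨e1, e2, e3⟩
    refine hne (Subtype.ext ?_)
    rw [hg, e1, e2, e3]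
    show _ = (1 : M4)
    decide +kernel)
  rw [← hg] at hc
  let m : SL4 := ⟨_, hd⟩
  have he : m * (zm : SL4) = x * m := Subtype.ext hc
  exact ⟨m, by rw [he, mul_inv_cancel_right]⟩

/-! ### Elements of the radical of a line stabiliser -/

/-- The Levi element moving a member of `J` to a representative. -/
def jWit (a b c d : ZMod 3) : M4 :=
  if a * d - b * c ≠ 0 then
    !![1, 0, 0, 0; 0, 1, 0, 0; 0, 0, a, b; 0, 0, (a * d - b * c) * c, (a * d - b * c) * d]
  else if d ≠ 0 then !![1, -(b * d), 0, 0; 0, 1, 0, 0; 0, 0, d, 0; 0, 0, c, d]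
  else !![1, -(a * c), 0, 0; 0, 1, 0, 0; 0, 0, 0, -c; 0, 0, c, d]

theorem jWit_spec : ∀ a b c d : ZMod 3, ¬ (c = 0 ∧ d = 0) →
    (jWit a b c d).det = 1 ∧ (∀ i, jWit a b c d i 0 = if i = 0 then 1 else 0) ∧
      jWit a b c d * !![1, 0, a, b; 0, 1, c, d; 0, 0, 1, 0; 0, 0, 0, 1] =
        (if a * d - b * c = 0 then Matrix.transvection 1 3 1
          else Matrix.transvection 0 2 1 * Matrix.transvection 1 3 (a * d - b * c) : M4) *
          jWit a b c d := by
  decide +kernel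

theorem exists_jConj {x : Pv} (h : InJ (x : SL4).1) :
    InU (x : SL4).1 ∨ (∃ k : Pv, x = k * fm * k⁻¹) ∨
      ∃ c, c ≠ 0 ∧ ∃ k : Pv, x = k * wm c * k⁻¹ := by
  obtain ⟨a0, a1, a2, a3, a4, a5, a6, a7, a8, a9, a10, a11⟩ := h
  by_cases hcd : (x : SL4).1 1 2 = 0 ∧ (x : SL4).1 1 3 = 0
  · exact Or.inl ⟨⟨a0, a1, a2, a3, a4, a5, a6, a7, a8, a9, hcd.1⟩, hcd.2, a11⟩
  right
  have hg : (x : SL4).1 = !![1, 0, (x : SL4).1 0 2, (x : SL4).1 0 3; 0, 1, (x : SL4).1 1 2,
      (x : SL4).1 1 3; 0, 0, 1, 0; 0, 0, 0, 1] := by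
    ext i j
    fin_cases i <;> fin_cases j <;>
      simp [a0, a1, a2, a3, a4, a5, a6, a7, a8, a9, a10, a11]
  obtain ⟨hd, h0, hc⟩ := jWit_spec ((x : SL4).1 0 2) ((x : SL4).1 0 3) ((x : SL4).1 1 2)
    ((x : SL4).1 1 3) hcd
  rw [← hg] at hc
  let m : Pv := ⟨⟨_, hd⟩, mem_Pv.2 h0⟩
  by_cases hD : (x : SL4).1 0 2 * (x : SL4).1 1 3 - (x : SL4).1 0 3 * (x : SL4).1 1 2 = 0
  · rw [if_pos hD] at hc
    have he : m * x = fm * m := Subtype.ext (Subtype.ext hc)
    refine Or.inl ⟨m⁻¹, ?_⟩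
    rw [inv_inv, mul_assoc, ← he, inv_mul_cancel_left]
  · rw [if_neg hD] at hc
    have he : m * x = wm _ * m := Subtype.ext (Subtype.ext hc)
    refine Or.inr ⟨_, hD, m⁻¹, ?_⟩
    rw [inv_inv, mul_assoc, ← he, inv_mul_cancel_left]

/-! ### Involutions -/

theorem exists_indep {n : ℕ} {K : Submodule (ZMod 3) (Fin n → ZMod 3)}
    (h : 2 ≤ Module.finrank (ZMod 3) K) (v : Fin n → ZMod 3) :
    ∃ w ∈ K, ∀ c : ZMod 3, w ≠ c • v := by
  haveI : Fact (Nat.Prime 3) := ⟨Nat.prime_three⟩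
  by_contra hall
  push Not at hall
  have hle : K ≤ Submodule.span (ZMod 3) {v} := fun w hw => by
    obtain ⟨c, rfl⟩ := hall w hw
    exact Submodule.smul_mem _ _ (Submodule.mem_span_singleton_self v)
  have h1 := (Submodule.finrank_mono hle).trans
    (finrank_span_le_card (R := ZMod 3) ({v} : Set (Fin n → ZMod 3)))
  simp at h1
  omega

theorem zmod3_two : ∀ a : ZMod 3, -a + -a = a := by decide

theorem zmod3_self : ∀ a : ZMod 3, a + a = 0 → a = 0 := by decide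

theorem four_two : ∀ n : Fin 5, n.val ≠ 0 → n.val ≠ 4 → (-1 : ZMod 3) ^ n.val = 1 → n.val = 2 := by
  decide

theorem zmod3_sq : ∀ a : ZMod 3, a ≠ 0 → a * a = 1 := by decide

theorem zmod3_sum_sq : ∀ a b : ZMod 3, a * a + b * b = 0 → a = 0 ∧ b = 0 := by decide

/-- An involution other than the centre has two-dimensional eigenspaces. -/
theorem eigen_dims {g : M4} (h2 : g * g = 1) (hdet : g.det = 1) (hne : g ≠ 1) (hne' : g ≠ -1) :
    2 ≤ Module.finrank (ZMod 3) (LinearMap.ker (Matrix.toLin' g - 1)) ∧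
      2 ≤ Module.finrank (ZMod 3) (LinearMap.ker (Matrix.toLin' g + 1)) := by
  classical
  haveI : Fact (Nat.Prime 3) := ⟨Nat.prime_three⟩
  set L := Matrix.toLin' g with hL
  set Kp := LinearMap.ker (L - 1) with hKp
  set Km := LinearMap.ker (L + 1) with hKm
  have hgg : ∀ v, L (L v) = v := fun v => by
    rw [hL, Matrix.toLin'_apply, Matrix.toLin'_apply, Matrix.mulVec_mulVec, h2, Matrix.one_mulVec]
  have hp : ∀ v, v ∈ Kp ↔ L v = v := fun v => by
    rw [hKp, LinearMap.mem_ker, LinearMap.sub_apply, Module.End.one_apply, sub_eq_zero]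
  have hm : ∀ v, v ∈ Km ↔ L v = -v := fun v => by
    rw [hKm, LinearMap.mem_ker, LinearMap.add_apply, Module.End.one_apply, add_eq_zero_iff_eq_neg]
  have hc : IsCompl Kp Km := by
    constructor
    · rw [Submodule.disjoint_def]
      intro v hv hv'
      have h := (hp v).1 hv
      rw [(hm v).1 hv'] at h
      funext i
      exact zmod3_self _ (eq_neg_iff_add_eq_zero.1 (congrFun h i).symm)
    · rw [codisjoint_iff, eq_top_iff]
      intro v _
      have he : v = -(v + L v) + -(v - L v) := by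
        funext i
        simp only [Pi.add_apply, Pi.neg_apply, Pi.sub_apply]
        linear_combination (-1 : ZMod 3) * zmod3_two (v i)
      rw [he]
      refine Submodule.add_mem_sup ?_ ?_
      · rw [hp, map_neg, map_add, hgg, add_comm (L v)]
      · rw [hm, map_neg, map_sub, hgg]
        abel
  let bp := Module.finBasis (ZMod 3) Kp
  let bm := Module.finBasis (ZMod 3) Km
  let B := (bp.prod bm).map (Submodule.prodEquivOfIsCompl Kp Km hc)
  have hB : LinearMap.toMatrix B B L = Matrix.diagonal (Sum.elim (fun _ => 1) fun _ => -1) := by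
    refine Matrix.ext fun i j => ?_
    rw [LinearMap.toMatrix_apply]
    have hj : L (B j) = (Sum.elim (fun _ => 1) (fun _ => -1) j : ZMod 3) • B j := by
      rcases j with j | j
      · simp only [B, Module.Basis.map_apply, Sum.elim_inl, one_smul]
        have e : Submodule.prodEquivOfIsCompl Kp Km hc ((bp.prod bm) (Sum.inl j)) = (bp j : Fin 4 → ZMod 3) := by
          simp [Submodule.coe_prodEquivOfIsCompl', Module.Basis.prod_apply_inl_fst,
            Module.Basis.prod_apply_inl_snd]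
        rw [e]
        exact (hp _).1 (bp j).2
      · simp only [B, Module.Basis.map_apply, Sum.elim_inr, neg_one_smul]
        have e : Submodule.prodEquivOfIsCompl Kp Km hc ((bp.prod bm) (Sum.inr j)) = (bm j : Fin 4 → ZMod 3) := by
          simp [Submodule.coe_prodEquivOfIsCompl', Module.Basis.prod_apply_inr_fst,
            Module.Basis.prod_apply_inr_snd]
        rw [e]
        exact (hm _).1 (bm j).2
    rw [hj, map_smul, Finsupp.smul_apply, Module.Basis.repr_self, Matrix.diagonal_apply,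
      Finsupp.single_apply, smul_eq_mul]
    by_cases h : i = j
    · subst h; simp
    · rw [if_neg h, if_neg (Ne.symm h), mul_zero]
  have hd : (-1 : ZMod 3) ^ Module.finrank (ZMod 3) Km = 1 := by
    have h := LinearMap.det_toMatrix B L
    rw [hB, Matrix.det_diagonal, hL, LinearMap.det_toLin', hdet, Fintype.prod_sum_type] at h
    simpa using h
  have hsum : Module.finrank (ZMod 3) Kp + Module.finrank (ZMod 3) Km = 4 := by
    rw [Submodule.finrank_add_eq_of_isCompl hc, Module.finrank_fintype_fun_eq_card, Fintype.card_fin]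
  have hm0 : Module.finrank (ZMod 3) Km ≠ 0 := by
    intro h
    refine hne (Matrix.toLin'.injective (LinearMap.ext fun v => ?_))
    have hv : v ∈ Kp := by
      rw [Submodule.finrank_eq_zero.1 h] at hc
      rw [eq_top_of_isCompl_bot hc]; trivial
    rw [Matrix.toLin'_one]
    exact (hp v).1 hv
  have hm4 : Module.finrank (ZMod 3) Km ≠ 4 := by
    intro h
    refine hne' (Matrix.toLin'.injective (LinearMap.ext fun v => ?_))
    have hv : v ∈ Km := by
      rw [Submodule.finrank_eq_zero.1 (by omega : Module.finrank (ZMod 3) Kp = 0)] at hc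
      rw [eq_top_of_isCompl_bot hc.symm]; trivial
    rw [map_neg, Matrix.toLin'_one]
    exact (hm v).1 hv
  have hlt : Module.finrank (ZMod 3) Km < 5 := by omega
  have h2 : Module.finrank (ZMod 3) Km = 2 :=
    four_two ⟨_, hlt⟩ hm0 hm4 hd
  omega

/-- A matrix with given columns is injective. -/
theorem det_ne_zero_of_ker {m : M4} (h : ∀ w : Fin 4 → ZMod 3, m *ᵥ w = 0 → w = 0) :
    m.det ≠ 0 := by
  haveI : Fact (Nat.Prime 3) := ⟨Nat.prime_three⟩
  intro hd
  obtain ⟨v, hv, hv0⟩ := Matrix.exists_mulVec_eq_zero_iff.2 hd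
  exact hv (h v hv0)

theorem indep_pair {n : ℕ} {v w : Fin n → ZMod 3} (hv : v ≠ 0) (hw : ∀ c : ZMod 3, w ≠ c • v)
    {a b : ZMod 3} (h : a • v + b • w = 0) : a = 0 ∧ b = 0 := by
  haveI : Fact (Nat.Prime 3) := ⟨Nat.prime_three⟩
  by_cases hb : b = 0
  · subst hb
    rw [zero_smul, add_zero] at h
    exact ⟨(smul_eq_zero.1 h).resolve_right hv, rfl⟩
  · refine absurd ?_ (hw (-(b⁻¹ * a)))
    rw [neg_smul, ← smul_smul, ← smul_neg, neg_eq_of_add_eq_zero_right h, smul_smul,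
      inv_mul_cancel₀ hb, one_smul]

/-- The matrix with the given columns. -/
def cols (v0 v1 v2 v3 : Fin 4 → ZMod 3) : M4 := Matrix.of fun i j => ![v0, v1, v2, v3] j i

theorem cols_mulVec (v0 v1 v2 v3 w : Fin 4 → ZMod 3) :
    cols v0 v1 v2 v3 *ᵥ w = w 0 • v0 + w 1 • v1 + w 2 • v2 + w 3 • v3 := by
  funext i
  simp [cols, Matrix.mulVec, dotProduct, Fin.sum_univ_four, mul_comm]

theorem mul_cols (g : M4) (v0 v1 v2 v3 : Fin 4 → ZMod 3) :
    g * cols v0 v1 v2 v3 = cols (g *ᵥ v0) (g *ᵥ v1) (g *ᵥ v2) (g *ᵥ v3) := by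
  ext i j
  fin_cases j <;> simp [cols, Matrix.mul_apply, Matrix.mulVec, dotProduct]

theorem cols_tm (v0 v1 v2 v3 : Fin 4 → ZMod 3) :
    cols v0 v1 v2 v3 * ((tm : Pv) : SL4).1 = cols v0 (-v1) (-v2) v3 := by
  ext i j
  fin_cases j <;> simp [cols, tm, Matrix.mul_diagonal]

/-- An involution with a fixed vector is conjugate to `tm` by a matrix starting with that vector. -/
theorem exists_involConj {g : SL4} (h2 : g * g = 1) (hne : g ≠ 1) (hne' : g.1 ≠ -1)
    {v0 : Fin 4 → ZMod 3} (hv0 : v0 ≠ 0) (hgv : g.1 *ᵥ v0 = v0) :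
    ∃ P : SL4, (∀ i, P.1 i 0 = v0 i) ∧ g * P = P * (tm : SL4) := by
  classical
  haveI : Fact (Nat.Prime 3) := ⟨Nat.prime_three⟩
  obtain ⟨hp, hm⟩ := eigen_dims (congrArg Subtype.val h2) g.2 (fun e => hne (Subtype.ext e)) hne'
  obtain ⟨v3, hv3, hv3i⟩ := exists_indep hp v0
  obtain ⟨v1, hv1, hv1i⟩ := exists_indep hm 0
  obtain ⟨v2, hv2, hv2i⟩ := exists_indep hm v1
  rw [LinearMap.mem_ker, LinearMap.sub_apply, Module.End.one_apply, Matrix.toLin'_apply,
    sub_eq_zero] at hv3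
  rw [LinearMap.mem_ker, LinearMap.add_apply, Module.End.one_apply, Matrix.toLin'_apply,
    add_eq_zero_iff_eq_neg] at hv1 hv2
  have hv10 : v1 ≠ 0 := fun e => hv1i 0 (by rw [e, smul_zero])
  set P0 := cols v0 v1 v2 v3 with hP0
  have hd : P0.det ≠ 0 := det_ne_zero_of_ker fun w hw => by
    rw [hP0, cols_mulVec] at hw
    have hw' := congrArg (g.1 *ᵥ ·) hw
    simp only [Matrix.mulVec_add, Matrix.mulVec_smul, Matrix.mulVec_zero, hgv, hv1, hv2, hv3] at hw'
    have e1 : w 0 • v0 + w 3 • v3 = 0 := by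
      funext i
      have a := congrFun hw i
      have b := congrFun hw' i
      simp only [Pi.add_apply, Pi.smul_apply, Pi.neg_apply, smul_eq_mul, Pi.zero_apply] at a b ⊢
      exact zmod3_self _ (by linear_combination a + b)
    have e2 : w 1 • v1 + w 2 • v2 = 0 := by
      funext i
      have a := congrFun hw i
      have b := congrFun e1 i
      simp only [Pi.add_apply, Pi.smul_apply, smul_eq_mul, Pi.zero_apply] at a b ⊢
      linear_combination a - b
    obtain ⟨z0, z3⟩ := indep_pair hv0 hv3i e1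
    obtain ⟨z1, z2⟩ := indep_pair hv10 hv2i e2
    funext i
    fin_cases i
    · exact z0
    · exact z1
    · exact z2
    · exact z3
  let P1 := cols v0 (P0.det • v1) v2 v3
  have hP1 : P1 = P0 * Matrix.diagonal ![1, P0.det, 1, 1] := by
    ext i j
    fin_cases j <;> simp [P1, hP0, cols, Matrix.mul_diagonal, mul_comm]
  have hd1 : P1.det = 1 := by
    rw [hP1, Matrix.det_mul, Matrix.det_diagonal, Fin.prod_univ_four]
    simpa using zmod3_sq _ hd
  refine ⟨⟨P1, hd1⟩, fun i => rfl, Subtype.ext ?_⟩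
  show g.1 * P1 = P1 * ((tm : Pv) : SL4).1
  rw [show P1 = cols v0 (P0.det • v1) v2 v3 from rfl, mul_cols, cols_tm, hgv, Matrix.mulVec_smul,
    hv1, hv2, hv3, smul_neg]

theorem exists_fixed {g : SL4} (h2 : g * g = 1) (hne' : g.1 ≠ -1) :
    ∃ v0 : Fin 4 → ZMod 3, v0 ≠ 0 ∧ g.1 *ᵥ v0 = v0 := by
  by_contra h
  push Not at h
  refine hne' (Matrix.ext_of_mulVec_single fun i => ?_)
  have hfix : g.1 *ᵥ (Pi.single i 1 + g.1 *ᵥ Pi.single i 1) = Pi.single i 1 + g.1 *ᵥ Pi.single i 1 := by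
    rw [Matrix.mulVec_add, Matrix.mulVec_mulVec,
      show g.1 * g.1 = 1 from congrArg Subtype.val h2, Matrix.one_mulVec, add_comm]
  have h0 : Pi.single i 1 + g.1 *ᵥ Pi.single i 1 = 0 := by
    by_contra hne
    exact h _ hne hfix
  rw [Matrix.neg_mulVec, Matrix.one_mulVec]
  exact eq_neg_of_add_eq_zero_right h0

/-! ### An element of order five -/

/-- A square root of minus one. -/
def g0 : M4 := !![0, -1, 0, 0; 1, 0, 0, 0; 0, 0, 0, -1; 0, 0, 1, 0]

/-- An element of order five commuting with it. -/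
def c0 : M4 := !![0, 0, -1, 0; 0, 0, 0, -1; 1, 0, 1, -1; 0, 1, 1, 1]

theorem c0_spec : c0.det = 1 ∧ c0 * g0 = g0 * c0 ∧ c0 ^ 5 = 1 ∧ c0 ≠ 1 ∧ c0 ≠ -1 := by
  decide +kernel

theorem exists_five {g : SL4} (h : g.1 * g.1 = -1) :
    ∃ c : SL4, c ^ 5 = 1 ∧ c.1 ≠ 1 ∧ c.1 ≠ -1 ∧ c * g = g * c := by
  classical
  haveI : Fact (Nat.Prime 3) := ⟨Nat.prime_three⟩
  have hgg : ∀ v, g.1 *ᵥ (g.1 *ᵥ v) = -v := fun v => by
    rw [Matrix.mulVec_mulVec, h, Matrix.neg_mulVec, Matrix.one_mulVec]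
  let v : Fin 4 → ZMod 3 := Pi.single 0 1
  have hv : v ≠ 0 := fun e => by simpa [v] using congrFun e 0
  obtain ⟨w, hw⟩ : ∃ w : Fin 4 → ZMod 3, ∀ a b : ZMod 3, w ≠ a • v + b • g.1 *ᵥ v := by
    by_contra hall
    push Not at hall
    have hs : Function.Surjective fun q : ZMod 3 × ZMod 3 => q.1 • v + q.2 • g.1 *ᵥ v := fun w => by
      obtain ⟨a, b, hab⟩ := hall w
      exact ⟨(a, b), hab.symm⟩
    have := Fintype.card_le_of_surjective _ hs
    simp at this
  set P := cols v (g.1 *ᵥ v) w (g.1 *ᵥ w) with hP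
  have hd : P.det ≠ 0 := det_ne_zero_of_ker fun x hx => by
    rw [hP, cols_mulVec] at hx
    have hcd : x 2 = 0 ∧ x 3 = 0 := by
      by_contra hne
      have h2 := congrArg (fun u => x 2 • u - x 3 • g.1 *ᵥ u) hx
      simp only [Matrix.mulVec_add, Matrix.mulVec_smul, hgg, Matrix.mulVec_zero, smul_zero,
        sub_zero] at h2
      have hs : x 2 * x 2 + x 3 * x 3 ≠ 0 := fun e => hne (zmod3_sum_sq _ _ e)
      have hss := zmod3_sq _ hs
      refine hw (-(x 2 * x 2 + x 3 * x 3) * (x 2 * x 0 + x 3 * x 1))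
        (-(x 2 * x 2 + x 3 * x 3) * (x 2 * x 1 - x 3 * x 0)) (funext fun i => ?_)
      have e := congrFun h2 i
      simp only [Pi.add_apply, Pi.sub_apply, Pi.smul_apply, Pi.neg_apply, smul_eq_mul,
        Pi.zero_apply] at e ⊢
      linear_combination (x 2 * x 2 + x 3 * x 3) * e - w i * hss
    have hab : x 0 • v + x 1 • g.1 *ᵥ v = 0 := by
      rw [hcd.1, hcd.2, zero_smul, zero_smul, add_zero, add_zero] at hx
      exact hx
    have h2 := congrArg (fun u => x 0 • u - x 1 • g.1 *ᵥ u) hab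
    simp only [Matrix.mulVec_add, Matrix.mulVec_smul, hgg, Matrix.mulVec_zero, smul_zero,
      sub_zero] at h2
    have h3 : (x 0 * x 0 + x 1 * x 1) • v = 0 := by
      funext i
      have e := congrFun h2 i
      simp only [Pi.add_apply, Pi.sub_apply, Pi.smul_apply, Pi.neg_apply, smul_eq_mul,
        Pi.zero_apply] at e ⊢
      linear_combination e
    obtain ⟨z0, z1⟩ := zmod3_sum_sq _ _ ((smul_eq_zero.1 h3).resolve_right hv)
    funext i
    fin_cases i
    · exact z0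
    · exact z1
    · exact hcd.1
    · exact hcd.2
  have hu : IsUnit P.det := isUnit_iff_ne_zero.2 hd
  have hgP : g.1 * P = P * g0 := by
    rw [hP, mul_cols, hgg, hgg]
    ext i j
    fin_cases j <;> simp [cols, g0, Matrix.mul_apply, Fin.sum_univ_four]
  obtain ⟨hc1, hc2, hc5, hcne, hcne'⟩ := c0_spec
  let c : SL4 := ⟨P * c0 * P⁻¹, by rw [Matrix.det_conj ((Matrix.isUnit_iff_isUnit_det P).2 hu), hc1]⟩
  have hcancel : ∀ m : M4, P⁻¹ * (P * m) = m := fun m => Matrix.nonsing_inv_mul_cancel_left P m hu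
  have hpow : ∀ k : ℕ, (c ^ k : SL4).1 = P * c0 ^ k * P⁻¹ := by
    intro k
    induction k with
    | zero =>
      rw [pow_zero, pow_zero, Matrix.SpecialLinearGroup.coe_one, mul_one, Matrix.mul_nonsing_inv _ hu]
    | succ k ih =>
      rw [pow_succ, Matrix.SpecialLinearGroup.coe_mul, ih, pow_succ]
      show P * c0 ^ k * P⁻¹ * (P * c0 * P⁻¹) = _
      simp only [Matrix.mul_assoc, hcancel]
  have hback : ∀ s : M4, P * c0 * P⁻¹ = s → c0 = P⁻¹ * s * P := fun s e => by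
    rw [← e]
    simp only [Matrix.mul_assoc, hcancel, Matrix.nonsing_inv_mul _ hu, Matrix.mul_one]
  refine ⟨c, Subtype.ext ?_, fun e => hcne ?_, fun e => hcne' ?_, Subtype.ext ?_⟩
  · rw [hpow, hc5, mul_one, Matrix.mul_nonsing_inv _ hu]
    rfl
  · rw [hback 1 e, mul_one, Matrix.nonsing_inv_mul _ hu]
  · rw [hback (-1) e, mul_neg, mul_one, neg_mul, Matrix.nonsing_inv_mul _ hu]
  · show P * c0 * P⁻¹ * g.1 = g.1 * (P * c0 * P⁻¹)
    have h1 : g.1 = P * g0 * P⁻¹ := by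
      rw [← hgP, Matrix.mul_assoc, Matrix.mul_nonsing_inv _ hu, Matrix.mul_one]
    conv_lhs => rw [h1]
    conv_rhs => rw [h1]
    simp only [Matrix.mul_assoc, hcancel]
    rw [← Matrix.mul_assoc c0, hc2, Matrix.mul_assoc]

/-! ### Centralisers of the involution -/

/-- The two blocks of a matrix commuting with `tm`. -/
def blkP (g : M4) : Matrix (Fin 2) (Fin 2) (ZMod 3) := !![g 0 0, g 0 3; g 3 0, g 3 3]

/-- The middle block. -/
def blkR (g : M4) : Matrix (Fin 2) (Fin 2) (ZMod 3) := !![g 1 1, g 1 2; g 2 1, g 2 2]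

theorem block_zero {g : M4} (h : g * ((tm : Pv) : SL4).1 = ((tm : Pv) : SL4).1 * g) :
    g 0 1 = 0 ∧ g 0 2 = 0 ∧ g 3 1 = 0 ∧ g 3 2 = 0 ∧ g 1 0 = 0 ∧ g 1 3 = 0 ∧ g 2 0 = 0 ∧ g 2 3 = 0 := by
  have e : ∀ i j, g i j * ![1, -1, -1, 1] j = ![1, -1, -1, 1] i * g i j := fun i j => by
    have := congrFun (congrFun h i) j
    simpa [tm, Matrix.mul_diagonal, Matrix.diagonal_mul] using this
  have z : ∀ a : ZMod 3, a * -1 = 1 * a → a = 0 := by decide
  have z' : ∀ a : ZMod 3, a * 1 = -1 * a → a = 0 := by decide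
  exact ⟨z _ (e 0 1), z _ (e 0 2), z _ (e 3 1), z _ (e 3 2), z' _ (e 1 0), z' _ (e 1 3),
    z' _ (e 2 0), z' _ (e 2 3)⟩

theorem det_eq_blocks {g : M4} (h : g * ((tm : Pv) : SL4).1 = ((tm : Pv) : SL4).1 * g) :
    g.det = (blkP g).det * (blkR g).det := by
  obtain ⟨a1, a2, a3, a4, a5, a6, a7, a8⟩ := block_zero h
  rw [Matrix.det_succ_row_zero, Fin.sum_univ_four, a1, a2]
  simp [Matrix.det_fin_three, blkP, blkR, Matrix.det_fin_two, Matrix.submatrix, Fin.succAbove,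
    a3, a4, a5, a6, a7, a8]
  ring

theorem blocks_mul {g h : M4} (hg : g * ((tm : Pv) : SL4).1 = ((tm : Pv) : SL4).1 * g)
    (hh : h * ((tm : Pv) : SL4).1 = ((tm : Pv) : SL4).1 * h) :
    blkP (g * h) = blkP g * blkP h ∧ blkR (g * h) = blkR g * blkR h := by
  obtain ⟨a1, a2, a3, a4, a5, a6, a7, a8⟩ := block_zero hg
  obtain ⟨b1, b2, b3, b4, b5, b6, b7, b8⟩ := block_zero hh
  constructor <;> ext i j <;> fin_cases i <;> fin_cases j <;>
    simp [blkP, blkR, Matrix.mul_apply, Fin.sum_univ_four, Fin.sum_univ_two,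
      a1, a2, a3, a4, a5, a6, a7, a8, b1, b2, b3, b4, b5, b6, b7, b8]

theorem blocks_ext {g h : M4} (hg : g * ((tm : Pv) : SL4).1 = ((tm : Pv) : SL4).1 * g)
    (hh : h * ((tm : Pv) : SL4).1 = ((tm : Pv) : SL4).1 * h)
    (hP : blkP g = blkP h) (hR : blkR g = blkR h) : g = h := by
  obtain ⟨a1, a2, a3, a4, a5, a6, a7, a8⟩ := block_zero hg
  obtain ⟨b1, b2, b3, b4, b5, b6, b7, b8⟩ := block_zero hh
  have p00 : g 0 0 = h 0 0 := congrFun (congrFun hP 0) 0
  have p03 : g 0 3 = h 0 3 := congrFun (congrFun hP 0) 1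
  have p30 : g 3 0 = h 3 0 := congrFun (congrFun hP 1) 0
  have p33 : g 3 3 = h 3 3 := congrFun (congrFun hP 1) 1
  have r11 : g 1 1 = h 1 1 := congrFun (congrFun hR 0) 0
  have r12 : g 1 2 = h 1 2 := congrFun (congrFun hR 0) 1
  have r21 : g 2 1 = h 2 1 := congrFun (congrFun hR 1) 0
  have r22 : g 2 2 = h 2 2 := congrFun (congrFun hR 1) 1
  ext i j
  fin_cases i <;> fin_cases j <;>
    simp [a1, a2, a3, a4, a5, a6, a7, a8, b1, b2, b3, b4, b5, b6, b7, b8, p00, p03, p30, p33, r11,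
      r12, r21, r22]

theorem no_five : ∀ A : Matrix (Fin 2) (Fin 2) (ZMod 3), A ^ 5 = 1 → A = 1 := by decide +kernel

theorem card_gl2 :
    (Finset.univ.filter fun A : Matrix (Fin 2) (Fin 2) (ZMod 3) => A.det ≠ 0).card = 48 := by
  decide +kernel

theorem card_sl2 :
    (Finset.univ.filter fun A : Matrix (Fin 2) (Fin 2) (ZMod 3) => A.det = 1).card = 24 := by
  decide +kernel

/-! ### A semidihedral group of order sixteen commuting with `tm` -/

/-- An element of order eight commuting with `tm`. -/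
def a8 : SL4 := ⟨!![1, 0, 0, 1; 0, 1, 0, 0; 0, 0, -1, 0; -1, 0, 0, 1], by decide +kernel⟩

/-- An involution normalising it. -/
def r8 : SL4 := ⟨Matrix.diagonal ![1, 1, -1, -1], by decide +kernel⟩

/-- The sixteen products. -/
def el16 (q : Fin 8 × Fin 2) : SL4 := a8 ^ q.1.val * r8 ^ q.2.val

theorem el16_mul : ∀ i k : Fin 8, ∀ j l : Fin 2,
    ((el16 (i, j)).1 * (el16 (k, l)).1 : M4) =
      (el16 (if j = 0 then i + k else i + 3 * k, j + l)).1 := by
  decide +kernel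

theorem el16_inj : ∀ i k : Fin 8, ∀ j l : Fin 2,
    (el16 (i, j)).1 = (el16 (k, l)).1 → i = k ∧ j = l := by
  decide +kernel

theorem el16_spec : ∀ i : Fin 8, ∀ j : Fin 2, (el16 (i, j)).1 1 1 = 1 ∧
    (el16 (i, j)).1 * ((tm : Pv) : SL4).1 = ((tm : Pv) : SL4).1 * (el16 (i, j)).1 := by
  decide +kernel

/-- The semidihedral group. -/
def K16 : Submonoid SL4 where
  carrier := Set.range el16
  one_mem' := ⟨(0, 0), by simp [el16]⟩
  mul_mem' := by
    rintro _ _ ⟨⟨i, j⟩, rfl⟩ ⟨⟨k, l⟩, rfl⟩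
    exact ⟨_, (Subtype.ext (el16_mul i k j l)).symm⟩

/-- The semidihedral group as a subgroup. -/
def Y16 : Subgroup SL4 where
  toSubmonoid := K16
  inv_mem' {g} hg := by
    obtain ⟨n, hn⟩ := (mem_powers_iff_mem_zpowers.2 (inv_mem (Subgroup.mem_zpowers g)) :
      g⁻¹ ∈ Submonoid.powers g)
    rw [← hn]
    exact pow_mem (show g ∈ K16 from hg) n

theorem card_Y16 : Nat.card Y16 = 16 := by
  have he : Nat.card (Set.range el16) = Nat.card (Fin 8 × Fin 2) :=
    Nat.card_range_of_injective fun a b h => by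
      obtain ⟨e1, e2⟩ := el16_inj _ _ _ _ (congrArg Subtype.val h)
      exact Prod.ext e1 e2
  rw [Nat.card_prod, Nat.card_fin, Nat.card_fin] at he
  exact he

theorem Y16_spec {g : SL4} (h : g ∈ Y16) : g.1 1 1 = 1 ∧
    g.1 * ((tm : Pv) : SL4).1 = ((tm : Pv) : SL4).1 * g.1 := by
  obtain ⟨⟨i, j⟩, rfl⟩ := h
  exact el16_spec i j

/-! ### Bounds on the centralisers -/

theorem card_comm_Pv :
    Nat.card {g : Pv // (g : SL4).1 * ((tm : Pv) : SL4).1 = ((tm : Pv) : SL4).1 * (g : SL4).1} ≤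
      144 := by
  classical
  haveI : Fact (Nat.Prime 3) := ⟨Nat.prime_three⟩
  have key : ∀ g : Pv, (g : SL4).1 * ((tm : Pv) : SL4).1 = ((tm : Pv) : SL4).1 * (g : SL4).1 →
      (g : SL4).1 0 0 = 1 ∧ (g : SL4).1 3 0 = 0 ∧
        (g : SL4).1 3 3 * (blkR (g : SL4).1).det = 1 := by
    intro g hg
    have h0 := mem_Pv.1 g.2
    have e0 : (g : SL4).1 0 0 = 1 := h0 0
    have e3 : (g : SL4).1 3 0 = 0 := h0 3
    refine ⟨e0, e3, ?_⟩
    have hd := det_eq_blocks hg
    have hP : (blkP (g : SL4).1).det = (g : SL4).1 3 3 := by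
      simp [blkP, Matrix.det_fin_two, e0, e3]
    rw [hP, (g : SL4).2] at hd
    exact hd.symm
  let f : {g : Pv // (g : SL4).1 * ((tm : Pv) : SL4).1 = ((tm : Pv) : SL4).1 * (g : SL4).1} →
      ZMod 3 × (Finset.univ.filter fun A : Matrix (Fin 2) (Fin 2) (ZMod 3) => A.det ≠ 0) :=
    fun g => ((g.1 : SL4).1 0 3, ⟨blkR (g.1 : SL4).1, Finset.mem_filter.2 ⟨Finset.mem_univ _,
      fun e => one_ne_zero (α := ZMod 3) (by rw [← (key g.1 g.2).2.2, e, mul_zero])⟩⟩)
  have hf : Function.Injective f := by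
    intro g g' hgg
    obtain ⟨h3, hR⟩ := Prod.ext_iff.1 hgg
    have hR' : blkR (g.1 : SL4).1 = blkR (g'.1 : SL4).1 := congrArg Subtype.val hR
    obtain ⟨a0, a3, ad⟩ := key g.1 g.2
    obtain ⟨b0, b3, bd⟩ := key g'.1 g'.2
    refine Subtype.ext (Subtype.ext (Subtype.ext (blocks_ext g.2 g'.2 ?_ hR')))
    have h33 : (g.1 : SL4).1 3 3 = (g'.1 : SL4).1 3 3 := by
      rw [hR'] at ad
      exact mul_right_cancel₀ (fun e => one_ne_zero (α := ZMod 3) (by rw [← bd, e, mul_zero]))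
        (ad.trans bd.symm)
    have h3' : (g.1 : SL4).1 0 3 = (g'.1 : SL4).1 0 3 := h3
    simp only [blkP, a0, a3, b0, b3, h3', h33]
  refine (Nat.card_le_card_of_injective f hf).trans ?_
  rw [Nat.card_prod, Nat.card_zmod, Nat.card_eq_finsetCard, card_gl2]

theorem card_comm_SL4 :
    Nat.card {g : SL4 // g.1 * ((tm : Pv) : SL4).1 = ((tm : Pv) : SL4).1 * g.1} ≤ 1152 := by
  classical
  haveI : Fact (Nat.Prime 3) := ⟨Nat.prime_three⟩
  have key : ∀ g : SL4, g.1 * ((tm : Pv) : SL4).1 = ((tm : Pv) : SL4).1 * g.1 →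
      (blkP g.1).det * (blkR g.1).det = 1 := fun g hg => (det_eq_blocks hg).symm.trans g.2
  let f : {g : SL4 // g.1 * ((tm : Pv) : SL4).1 = ((tm : Pv) : SL4).1 * g.1} →
      (Finset.univ.filter fun A : Matrix (Fin 2) (Fin 2) (ZMod 3) => A.det ≠ 0) ×
        (Finset.univ.filter fun A : Matrix (Fin 2) (Fin 2) (ZMod 3) => A.det = 1) :=
    fun g => (⟨blkP g.1.1, Finset.mem_filter.2 ⟨Finset.mem_univ _,
      fun e => one_ne_zero (α := ZMod 3) (by rw [← key g.1 g.2, e, zero_mul])⟩⟩,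
      ⟨Matrix.diagonal ![(blkP g.1.1).det, 1] * blkR g.1.1, Finset.mem_filter.2 ⟨Finset.mem_univ _,
      by simp [Matrix.det_mul, key g.1 g.2]⟩⟩)
  have hf : Function.Injective f := by
    intro g g' hgg
    obtain ⟨hP, hR⟩ := Prod.ext_iff.1 hgg
    have hP' : blkP g.1.1 = blkP g'.1.1 := congrArg Subtype.val hP
    have hR' : Matrix.diagonal ![(blkP g.1.1).det, 1] * blkR g.1.1 =
        Matrix.diagonal ![(blkP g'.1.1).det, 1] * blkR g'.1.1 := congrArg Subtype.val hR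
    refine Subtype.ext (Subtype.ext (blocks_ext g.2 g'.2 hP' ?_))
    rw [hP'] at hR'
    have hne : (blkP g'.1.1).det ≠ 0 := fun e =>
      one_ne_zero (α := ZMod 3) (by rw [← key g'.1 g'.2, e, zero_mul])
    haveI : Invertible (Matrix.diagonal ![(blkP g'.1.1).det, 1]) :=
      Matrix.invertibleOfIsUnitDet _ (isUnit_iff_ne_zero.2 (by simpa using hne))
    exact Matrix.mul_right_injective_of_invertible _ hR'
  refine (Nat.card_le_card_of_injective f hf).trans ?_
  rw [Nat.card_prod, Nat.card_eq_finsetCard, Nat.card_eq_finsetCard, card_gl2, card_sl2]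

/-- An element moving `tm` to its negative. -/
def flip4 : SL4 := ⟨!![0, 1, 0, 0; 1, 0, 0, 0; 0, 0, 0, 1; 0, 0, 1, 0], by decide +kernel⟩

theorem flip4_spec : flip4.1 * ((tm : Pv) : SL4).1 = -(((tm : Pv) : SL4).1 * flip4.1) := by
  decide +kernel

theorem card_sign_comm :
    Nat.card {g : SL4 // g.1 * ((tm : Pv) : SL4).1 = ((tm : Pv) : SL4).1 * g.1 ∨
      g.1 * ((tm : Pv) : SL4).1 = -(((tm : Pv) : SL4).1 * g.1)} ≤ 2304 := by
  classical
  have hmove : ∀ g : SL4, g.1 * ((tm : Pv) : SL4).1 = -(((tm : Pv) : SL4).1 * g.1) →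
      (g * flip4).1 * ((tm : Pv) : SL4).1 = ((tm : Pv) : SL4).1 * (g * flip4).1 := by
    intro g hg
    rw [Matrix.SpecialLinearGroup.coe_mul, Matrix.mul_assoc, flip4_spec, Matrix.mul_neg,
      ← Matrix.mul_assoc, hg, Matrix.neg_mul, neg_neg, Matrix.mul_assoc]
  let f : {g : SL4 // g.1 * ((tm : Pv) : SL4).1 = ((tm : Pv) : SL4).1 * g.1 ∨
      g.1 * ((tm : Pv) : SL4).1 = -(((tm : Pv) : SL4).1 * g.1)} →
      Bool × {g : SL4 // g.1 * ((tm : Pv) : SL4).1 = ((tm : Pv) : SL4).1 * g.1} :=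
    fun g => if h : g.1.1 * ((tm : Pv) : SL4).1 = ((tm : Pv) : SL4).1 * g.1.1 then (false, ⟨g.1, h⟩)
      else (true, ⟨g.1 * flip4, hmove _ (g.2.resolve_left h)⟩)
  have hf : Function.Injective f := by
    intro g g' hgg
    simp only [f] at hgg
    split_ifs at hgg <;> simp_all [Subtype.ext_iff]
  refine (Nat.card_le_card_of_injective f hf).trans ?_
  rw [Nat.card_prod, Nat.card_eq_fintype_card (α := Bool), Fintype.card_bool]
  have := card_comm_SL4
  omega

theorem blk_pow {e : M4} (he : e * ((tm : Pv) : SL4).1 = ((tm : Pv) : SL4).1 * e) (n : ℕ) :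
    blkP (e ^ n) = blkP e ^ n ∧ blkR (e ^ n) = blkR e ^ n := by
  induction n with
  | zero =>
    rw [pow_zero, pow_zero, pow_zero]
    decide +kernel
  | succ n ih =>
    obtain ⟨h1, h2⟩ := blocks_mul (Commute.pow_left (M := M4) he n).eq he
    rw [pow_succ, h1, h2, ih.1, ih.2, ← pow_succ, ← pow_succ]
    exact ⟨rfl, rfl⟩

theorem comm_five_eq_one {e : M4} (he : e * ((tm : Pv) : SL4).1 = ((tm : Pv) : SL4).1 * e)
    (h5 : e ^ 5 = 1) : e = 1 := by
  obtain ⟨h1, h2⟩ := blk_pow he 5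
  rw [h5] at h1 h2
  have e1 : blkP (1 : M4) = 1 := by decide +kernel
  have e2 : blkR (1 : M4) = 1 := by decide +kernel
  refine blocks_ext he (by rw [one_mul, mul_one]) ?_ ?_
  · rw [e1]; exact no_five _ (h1.symm.trans e1)
  · rw [e2]; exact no_five _ (h2.symm.trans e2)

end CfsgLib.L43.Fin4
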