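import Cfsg.Agent.LFourThree.Bridge
import Cfsg.Agent.LFourThree.FinishTables

/-!
# The finish: an involution with only one fixed coset forces the whole group
-/

set_option autoImplicit false
set_option maxRecDepth 100000
set_option linter.style.haveILetI false

namespace CfsgLib.L43

open Matrix Subgroup

universe u

namespace Fin4

variable {G : Type u} [Group G]

/-- Every conjugate of `e` lying in `H` comes from a conjugation inside `H`. -/
def Fix (H : Subgroup G) (e : G) : Prop := ∀ g, g * e * g⁻¹ ∈ H → g ∈ H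

theorem Fix.conj {H : Subgroup G} {e h : G} (he : Fix H e) (hh : h ∈ H) :
    Fix H (h * e * h⁻¹) := fun g hg =>
  (H.mul_mem_cancel_right hh).1 (he (g * h) (by rwa [_root_.mul_inv_rev, ← mul_assoc, ← mul_assoc,
    mul_assoc g h e, mul_assoc g, ← mul_assoc g] at *))

/-- The elements of `H` fixing the coset of `u`. -/
def meet (H : Subgroup G) (u : G) : Subgroup G :=
  H ⊓ H.comap (MulAut.conj u⁻¹).toMonoidHom

theorem mem_meet {H : Subgroup G} {u d : G} : d ∈ meet H u ↔ d ∈ H ∧ u⁻¹ * d * u ∈ H := by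
  simp [meet, MulAut.conj_apply]

theorem Fix.not_mem_meet {H : Subgroup G} {u d : G} (hu : u ∉ H) (hd : Fix H d) :
    d ∉ meet H u := fun hm =>
  hu (by simpa using H.inv_mem (hd u⁻¹ (by simpa using (mem_meet.1 hm).2)))

/-- An involution fixing only the base coset forces a large intersection of two stabilisers. -/
theorem exists_large_meet [Finite G] {H : Subgroup G} {t : G} (hH : H ≠ ⊤) (ht : t ∈ H)
    (ht2 : t * t = 1) (hfix : Fix H t) :
    ∃ u, u ∉ H ∧ Nat.card H ≤ Nat.card (meet H u) * Nat.card (centralizer ({t} : Set G)) := by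
  classical
  haveI := Fintype.ofFinite G
  haveI := Fintype.ofFinite (G ⧸ H)
  let f : G → G ⧸ H := fun g => ((g * t * g⁻¹ : G) : G ⧸ H)
  let s : Finset G := Finset.univ.filter (· ∉ H)
  let T : Finset (G ⧸ H) := Finset.univ.erase ((1 : G) : G ⧸ H)
  have hmaps : ∀ g ∈ s, f g ∈ T := by
    intro g hg
    refine Finset.mem_erase.2 ⟨fun e => (Finset.mem_filter.1 hg).2 (hfix g ?_), Finset.mem_univ _⟩
    have := QuotientGroup.eq.1 e
    rwa [mul_one, inv_mem_iff] at this
  obtain ⟨g, hg⟩ : ∃ g, g ∉ H := by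
    by_contra h
    push Not at h
    exact hH (eq_top_iff.2 fun g _ => h g)
  have hTne : T.Nonempty := ⟨(g : G ⧸ H), Finset.mem_erase.2 ⟨fun e => hg (by
    have := QuotientGroup.eq.1 e
    rwa [mul_one, inv_mem_iff] at this), Finset.mem_univ _⟩⟩
  have hcount : T.card * Nat.card H ≤ s.card := by
    have hG : Nat.card G = Nat.card (G ⧸ H) * Nat.card H := card_eq_card_quotient_mul_card_subgroup H
    have hs : s.card + Nat.card H = Nat.card G := by
      have hH' : Nat.card H = (Finset.univ.filter (· ∈ H)).card := by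
        rw [Nat.card_eq_fintype_card]; exact Fintype.card_subtype _
      rw [hH', add_comm, Finset.card_filter_add_card_filter_not, Nat.card_eq_fintype_card,
        Finset.card_univ]
    have hT : T.card + 1 = Nat.card (G ⧸ H) := by
      rw [Nat.card_eq_fintype_card, ← Finset.card_univ]
      exact Finset.card_erase_add_one (Finset.mem_univ _)
    rw [← hT, add_mul, one_mul] at hG
    omega
  obtain ⟨y, hy, hbig⟩ := Finset.exists_le_card_fiber_of_mul_le_card_of_maps_to hmaps hTne hcount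
  obtain ⟨g0, hg0⟩ : (s.filter fun g => f g = y).Nonempty :=
    Finset.card_pos.1 (lt_of_lt_of_le Nat.card_pos hbig)
  rw [Finset.mem_filter] at hg0
  set u := g0 * t * g0⁻¹ with hu
  have hu2 : u * u = 1 := by rw [hu]; simp [mul_assoc, ← mul_assoc t t, ht2]
  have huinv : u⁻¹ = u := inv_eq_of_mul_eq_one_right hu2
  have hnu : u ∉ H := fun h => (Finset.mem_filter.1 hg0.1).2 (hfix g0 h)
  refine ⟨u, hnu, ?_⟩
  let rep : G → G := fun x => Function.invFun (fun g => g * t * g⁻¹) x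
  have hrep : ∀ g, rep (g * t * g⁻¹) * t * (rep (g * t * g⁻¹))⁻¹ = g * t * g⁻¹ := fun g =>
    Function.invFun_eq (f := fun g => g * t * g⁻¹) ⟨g, rfl⟩
  have hmem : ∀ g ∈ s.filter (fun g => f g = y), (g * t * g⁻¹) * u ∈ meet H u := by
    intro g hg
    rw [Finset.mem_filter] at hg
    have h1 := QuotientGroup.eq.1 (show ((g * t * g⁻¹ : G) : G ⧸ H) = ((u : G) : G ⧸ H) from
      hg.2.trans hg0.2.symm)
    have hx : (g * t * g⁻¹)⁻¹ = g * t * g⁻¹ := by
      refine inv_eq_of_mul_eq_one_right ?_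
      simp [mul_assoc, ← mul_assoc t t, ht2]
    rw [hx] at h1
    refine mem_meet.2 ⟨h1, ?_⟩
    have h2 := H.inv_mem h1
    rw [_root_.mul_inv_rev, hx, huinv] at h2
    rw [huinv, mul_assoc u, mul_assoc (g * t * g⁻¹), hu2, mul_one]
    exact h2
  let F : (s.filter fun g => f g = y) → meet H u × centralizer ({t} : Set G) := fun g =>
    (⟨_, hmem g.1 g.2⟩, ⟨(rep (g.1 * t * g.1⁻¹))⁻¹ * g.1, mem_centralizer_singleton_iff.2 (by
      have h := hrep g.1
      calc (rep (g.1 * t * g.1⁻¹))⁻¹ * g.1 * t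
          = (rep (g.1 * t * g.1⁻¹))⁻¹ * (g.1 * t * g.1⁻¹) * g.1 := by group
        _ = (rep (g.1 * t * g.1⁻¹))⁻¹ *
            (rep (g.1 * t * g.1⁻¹) * t * (rep (g.1 * t * g.1⁻¹))⁻¹) * g.1 := by rw [h]
        _ = t * ((rep (g.1 * t * g.1⁻¹))⁻¹ * g.1) := by group)⟩)
  have hF : Function.Injective F := by
    intro a b hab
    obtain ⟨h1, h2⟩ := Prod.ext_iff.1 hab
    have e1 : a.1 * t * a.1⁻¹ = b.1 * t * b.1⁻¹ := mul_right_cancel (congrArg Subtype.val h1)
    have e2 : (rep (a.1 * t * a.1⁻¹))⁻¹ * a.1 = (rep (b.1 * t * b.1⁻¹))⁻¹ * b.1 :=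
      congrArg Subtype.val h2
    rw [e1] at e2
    exact Subtype.ext (mul_left_cancel e2)
  refine hbig.trans ?_
  rw [← Nat.card_eq_finsetCard, ← Nat.card_prod]
  exact Nat.card_le_card_of_injective F hF

/-- A large group of fixed-point-poor elements bounds the power of `p` in an intersection. -/
theorem not_pow_dvd [Finite G] {H : Subgroup G} {u : G} (hu : u ∉ H) (p : ℕ) [hp : Fact p.Prime]
    {Y : Subgroup G} (hYH : Y ≤ H) (hYp : IsPGroup p Y)
    (hY : ∀ y ∈ Y, orderOf y = p → Fix H y) (k : ℕ)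
    (hbig : ∀ P : Subgroup G, P ≤ H → IsPGroup p P → Nat.card P < p ^ k * Nat.card Y) :
    ¬ p ^ k ∣ Nat.card (meet H u) := by
  intro hdvd
  obtain ⟨R0, hR0⟩ := Sylow.exists_subgroup_card_pow_prime p hdvd
  set R := R0.map (meet H u).subtype with hR
  have hRm : R ≤ meet H u := Subgroup.map_subtype_le _
  have hRH : R ≤ H := hRm.trans inf_le_left
  have hRc : Nat.card R = p ^ k := by
    rw [hR, card_map_of_injective Subtype.val_injective, hR0]
  have hRp : IsPGroup p R := IsPGroup.of_card hRc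
  obtain ⟨P1, hP1⟩ := ((hYp.comap_of_injective H.subtype Subtype.val_injective) :
    IsPGroup p (Y.comap H.subtype)).exists_le_sylow
  obtain ⟨P2, hP2⟩ := ((hRp.comap_of_injective H.subtype Subtype.val_injective) :
    IsPGroup p (R.comap H.subtype)).exists_le_sylow
  obtain ⟨h, hh⟩ := MulAction.exists_smul_eq H P2 P1
  set P := (P1 : Subgroup H).map H.subtype with hP
  have hPH : P ≤ H := Subgroup.map_subtype_le _
  have hr : ∀ r ∈ R, (h : G) * r * (h : G)⁻¹ ∈ P := by
    intro r hr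
    have hm : h * ⟨r, hRH hr⟩ * h⁻¹ ∈ ((h • P2 : Sylow p H) : Subgroup H) := by
      rw [Sylow.coe_subgroup_smul]
      exact Subgroup.smul_mem_pointwise_smul _ (MulAut.conj h) _ (hP2 hr)
    rw [hh] at hm
    exact ⟨_, hm, rfl⟩
  have hy : ∀ y ∈ Y, y ∈ P := fun y hy =>
    ⟨⟨y, hYH hy⟩, hP1 (show (⟨y, hYH hy⟩ : H) ∈ Y.comap H.subtype from hy), rfl⟩
  let F : R × Y → P := fun q =>
    ⟨(h : G) * q.1 * (h : G)⁻¹ * q.2, P.mul_mem (hr _ q.1.2) (hy _ q.2.2)⟩
  set R' := R.map (MulAut.conj (h : G)).toMonoidHom with hR'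
  have hdisj : R' ⊓ Y = ⊥ := by
    by_contra hne
    obtain ⟨n, hn⟩ := IsPGroup.iff_card.1 (hYp.to_le (inf_le_right : R' ⊓ Y ≤ Y))
    have hn0 : n ≠ 0 := fun e => hne (Subgroup.card_eq_one.1 (by rw [hn, e, pow_zero]))
    obtain ⟨x, hx⟩ := exists_prime_orderOf_dvd_card' p (G := (R' ⊓ Y : Subgroup G))
      (by rw [hn]; exact dvd_pow_self p hn0)
    obtain ⟨r, hr, hrx⟩ := (x.2).1
    have hfr : Fix H r := by
      have := (hY x.1 x.2.2 (by rw [orderOf_coe]; exact hx)).conj (H.inv_mem h.2)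
      rw [← hrx] at this
      simpa [MulAut.conj_apply, mul_assoc] using this
    exact hfr.not_mem_meet hu (hRm hr)
  have hF : Function.Injective F := by
    rintro ⟨⟨r, hr⟩, ⟨y, hy⟩⟩ ⟨⟨r', hr'⟩, ⟨y', hy'⟩⟩ he
    have he' : (h : G) * r * (h : G)⁻¹ * y = (h : G) * r' * (h : G)⁻¹ * y' :=
      congrArg Subtype.val he
    have hmem : y' * y⁻¹ ∈ R' ⊓ Y := by
      refine ⟨⟨r'⁻¹ * r, R.mul_mem (R.inv_mem hr') hr, ?_⟩, Y.mul_mem hy' (Y.inv_mem hy)⟩
      have : y' = ((h : G) * r' * (h : G)⁻¹)⁻¹ * ((h : G) * r * (h : G)⁻¹ * y) := by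
        rw [he']; group
      rw [this, MulEquiv.coe_toMonoidHom, MulAut.conj_apply]
      group
    rw [hdisj, mem_bot, mul_inv_eq_one] at hmem
    subst hmem
    have e1 : r = r' := mul_left_cancel (mul_right_cancel (mul_right_cancel he'))
    subst e1
    rfl
  have hle := Nat.card_le_card_of_injective F hF
  rw [Nat.card_prod, hRc] at hle
  exact absurd hle (not_le.2 (hbig P hPH ((P1.2).map H.subtype)))

theorem wm_cube : ∀ c : ZMod 3, (((wm c : Pv) : SL4).1) ^ 3 = 1 := by decide +kernel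

theorem tm_sq : (tm : Pv) * tm = 1 := Subtype.ext (Subtype.ext (by decide +kernel))

theorem tm_ne_one : (tm : Pv) ≠ 1 := fun e =>
  absurd (congrArg (fun g : Pv => (g : SL4).1) e) (by decide +kernel)

theorem tm_comm_zm : ∀ s : Pv, InS (s : SL4).1 → s * zm = zm * s := by
  intro s hs
  refine Subtype.ext (Subtype.ext ?_)
  rw [Subgroup.coe_mul, Subgroup.coe_mul, Matrix.SpecialLinearGroup.coe_mul,
    Matrix.SpecialLinearGroup.coe_mul]
  obtain ⟨a0, a1, a2, a3, a4, a5, a6, a7, a8, a9⟩ := hs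
  show (s : SL4).1 * Matrix.transvection 0 3 1 = Matrix.transvection 0 3 1 * (s : SL4).1
  ext i j
  fin_cases i <;> fin_cases j <;>
    simp [Matrix.transvection, Matrix.mul_apply, Fin.sum_univ_four, Matrix.single, add_comm,
      a0, a1, a2, a3, a4, a5, a6, a7, a8, a9]

theorem card_Sm : Nat.card Sm = 729 := by
  have hspec : ∀ a b c d e f : ZMod 3, (!![1, a, b, c; 0, 1, d, e; 0, 0, 1, f; 0, 0, 0, 1] : M4).det = 1 := by
    decide +kernel
  let F : (Fin 6 → ZMod 3) → Sm := fun v =>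
    ⟨⟨⟨!![1, v 0, v 1, v 2; 0, 1, v 3, v 4; 0, 0, 1, v 5; 0, 0, 0, 1], hspec _ _ _ _ _ _⟩,
      mem_Pv.2 fun i => by fin_cases i <;> rfl⟩, by
      show InS (!![1, v 0, v 1, v 2; 0, 1, v 3, v 4; 0, 0, 1, v 5; 0, 0, 0, 1] : M4)
      exact ⟨rfl, rfl, rfl, rfl, rfl, rfl, rfl, rfl, rfl, rfl⟩⟩
  have hF : Function.Bijective F := by
    constructor
    · intro v w h
      have h' := congrArg (fun x : Sm => (((x : Pv) : SL4).1)) h
      funext i
      fin_cases i
      · exact congrFun (congrFun h' 0) 1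
      · exact congrFun (congrFun h' 0) 2
      · exact congrFun (congrFun h' 0) 3
      · exact congrFun (congrFun h' 1) 2
      · exact congrFun (congrFun h' 1) 3
      · exact congrFun (congrFun h' 2) 3
    · rintro ⟨g, hg⟩
      obtain ⟨a0, a1, a2, a3, a4, a5, a6, a7, a8, a9⟩ := (hg : InS (g : SL4).1)
      refine ⟨![(g : SL4).1 0 1, (g : SL4).1 0 2, (g : SL4).1 0 3, (g : SL4).1 1 2,
        (g : SL4).1 1 3, (g : SL4).1 2 3], Subtype.ext (Subtype.ext (Subtype.ext ?_))⟩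
      show (!![1, _, _, _; 0, 1, _, _; 0, 0, 1, _; 0, 0, 0, 1] : M4) = (g : SL4).1
      ext i j
      fin_cases i <;> fin_cases j <;> simp [a0, a1, a2, a3, a4, a5, a6, a7, a8, a9]
  rw [← Nat.card_congr (Equiv.ofBijective F hF), Nat.card_fun, Nat.card_zmod, Nat.card_fin]
  rfl

theorem jMat_det : ∀ a b c d : ZMod 3,
    (!![1, 0, a, b; 0, 1, c, d; 0, 0, 1, 0; 0, 0, 0, 1] : M4).det = 1 := by decide +kernel

end Fin4

open Fin4

variable {G : Type u} [Group G] [Finite G] {E : Emb G}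

/-- An element of order three whose centraliser lies in `H` fixes only the base coset. -/
theorem Emb.fix_three (E : Emb G) {H : Subgroup G} (hH : E.ψ.range ≤ H) (hz : Fix H E.z) {x : G}
    (hx : x ^ 3 = 1) (hC : centralizer ({x} : Set G) ≤ H) : Fix H x := by
  classical
  haveI : Fact (Nat.Prime 3) := ⟨Nat.prime_three⟩
  intro g hg
  set S := Sm.map E.ψ with hS
  have hSH : S ≤ H := le_trans (Subgroup.map_le_range _ _) hH
  have hSp : IsPGroup 3 S := by
    refine IsPGroup.of_card (n := 6) ?_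
    rw [hS, card_map_of_injective E.inj, card_Sm]; try rfl
  obtain ⟨P1, hP1⟩ := ((hSp.comap_of_injective H.subtype Subtype.val_injective) :
    IsPGroup 3 (S.comap H.subtype)).exists_le_sylow
  have hSeq : (P1 : Subgroup H).map H.subtype = S := by
    refine (Subgroup.eq_of_le_of_card_ge ?_ ?_).symm
    · intro s hs
      exact ⟨⟨s, hSH hs⟩, hP1 (show (⟨s, hSH hs⟩ : H) ∈ S.comap H.subtype from hs), rfl⟩
    · refine (E.sylow _ (P1.2.map H.subtype)).trans (le_of_eq ?_)
      rw [hS, card_map_of_injective E.inj, card_Sm]; try rfl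
  set y : H := ⟨g * x * g⁻¹, hg⟩ with hy
  have hy3 : y ^ 3 = 1 := Subtype.ext (by
    rw [Subgroup.coe_pow, hy, OneMemClass.coe_one, conj_pow, hx]; group)
  have hyp : IsPGroup 3 (zpowers y) := by
    rintro ⟨a, ha⟩
    obtain ⟨i, rfl⟩ := mem_zpowers_iff.1 ha
    refine ⟨1, Subtype.ext ?_⟩
    show (y ^ i) ^ (3 ^ 1) = 1
    rw [pow_one, ← zpow_natCast, ← _root_.zpow_mul, mul_comm, _root_.zpow_mul, zpow_natCast, hy3,
      _root_.one_zpow]
  obtain ⟨P2, hP2⟩ := hyp.exists_le_sylow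
  obtain ⟨h, hh⟩ := MulAction.exists_smul_eq H P2 P1
  have hm : h * y * h⁻¹ ∈ (P1 : Subgroup H) := by
    rw [← hh, Sylow.coe_subgroup_smul]
    exact Subgroup.smul_mem_pointwise_smul _ (MulAut.conj h) _ (hP2 (mem_zpowers y))
  have hmS : (h : G) * (g * x * g⁻¹) * (h : G)⁻¹ ∈ S := hSeq ▸ ⟨_, hm, rfl⟩
  obtain ⟨s, hs, hse⟩ := hmS
  have hcomm : E.ψ s * E.z = E.z * E.ψ s := by
    rw [← map_mul, ← map_mul, tm_comm_zm s hs]
  have hmem : g⁻¹ * ((h : G)⁻¹ * E.z * h) * g ∈ centralizer ({x} : Set G) := by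
    rw [mem_centralizer_singleton_iff]
    calc g⁻¹ * ((h : G)⁻¹ * E.z * h) * g * x
        = g⁻¹ * (h : G)⁻¹ * (E.z * ((h : G) * (g * x * g⁻¹) * (h : G)⁻¹)) * h * g := by group
      _ = g⁻¹ * (h : G)⁻¹ * (((h : G) * (g * x * g⁻¹) * (h : G)⁻¹) * E.z) * h * g := by
          rw [← hse, hcomm]
      _ = x * (g⁻¹ * ((h : G)⁻¹ * E.z * h) * g) := by group
  have h2 := hz (g⁻¹ * (h : G)⁻¹) (by
    convert hC hmem using 1
    group)
  have h3 := H.inv_mem ((H.mul_mem_cancel_right (H.inv_mem h.2)).1 h2)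
  rwa [inv_inv] at h3

theorem Emb.fix_J (E : Emb G) {H : Subgroup G} (hH : E.ψ.range ≤ H) (hz : Fix H E.z)
    (hf : Fix H (E.ψ fm)) (hw : ∀ c : ZMod 3, c ≠ 0 → centralizer ({E.ψ (wm c)} : Set G) ≤ H) :
    ∀ y ∈ E.J, orderOf y = 3 → Fix H y := by
  rintro _ ⟨x, hx, rfl⟩ ho
  have hk : ∀ (k e : Pv), x = k * e * k⁻¹ → Fix H (E.ψ e) → Fix H (E.ψ x) := fun k e he h => by
    rw [he, map_mul, map_mul, map_inv]
    exact h.conj (hH ⟨k, rfl⟩)
  rcases exists_jConj hx with h | ⟨k, h⟩ | ⟨c, hc, k, h⟩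
  · obtain ⟨k, hk'⟩ := exists_rowConj h (fun e => by rw [e, map_one, orderOf_one] at ho; omega)
    exact hk k zm hk' hz
  · exact hk k fm h hf
  · refine hk k _ h (E.fix_three hH hz ?_ (hw c hc))
    rw [← map_pow, show (wm c) ^ 3 = 1 from Subtype.ext (Subtype.ext (by simpa using wm_cube c)),
      map_one]

theorem Emb.card_J_ge (E : Emb G) : IsPGroup 3 E.J ∧ 81 ≤ Nat.card E.J := by
  haveI : Fact (Nat.Prime 3) := ⟨Nat.prime_three⟩
  constructor
  · have h : IsPGroup 3 (Sm.map E.ψ : Subgroup G) := IsPGroup.of_card (n := 6) (by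
      rw [card_map_of_injective E.inj, card_Sm]; try rfl)
    exact h.to_le (Subgroup.map_mono fun g hg => InJ.inS hg)
  · have hspec := jMat_det
    let F : (Fin 4 → ZMod 3) → Jm := fun v =>
      ⟨⟨⟨!![1, 0, v 0, v 1; 0, 1, v 2, v 3; 0, 0, 1, 0; 0, 0, 0, 1], hspec _ _ _ _⟩,
        mem_Pv.2 fun i => by fin_cases i <;> rfl⟩, by
        show InJ (!![1, 0, v 0, v 1; 0, 1, v 2, v 3; 0, 0, 1, 0; 0, 0, 0, 1] : M4)
        exact ⟨rfl, rfl, rfl, rfl, rfl, rfl, rfl, rfl, rfl, rfl, rfl, rfl⟩⟩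
    have hF : Function.Injective F := by
      intro v w h
      have h' := congrArg (fun x : Jm => (((x : Pv) : SL4).1)) h
      funext i
      fin_cases i
      · exact congrFun (congrFun h' 0) 2
      · exact congrFun (congrFun h' 0) 3
      · exact congrFun (congrFun h' 1) 2
      · exact congrFun (congrFun h' 1) 3
    have h := Nat.card_le_card_of_injective F hF
    rw [Nat.card_fun, Nat.card_zmod, Nat.card_fin] at h
    rw [card_map_of_injective E.inj]
    exact h

theorem Emb.card_range (E : Emb G) : Nat.card E.ψ.range = 151632 := by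
  obtain ⟨e⟩ := Pv_iso_P
  rw [← Nat.card_congr (MonoidHom.ofInjective E.inj).toEquiv, Nat.card_congr e.toEquiv,
    PointStab.card_P]

theorem Emb.not27 (E : Emb G) {H : Subgroup G} (hH : E.ψ.range ≤ H) (hz : Fix H E.z)
    (hf : Fix H (E.ψ fm)) (hw : ∀ c : ZMod 3, c ≠ 0 → centralizer ({E.ψ (wm c)} : Set G) ≤ H)
    {u : G} (hu : u ∉ H) : ¬ 27 ∣ Nat.card (meet H u) := by
  haveI : Fact (Nat.Prime 3) := ⟨Nat.prime_three⟩
  refine not_pow_dvd hu 3 (le_trans (Subgroup.map_le_range _ _) hH) E.card_J_ge.1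
    (E.fix_J hH hz hf hw) 3 fun P _ hP => ?_
  have := E.sylow P hP
  have h81 : 81 ≤ Nat.card E.J := E.card_J_ge.2
  show _ < 3 ^ 3 * Nat.card E.J
  omega

/-- Every involution of the parabolic is conjugate to `tm`. -/
theorem exists_conj_tm {x : Pv} (h2 : x * x = 1) (hne : x ≠ 1) : ∃ k : Pv, x = k * tm * k⁻¹ := by
  have hm : (x : SL4).1 ≠ -1 := fun e => by
    have h0 := mem_Pv.1 x.2 0
    rw [e] at h0
    exact absurd h0 (by decide +kernel)
  obtain ⟨P, hP, hc⟩ := exists_involConj (congrArg Subtype.val h2) (fun e => hne (Subtype.ext e)) hm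
    (v0 := Pi.single 0 1) (by simp) x.2
  refine ⟨⟨P, mem_Pv.2 fun i => ?_⟩, Subtype.ext ?_⟩
  · rw [hP, Pi.single_apply]
  · rw [Subgroup.coe_mul, Subgroup.coe_mul, InvMemClass.coe_inv]
    show x.1 = P * (tm : SL4) * P⁻¹
    rw [← hc, mul_inv_cancel_right]

theorem Fix.of_centralizer {H : Subgroup G} {t g k : G} (hC : centralizer ({t} : Set G) ≤ H)
    (hk : k ∈ H) (he : g * t * g⁻¹ = k * t * k⁻¹) : g ∈ H := by
  have : k⁻¹ * g ∈ centralizer ({t} : Set G) := by
    rw [mem_centralizer_singleton_iff]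
    calc k⁻¹ * g * t = k⁻¹ * (g * t * g⁻¹) * g := by group
      _ = t * (k⁻¹ * g) := by rw [he]; group
  exact (H.mul_mem_cancel_left (H.inv_mem hk)).1 (hC this)

theorem Emb.fix_tm (E : Emb G) (ht : centralizer ({E.ψ tm} : Set G) ≤ E.ψ.range) :
    Fix E.ψ.range (E.ψ tm) := by
  intro g hg
  obtain ⟨x, hx⟩ := hg
  have h2 : x * x = 1 := E.inj (by
    rw [map_mul, map_one, hx, conj_mul, ← map_mul, tm_sq, map_one]; group)
  have hne : x ≠ 1 := fun e => tm_ne_one (E.inj (by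
    rw [e, map_one, eq_comm, mul_inv_eq_one, mul_eq_left] at hx
    rw [hx, map_one]))
  obtain ⟨k, rfl⟩ := exists_conj_tm h2 hne
  exact Fix.of_centralizer ht ⟨k, rfl⟩ (by rw [← hx, map_mul, map_mul, map_inv])

theorem Emb.card_cent_tm (E : Emb G) (ht : centralizer ({E.ψ tm} : Set G) ≤ E.ψ.range) :
    Nat.card (centralizer ({E.ψ tm} : Set G)) ≤ 144 := by
  refine le_trans ?_ card_comm_Pv
  refine Nat.card_le_card_of_surjective
    (fun g => ⟨E.ψ g.1, mem_centralizer_singleton_iff.2 (by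
      rw [← map_mul, ← map_mul, show g.1 * tm = tm * g.1 from Subtype.ext (Subtype.ext g.2)])⟩) ?_
  rintro ⟨c, hc⟩
  obtain ⟨k, rfl⟩ := ht hc
  refine ⟨⟨k, ?_⟩, rfl⟩
  rw [mem_centralizer_singleton_iff, ← map_mul, ← map_mul] at hc
  exact congrArg (fun g : Pv => (g : SL4).1) (E.inj hc)

theorem small_div {n : ℕ} {a b c : ℕ} {A B : ℕ} (p q : ℕ) (hp : p.Prime) (hq : q.Prime)
    (h : n ∣ p ^ a * q ^ b * c) (hA : ¬ p ^ (A + 1) ∣ n) (hB : ¬ q ^ (B + 1) ∣ n) (hc : 0 < c) :
    n ≤ p ^ A * q ^ B * c := by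
  obtain ⟨n12, n3, h12, h3, rfl⟩ := exists_dvd_and_dvd_of_dvd_mul h
  obtain ⟨n1, n2, h1, h2, rfl⟩ := exists_dvd_and_dvd_of_dvd_mul h12
  obtain ⟨i, -, rfl⟩ := (Nat.dvd_prime_pow hp).1 h1
  obtain ⟨j, -, rfl⟩ := (Nat.dvd_prime_pow hq).1 h2
  have hi : i ≤ A := by
    by_contra hi
    exact hA (dvd_mul_of_dvd_left (dvd_mul_of_dvd_left (pow_dvd_pow p (by omega)) _) _)
  have hj : j ≤ B := by
    by_contra hj
    exact hB (dvd_mul_of_dvd_left (dvd_mul_of_dvd_right (pow_dvd_pow q (by omega)) _) _)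
  exact Nat.mul_le_mul (Nat.mul_le_mul (Nat.pow_le_pow_right hp.pos hi)
    (Nat.pow_le_pow_right hq.pos hj)) (Nat.le_of_dvd hc h3)

/-- If the centraliser of the involution lies in the parabolic, the parabolic is everything. -/
theorem Emb.top (E : Emb G) (hz : ∀ g, g * E.z * g⁻¹ ∈ E.ψ.range → g ∈ E.ψ.range)
    (hw : ∀ c : ZMod 3, c ≠ 0 → centralizer ({E.ψ (wm c)} : Set G) ≤ E.ψ.range)
    (hf : centralizer ({E.ψ fm} : Set G) ≤ E.ψ.range)
    (ht : centralizer ({E.ψ tm} : Set G) ≤ E.ψ.range) : E.ψ.range = ⊤ := by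
  haveI : Fact (Nat.Prime 2) := ⟨Nat.prime_two⟩
  by_contra hne
  have hfixt := E.fix_tm ht
  obtain ⟨u, hu, hbig⟩ := exists_large_meet hne ⟨tm, rfl⟩
    (by rw [← map_mul, tm_sq, map_one]) hfixt
  have hff : Fix E.ψ.range (E.ψ fm) := E.fix_three le_rfl hz (by
    rw [← map_pow, show (fm : Pv) ^ 3 = 1 from Subtype.ext (Subtype.ext (by decide +kernel)),
      map_one]) hf
  have h27 := E.not27 le_rfl hz hff hw hu
  have h2 : ¬ 2 ∣ Nat.card (meet E.ψ.range u) := by
    intro h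
    obtain ⟨d, hd⟩ := exists_prime_orderOf_dvd_card' 2 h
    obtain ⟨x, hx⟩ := (mem_meet.1 d.2).1
    have hd2 : (d : G) * d = 1 := by
      rw [← sq, ← hd, ← orderOf_coe]; exact pow_orderOf_eq_one _
    obtain ⟨k, rfl⟩ := exists_conj_tm (x := x) (E.inj (by rw [map_mul, map_one, hx, hd2]))
      (fun e => by
        rw [e, map_one] at hx
        rw [show d = 1 from Subtype.ext hx.symm, orderOf_one] at hd
        omega)
    refine Fix.not_mem_meet hu ?_ d.2
    rw [← hx, map_mul, map_mul, map_inv]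
    exact hfixt.conj ⟨k, rfl⟩
  have hle : Nat.card (meet E.ψ.range u) ≤ 2 ^ 0 * 3 ^ 2 * 13 := by
    refine small_div (a := 4) (b := 6) 2 3 Nat.prime_two Nat.prime_three ?_ h2 h27 (by omega)
    show _ ∣ 151632
    rw [← E.card_range]
    exact card_dvd_of_le inf_le_left
  have h1 := hbig.trans (Nat.mul_le_mul hle (E.card_cent_tm ht))
  rw [E.card_range] at h1
  omega

namespace Full

variable (F : Full E)

theorem range_le : E.ψ.range ≤ F.φ.range := by
  rintro _ ⟨g, rfl⟩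
  exact ⟨g, F.φ_eq g⟩

theorem eq_sign {a b : SL4} (h : F.φ a = F.φ b) : a.1 = b.1 ∨ a.1 = -b.1 := by
  have h1 : F.φ (a * b⁻¹) = 1 := by rw [map_mul, map_inv, h, mul_inv_cancel]
  have e : a.1 = (a * b⁻¹ : SL4).1 * b.1 := by
    rw [← Matrix.SpecialLinearGroup.coe_mul, inv_mul_cancel_right]
  rcases (F.ker _).1 h1 with h2 | h2
  · exact Or.inl (by rw [e, h2, one_mul])
  · exact Or.inr (by rw [e, h2, neg_one_mul])

theorem card_range : Nat.card F.φ.range = 6065280 := by
  obtain ⟨e⟩ := PointStab.range_iso_L4 F.φ (fun g hg => by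
    obtain ⟨r, hr, hg⟩ := PointStab.scalar_cases hg
    rw [MonoidHom.mem_ker, F.ker]
    have hor : ∀ a : ZMod 3, a * a = 1 → a = 1 ∨ a = -1 := by decide
    rcases hor r hr with rfl | rfl
    · exact Or.inl (by rw [hg, one_smul])
    · exact Or.inr (by rw [hg, neg_one_smul])) (fun e => by
      have h1 : F.φ (zm : SL4) = 1 := by rw [e]; rfl
      rcases (F.ker _).1 h1 with h2 | h2
      · exact absurd (congrFun (congrFun h2 0) 3) (by decide +kernel)
      · exact absurd (congrFun (congrFun h2 0) 3) (by decide +kernel))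
  rw [Nat.card_congr e.toEquiv, PointStab.card_L4]

theorem phi_ne_one {g : SL4} (h : g.1 ≠ 1) (h' : g.1 ≠ -1) : F.φ g ≠ 1 := fun e =>
  ((F.ker g).1 e).elim h h'

/-- A lift squaring to one is conjugate to `tm`. -/
theorem conj_tm_of_sq {x : SL4} (h2 : x * x = 1) (hne : F.φ x ≠ 1) :
    ∃ k : SL4, x = k * (tm : SL4) * k⁻¹ := by
  have h1 : x.1 ≠ -1 := fun e => hne ((F.ker x).2 (Or.inr e))
  have h0 : x ≠ 1 := fun e => hne (by rw [e, map_one])
  obtain ⟨v, hv, hvx⟩ := exists_fixed h2 h1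
  obtain ⟨P, -, hP⟩ := exists_involConj h2 h0 h1 hv hvx
  exact ⟨P, by rw [← hP, mul_inv_cancel_right]⟩

theorem fix_tm (ht : centralizer ({F.φ (tm : SL4)} : Set G) ≤ F.φ.range) :
    Fix F.φ.range (F.φ (tm : SL4)) := by
  intro g hg
  obtain ⟨x, hx⟩ := hg
  have htne : F.φ (tm : SL4) ≠ 1 := F.phi_ne_one (by decide +kernel) (by decide +kernel)
  have hxne : F.φ x ≠ 1 := fun e => htne (by rwa [hx, mul_inv_eq_one, mul_eq_left] at e)
  have hsq : F.φ (x * x) = F.φ 1 := by
    rw [map_mul, map_one, hx, conj_mul, ← map_mul, show (tm : SL4) * (tm : SL4) = 1 from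
      congrArg Subtype.val tm_sq, map_one]
    group
  rcases F.eq_sign hsq with h | h
  · obtain ⟨k, rfl⟩ := F.conj_tm_of_sq (Subtype.ext h) hxne
    exact Fix.of_centralizer ht ⟨k, rfl⟩ (by rw [← hx, map_mul, map_mul, map_inv])
  · exfalso
    obtain ⟨c, hc5, hc1, hc2, hcx⟩ := exists_five (g := x) h
    have hmem : g⁻¹ * F.φ c * g ∈ centralizer ({F.φ (tm : SL4)} : Set G) := by
      rw [mem_centralizer_singleton_iff]
      calc g⁻¹ * F.φ c * g * F.φ (tm : SL4)
          = g⁻¹ * (F.φ c * (g * F.φ (tm : SL4) * g⁻¹)) * g := by group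
        _ = g⁻¹ * ((g * F.φ (tm : SL4) * g⁻¹) * F.φ c) * g := by
            rw [← hx, ← map_mul, ← map_mul, hcx]
        _ = F.φ (tm : SL4) * (g⁻¹ * F.φ c * g) := by group
    obtain ⟨d, hd⟩ := ht hmem
    have hd5 : F.φ (d ^ 5) = F.φ 1 := by
      rw [map_pow, hd, show g⁻¹ * F.φ c * g = g⁻¹ * F.φ c * g⁻¹⁻¹ by rw [inv_inv], conj_pow,
        ← map_pow, hc5, map_one]
      group
    have hdt : F.φ (d * (tm : SL4)) = F.φ ((tm : SL4) * d) := by
      rw [map_mul, map_mul, hd]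
      exact mem_centralizer_singleton_iff.1 hmem
    have hdd : d.1 * d.1 * (tm : SL4).1 = (tm : SL4).1 * (d.1 * d.1) := by
      rcases F.eq_sign hdt with e | e <;> rw [Matrix.SpecialLinearGroup.coe_mul,
        Matrix.SpecialLinearGroup.coe_mul] at e
      · rw [Matrix.mul_assoc, e, ← Matrix.mul_assoc, e, Matrix.mul_assoc]
      · rw [Matrix.mul_assoc, e, Matrix.mul_neg, ← Matrix.mul_assoc, e, Matrix.neg_mul, neg_neg,
          Matrix.mul_assoc]
    have h30 : ((d.1 * d.1) ^ 3) ^ 5 = 1 := by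
      rw [← sq, ← pow_mul, ← pow_mul, show 2 * 3 * 5 = 5 * 6 from rfl, pow_mul]
      rcases F.eq_sign hd5 with e | e <;> rw [Matrix.SpecialLinearGroup.coe_pow,
        Matrix.SpecialLinearGroup.coe_one] at e
      · rw [e, one_pow]
      · rw [e]; exact Even.neg_one_pow (by decide)
    have he := comm_five_eq_one (Commute.pow_left (M := M4) hdd 3).eq h30
    have he' : (d ^ 6 : SL4) = 1 := Subtype.ext (by
      rw [Matrix.SpecialLinearGroup.coe_pow, show 6 = 2 * 3 from rfl, pow_mul, sq, he]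
      rfl)
    have hdone : F.φ d = 1 := by
      calc F.φ d = F.φ d * F.φ (d ^ 5) := by rw [hd5, map_one, mul_one]
        _ = F.φ (d ^ 6) := by rw [← map_mul, ← pow_succ']
        _ = 1 := by rw [he', map_one]
    refine F.phi_ne_one hc1 hc2 ?_
    rw [hdone] at hd
    calc F.φ c = g * (g⁻¹ * F.φ c * g) * g⁻¹ := by group
      _ = 1 := by rw [← hd]; group

theorem card_cent_tm (ht : centralizer ({F.φ (tm : SL4)} : Set G) ≤ F.φ.range) :
    Nat.card (centralizer ({F.φ (tm : SL4)} : Set G)) ≤ 1152 := by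
  classical
  have h := card_sign_comm
  let n : SL4 := ⟨-1, neg_one_det⟩
  have hn : F.φ n = 1 := (F.ker n).2 (Or.inr rfl)
  have hex : ∀ c : centralizer ({F.φ (tm : SL4)} : Set G), ∃ g : SL4, F.φ g = c := fun c => ht c.2
  choose r hr using hex
  have hprop : ∀ (c : centralizer ({F.φ (tm : SL4)} : Set G)) (b : Bool),
      (cond b n 1 * r c).1 * ((tm : Pv) : SL4).1 = ((tm : Pv) : SL4).1 * (cond b n 1 * r c).1 ∨
      (cond b n 1 * r c).1 * ((tm : Pv) : SL4).1 =
        -(((tm : Pv) : SL4).1 * (cond b n 1 * r c).1) := by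
    intro c b
    have hb : F.φ (cond b n 1) * F.φ (r c) = c := by
      cases b <;> simp [hn, hr]
    refine F.eq_sign (a := _ * (tm : SL4)) (b := (tm : SL4) * _) ?_
    simp only [map_mul]
    rw [hb]
    exact mem_centralizer_singleton_iff.1 c.2
  have hinj : Function.Injective (fun q : centralizer ({F.φ (tm : SL4)} : Set G) × Bool =>
      (⟨cond q.2 n 1 * r q.1, hprop q.1 q.2⟩ : {g : SL4 //
        g.1 * ((tm : Pv) : SL4).1 = ((tm : Pv) : SL4).1 * g.1 ∨
          g.1 * ((tm : Pv) : SL4).1 = -(((tm : Pv) : SL4).1 * g.1)})) := by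
    rintro ⟨c, b⟩ ⟨c', b'⟩ he
    have he' : cond b n 1 * r c = cond b' n 1 * r c' := congrArg Subtype.val he
    have hcc : c = c' := Subtype.ext (by
      have := congrArg F.φ he'
      cases b <;> cases b' <;> simpa [hn, hr] using this)
    subst hcc
    have h1 := mul_right_cancel he'
    have hne : n ≠ 1 := fun e => absurd (congrArg Subtype.val e) (by decide +kernel)
    cases b <;> cases b' <;> first | rfl | exact absurd h1 hne | exact absurd h1.symm hne
  have := Nat.card_le_card_of_injective _ hinj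
  rw [Nat.card_prod, Nat.card_eq_fintype_card (α := Bool), Fintype.card_bool] at this
  omega

theorem not16 (ht : Fix F.φ.range (F.φ (tm : SL4))) {u : G} (hu : u ∉ F.φ.range) :
    ¬ 16 ∣ Nat.card (meet F.φ.range u) := by
  haveI : Fact (Nat.Prime 2) := ⟨Nat.prime_two⟩
  have hcard : Nat.card (Y16.map F.φ : Subgroup G) = 2 ^ 4 := by
    have hinj : Function.Injective (F.φ.comp Y16.subtype) := by
      rw [injective_iff_map_eq_one]
      rintro ⟨g, hg⟩ he
      rcases (F.ker g).1 he with e | e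
      · exact Subtype.ext (Subtype.ext e)
      · exact absurd (Y16_spec hg).1 (by rw [e]; decide +kernel)
    rw [← Subgroup.range_subtype Y16, ← MonoidHom.range_comp,
      ← Nat.card_congr (MonoidHom.ofInjective hinj).toEquiv, card_Y16]
    rfl
  refine not_pow_dvd hu 2 (Y := Y16.map F.φ) (Subgroup.map_le_range _ _)
    (IsPGroup.of_card hcard) ?_ 4 ?_
  · rintro _ ⟨g, hg, rfl⟩ ho
    have h1 : F.φ (g * g) = F.φ 1 := by
      rw [map_mul, map_one, ← sq, ← ho]; exact pow_orderOf_eq_one _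
    have hne : F.φ g ≠ 1 := fun e => by rw [e, orderOf_one] at ho; omega
    have h2 : g * g = 1 := by
      rcases F.eq_sign h1 with e | e
      · exact Subtype.ext e
      · have := (Y16_spec (Y16.mul_mem hg hg)).1
        rw [e] at this
        exact absurd this (by decide +kernel)
    obtain ⟨k, rfl⟩ := F.conj_tm_of_sq h2 hne
    rw [map_mul, map_mul, map_inv]
    exact ht.conj ⟨k, rfl⟩
  · intro P hP hPp
    obtain ⟨j, hj⟩ := IsPGroup.iff_card.1 hPp
    have hdvd := card_dvd_of_le hP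
    rw [F.card_range, hj] at hdvd
    rw [hj, hcard]
    have hj8 : j < 8 := by
      by_contra hj8
      have := (pow_dvd_pow 2 (by omega : 8 ≤ j)).trans hdvd
      norm_num at this
    calc 2 ^ j < 2 ^ 8 := Nat.pow_lt_pow_right (by omega) hj8
      _ = 2 ^ 4 * 2 ^ 4 := by norm_num

/-- If the centraliser of the involution lies in the image of `SL(4,3)`, that image is everything. -/
theorem top (hz : ∀ g, g * E.z * g⁻¹ ∈ F.φ.range → g ∈ F.φ.range)
    (hw : ∀ c : ZMod 3, c ≠ 0 → centralizer ({F.φ (wm c : SL4)} : Set G) ≤ F.φ.range)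
    (ht : centralizer ({F.φ (tm : SL4)} : Set G) ≤ F.φ.range) : F.φ.range = ⊤ := by
  by_contra hne
  have hfixt := F.fix_tm ht
  obtain ⟨u, hu, hbig⟩ := exists_large_meet hne ⟨(tm : SL4), rfl⟩
    (by rw [← map_mul, show (tm : SL4) * (tm : SL4) = 1 from congrArg Subtype.val tm_sq, map_one])
    hfixt
  have hw' : ∀ c : ZMod 3, c ≠ 0 → centralizer ({E.ψ (wm c)} : Set G) ≤ F.φ.range := fun c hc => by
    rw [← F.φ_eq]; exact hw c hc
  have hff : Fix F.φ.range (E.ψ fm) := by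
    obtain ⟨k, hk⟩ := exists_colConj (x := (fm : SL4)) (by decide +kernel)
      (fun e => absurd (congrArg Subtype.val e) (by decide +kernel))
    rw [← F.φ_eq, hk, map_mul, map_mul, map_inv, F.φ_eq]
    exact Fix.conj hz ⟨k, rfl⟩
  have h27 := E.not27 F.range_le hz hff hw' hu
  have hle : Nat.card (meet F.φ.range u) ≤ 2 ^ 3 * 3 ^ 2 * 65 := by
    refine small_div (a := 7) (b := 6) 2 3 Nat.prime_two Nat.prime_three ?_ (F.not16 hfixt hu) h27
      (by omega)
    show _ ∣ 6065280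
    rw [← F.card_range]
    exact card_dvd_of_le inf_le_left
  have h1 := hbig.trans (Nat.mul_le_mul hle (F.card_cent_tm ht))
  rw [F.card_range] at h1
  omega

end Full

end CfsgLib.L43
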