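import Cfsg.Agent.LFourThree.CentTModel
import Cfsg.Agent.LFourThree.CentTCore
import Cfsg.Agent.LFourThree.Finish
import Cfsg.Agent.CentSixSeven.Count

/-!
# The centraliser of the involution lies in the image of `SL(4,3)`

The centraliser `W` of `tm` permutes six axes.  Its elements permuting them lie in the image by fusion of
the transvections; hence the stabiliser of two axes is a Sylow two-subgroup of `W`, the transfer of the
parity gives a subgroup of index two and the criterion of `CentTCore` applies to that subgroup.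
-/

set_option autoImplicit false
set_option maxRecDepth 100000
set_option linter.style.haveILetI false
set_option linter.unusedSectionVars false

namespace CfsgLib.L43.CTF

open Matrix Subgroup CfsgLib.L43.CT

universe u

/-! ### More matrix facts -/

/-- The elements of the group of order nine. -/
def eM (a b : Fin 3) : M4 := bl (U2 ^ (a : ℕ)) (U2 ^ (b : ℕ))

theorem eM_facts : (∀ a b, (eM a b).det = 1) ∧ eM 0 0 = 1 ∧ eM 1 0 = bl U2 1 ∧ eM 0 1 = bl 1 U2 := by
  decide +kernel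

theorem eM_mul : ∀ a b c d, eM a b * eM c d = eM (a + c) (b + d) := by decide +kernel

theorem eM_inj : ∀ a b c d, eM a b = eM c d ∨ eM a b = -eM c d → a = c ∧ b = d := by decide +kernel

theorem eM_cube : ∀ a b, eM a b * eM a b * eM a b = 1 := by decide +kernel

theorem eM_sg : ∀ a b, sg * eM a b = eM b a * sg := by decide +kernel

theorem delta_eM : ∀ a b, bl d2 d2 * eM a b = eM (-a) (-b) * bl d2 d2 := by decide +kernel

theorem t4_eM : ∀ a b, t4 * eM a b = eM a b * t4 := fun _ _ => (bl_t4 _ _).symm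

theorem delta_tor : (bl d2 d2).det = 1 ∧ bl d2 d2 * bl d2 d2 = 1 ∧ bl d2 d2 * t4 = t4 * bl d2 d2 ∧
    (bl d2 d2 * t4).det = 1 ∧ t4.det = 1 ∧ t4 * t4 = 1 := by decide +kernel

theorem tor_facts (D : M4) (hD : D ∈ tor) : D.det = 1 ∧ D * D = 1 ∧ D * t4 = t4 * D ∧
    ((∀ a b, D * eM a b = eM a b * D) ∨ ∀ a b, D * eM a b = eM (-a) (-b) * D) := by
  obtain ⟨h1, h2, h3, h4, h5, h6⟩ := delta_tor
  simp only [tor, List.mem_cons, List.not_mem_nil, or_false] at hD
  rcases hD with rfl | rfl | rfl | rfl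
  · exact ⟨Matrix.det_one, one_mul 1, by rw [one_mul, mul_one], Or.inl fun a b => by rw [one_mul, mul_one]⟩
  · exact ⟨h5, h6, rfl, Or.inl t4_eM⟩
  · exact ⟨h1, h2, h3, Or.inr delta_eM⟩
  · refine ⟨h4, ?_, ?_, Or.inr fun a b => ?_⟩
    · rw [← mul_assoc, mul_assoc (bl d2 d2) t4, ← h3, ← mul_assoc, h2, one_mul, h6]
    · rw [mul_assoc, h6, mul_one, ← mul_assoc, ← h3, mul_assoc, h6, mul_one]
    · rw [mul_assoc, t4_eM, ← mul_assoc, delta_eM, mul_assoc]

theorem U2_pow_ne : ∀ a : Fin 3, U2 ^ (a : ℕ) ≠ -1 ∧ (U2 ^ (a : ℕ)).det = 1 := by decide +kernel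

theorem ax_facts : ∀ p, (ax p).det = 1 ∧ (ax p * ax p = t4 ∨ ax p * ax p = -t4) ∧
    ax p * t4 = t4 * ax p := by decide +kernel

theorem ax_zero : ax (0, 0) = bl i2 1 ∧ ax (1, 0) = bl 1 i2 := by decide +kernel

theorem i2_facts : i2 ≠ 1 ∧ i2 ≠ -1 := by decide +kernel

theorem qq_facts : ∀ k l, (bl (q k) (q l)).det = 1 ∧ bl (q k) (q l) * bl (q k) (q l) = -1 ∧
    bl (q k) (q l) * t4 * (bl (q k) (q l) * t4) = -1 ∧
    bl (q k) (q l) ≠ t4 ∧ bl (q k) (q l) ≠ -t4 ∧ bl (q k) (q l) ≠ 1 ∧ bl (q k) (q l) ≠ -1 := by decide +kernel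

theorem qq_stab : ∀ k l, ∀ s : Fin 2,
    bl (q k) (q l) * ax (s, 0) = ax (s, 0) * bl (q k) (q l) ∨
    bl (q k) (q l) * ax (s, 0) = -(ax (s, 0) * bl (q k) (q l)) ∨
    bl (q k) (q l) * ax (s, 0) = ax (s, 0) * t4 * bl (q k) (q l) ∨
    bl (q k) (q l) * ax (s, 0) = -(ax (s, 0) * t4 * bl (q k) (q l)) := by decide +kernel

theorem qq_prod : ∀ p, ∃ k l k' l', bl (q k) (q l) * bl (q k') (q l') = ax p ∨
    bl (q k) (q l) * bl (q k') (q l') = -ax p ∨ bl (q k) (q l) * bl (q k') (q l') = ax p * t4 ∨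
    bl (q k) (q l) * bl (q k') (q l') = -(ax p * t4) := by decide +kernel

/-- The eight quaternion matrices. -/
def q8 : List M2 := [1, -1, q 0, -q 0, q 1, -q 1, q 2, -q 2]

theorem q8_shape : ∀ C ∈ q8, ∀ D ∈ q8, bl C D * bl C D = 1 ∨ bl C D * bl C D = -1 ∨
    ∃ r, bl C D = ax r ∨ bl C D = -ax r ∨ bl C D = ax r * t4 ∨ bl C D = -(ax r * t4) := by decide +kernel

theorem mem_q8 {A : M2} (h1 : A.det = 1) (h4 : A ^ 4 = 1) : A ∈ q8 := by
  rcases quat A h1 h4 with rfl | rfl | ⟨k, rfl | rfl⟩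
  · simp [q8]
  · simp [q8]
  · fin_cases k <;> simp [q8]
  · fin_cases k <;> simp [q8]

theorem delta_ax : ∀ s k, bl d2 d2 * ax (s, k) = ax (s, -k) * bl d2 d2 ∨
    bl d2 d2 * ax (s, k) = -(ax (s, -k) * bl d2 d2) ∨
    bl d2 d2 * ax (s, k) = ax (s, -k) * t4 * bl d2 d2 ∨
    bl d2 d2 * ax (s, k) = -(ax (s, -k) * t4 * bl d2 d2) := by decide +kernel

theorem sigma_ax : ∀ s : Fin 2, ∀ k, sg * ax (s, k) = ax (1 - s, k) * sg := by decide +kernel

theorem delta_facts : (bl d2 d2).det = 1 ∧ bl d2 d2 * bl d2 d2 = 1 ∧ bl d2 d2 * t4 * (bl d2 d2 * t4) = 1 ∧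
    bl d2 d2 ≠ 1 ∧ bl d2 d2 ≠ -1 ∧ bl d2 d2 ≠ t4 ∧ bl d2 d2 ≠ -t4 := by decide +kernel

theorem sigma_facts : sg.det = 1 ∧ sg * sg = 1 ∧ sg * t4 * (sg * t4) = -1 ∧
    sg ≠ 1 ∧ sg ≠ -1 ∧ sg ≠ t4 ∧ sg ≠ -t4 ∧ sg * t4 = -(t4 * sg) := by decide +kernel

theorem t4_facts : t4.det = 1 ∧ t4 * t4 = 1 ∧ t4 ≠ 1 ∧ t4 ≠ -1 := by decide +kernel

theorem x4_facts : x4.det = 1 ∧ x4 * x4 = -1 ∧ x4 ≠ 1 ∧ x4 ≠ -1 ∧ x4 * t4 = t4 * x4 ∧ up (fld 1 0) ≠ 1 ∧
    up (fld 1 0) ≠ -1 := by decide +kernel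

theorem one_ne_neg_one : (1 : M4) ≠ -1 ∧ (-1 : M2) ≠ 1 := by decide +kernel

theorem det_neg4 (M : M4) : (-M).det = M.det := by
  rw [Matrix.det_neg, Fintype.card_fin]
  norm_num

theorem ne_zero_of_det {M : M4} (h : M.det = 1) : M ≠ 0 := fun e => by
  rw [e, Matrix.det_zero] at h
  exact zero_ne_one h

theorem bl_eq_one {A B : M2} (h : bl A B = 1) : A = 1 ∧ B = 1 := bl_inj (h.trans bl_one.symm)

theorem bl_eq_neg_one {A B : M2} (h : bl A B = -1) : A = -1 ∧ B = -1 :=
  bl_inj (h.trans (by rw [← bl_one, bl_neg]))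

/-- An element of square `-1` is conjugate to `x4`. -/
theorem exists_conj_x4 {A B : M2} (hd : A.det * B.det = 1) {M : M4}
    (hM : M = bl A B ∨ M = bl A B * sg) (h2 : M * M = -1) :
    ∃ C : M4, C.det = 1 ∧ C * x4 = M * C := by
  rcases hM with rfl | rfl
  · rw [bl_mul] at h2
    obtain ⟨hA, hB⟩ := bl_eq_neg_one h2
    obtain ⟨P, hP, hPe⟩ := neg_conj A hA
    obtain ⟨Q, hQ, hQe⟩ := neg_conj B hB
    exact ⟨bl P Q, by rw [det_bl, hP, hQ, mul_one], by rw [x4, bl_mul, bl_mul, hPe, hQe]⟩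
  · rw [swap_swap] at h2
    obtain ⟨hAB, -⟩ := bl_eq_neg_one h2
    have hA : A.det = 1 ∨ A.det = -1 := by
      have key : ∀ x y : ZMod 3, x * y = 1 → x = 1 ∨ x = -1 := by decide
      exact key _ _ hd
    obtain ⟨D, hD, hDd, hDD⟩ : ∃ D ∈ ([1, d2] : List M2), D.det = A.det ∧ D * D = 1 := by
      rcases hA with h | h
      · exact ⟨1, by simp, by rw [h, Matrix.det_one], one_mul 1⟩
      · exact ⟨d2, by simp, by rw [h]; exact det_forms.2.1, by decide +kernel⟩
    obtain ⟨C, -, hC, hCe⟩ := reps_neg D hD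
    have hX : (bl 1 (D * A)).det = 1 := by
      rw [det_bl, Matrix.det_one, one_mul, Matrix.det_mul, hDd]
      rcases hA with h | h <;> rw [h] <;> decide
    have e : bl 1 (D * A) * (bl A B * sg) = bl D (-D) * sg * bl 1 (D * A) := by
      rw [← mul_assoc, bl_mul, one_mul, mul_assoc (bl D (-D)), sg_bl, ← mul_assoc, bl_mul, mul_one,
        ← mul_assoc D D, hDD, one_mul, mul_assoc, hAB, mul_neg, mul_one]
    have hU : IsUnit (bl 1 (D * A)).det := by rw [hX]; exact isUnit_one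
    refine ⟨(bl 1 (D * A))⁻¹ * C, ?_, ?_⟩
    · rw [Matrix.det_mul, Matrix.det_nonsing_inv, hX, hC, Ring.inverse_one, mul_one]
    · calc (bl 1 (D * A))⁻¹ * C * x4 = (bl 1 (D * A))⁻¹ * (bl D (-D) * sg * bl 1 (D * A)) *
            ((bl 1 (D * A))⁻¹ * C) := by
            rw [mul_assoc, hCe, mul_assoc _ (bl D (-D) * sg * bl 1 (D * A)),
              mul_assoc (bl D (-D) * sg), ← mul_assoc (bl 1 (D * A)), Matrix.mul_nonsing_inv _ hU,
              one_mul]
        _ = bl A B * sg * ((bl 1 (D * A))⁻¹ * C) := by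
            rw [← e, ← mul_assoc (bl 1 (D * A))⁻¹, Matrix.nonsing_inv_mul _ hU, one_mul]

/-! ### Images in the group -/

section

variable {G : Type u} [Group G] [Finite G] {E : Emb G} (F : Full E)

/-- A matrix of determinant one as an element of `SL4`. -/
def mkS (M : M4) (h : M.det = 1) : SL4 := ⟨M, h⟩

theorem mkS_mul {M N : M4} (hM : M.det = 1) (hN : N.det = 1) (h : (M * N).det = 1) :
    mkS (M * N) h = mkS M hM * mkS N hN := rfl

theorem mkS_one (h : (1 : M4).det = 1) : mkS 1 h = 1 := rfl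

open scoped Classical in
/-- The image of a matrix of determinant one. -/
noncomputable def im (M : M4) : G := if h : M.det = 1 then F.φ (mkS M h) else 1

theorem im_mk {M : M4} (h : M.det = 1) : im F M = F.φ (mkS M h) := by rw [im, dif_pos h]

theorem im_coe (g : SL4) : im F g.1 = F.φ g := im_mk F g.2

theorem im_mem (M : M4) : im F M ∈ F.φ.range := by
  unfold im
  split
  · exact ⟨_, rfl⟩
  · exact one_mem _

attribute [irreducible] im

theorem im_one : im F 1 = 1 := by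
  rw [im_mk F Matrix.det_one, mkS_one, map_one]

theorem im_mul {M N : M4} (hM : M.det = 1) (hN : N.det = 1) : im F (M * N) = im F M * im F N := by
  rw [im_mk F hM, im_mk F hN, im_mk F (show (M * N).det = 1 by rw [Matrix.det_mul, hM, hN, mul_one]),
    mkS_mul hM hN, map_mul]

theorem im_neg {M : M4} (hM : M.det = 1) : im F (-M) = im F M := by
  rw [show -M = -1 * M by rw [neg_one_mul], im_mul F (by rw [det_neg4, Matrix.det_one]) hM,
    im_mk F (M := -1) (by rw [det_neg4, Matrix.det_one]),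
    (F.ker (mkS (-1) _)).2 (Or.inr rfl), one_mul]

theorem im_eq {M N : M4} (hM : M.det = 1) (hN : N.det = 1) (h : im F M = im F N) : M = N ∨ M = -N := by
  rw [im_mk F hM, im_mk F hN] at h
  exact F.eq_sign h

theorem im_eq_of {M N : M4} (hN : N.det = 1) (h : M = N ∨ M = -N) : im F M = im F N := by
  rcases h with rfl | rfl
  · rfl
  · exact im_neg F hN

theorem im_conj {C M N : M4} (hC : C.det = 1) (hM : M.det = 1) (hN : N.det = 1) (h : C * M = N * C) :
    im F N = im F C * im F M * (im F C)⁻¹ := by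
  rw [← im_mul F hC hM, h, im_mul F hN hC, mul_inv_cancel_right]

theorem im_ne_one {M : M4} (hM : M.det = 1) (h1 : M ≠ 1) (h2 : M ≠ -1) : im F M ≠ 1 := fun e => by
  rcases im_eq F hM Matrix.det_one (e.trans (im_one F).symm) with h | h
  · exact h1 h
  · exact h2 h

/-- The involution. -/
noncomputable abbrev tt : G := im F t4

theorem tt_eq : tt F = F.φ (tm : SL4) := by rw [← im_coe, tm_eq]

theorem tt_sq : tt F * tt F = 1 := by rw [← im_mul F t4_facts.1 t4_facts.1, t4_facts.2.1, im_one]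

theorem tt_inv : (tt F)⁻¹ = tt F := inv_eq_of_mul_eq_one_right (tt_sq F)

theorem tt_ne_one : tt F ≠ 1 := im_ne_one F t4_facts.1 t4_facts.2.2.1 t4_facts.2.2.2

/-- Its centraliser. -/
noncomputable abbrev CW : Subgroup G := centralizer ({tt F} : Set G)

theorem mem_CW {x : G} : x ∈ CW F ↔ x * tt F = tt F * x := mem_centralizer_singleton_iff

theorem tt_mem : tt F ∈ CW F := (mem_CW F).2 rfl

theorem conj_tt {x : G} (hx : x ∈ CW F) : x * tt F * x⁻¹ = tt F := by
  rw [(mem_CW F).1 hx, mul_inv_cancel_right]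

theorem im_CW {M : M4} (hM : M.det = 1) (h : M * t4 = t4 * M ∨ M * t4 = -(t4 * M)) : im F M ∈ CW F := by
  rw [mem_CW, ← im_mul F hM t4_facts.1, ← im_mul F t4_facts.1 hM]
  exact im_eq_of F (by rw [Matrix.det_mul, hM, t4_facts.1, mul_one]) h

/-- Block elements. -/
def Str (x : G) : Prop := ∃ A B : M2, A.det * B.det = 1 ∧ x = im F (bl A B)

/-- Elements exchanging the two blocks. -/
def Swp (x : G) : Prop := ∃ A B : M2, A.det * B.det = 1 ∧ x = im F (bl A B * sg)

theorem det_sw {A B : M2} (h : A.det * B.det = 1) : (bl A B * sg).det = 1 := by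
  rw [Matrix.det_mul, det_bl, h, det_sg, mul_one]

theorem det_st {A B : M2} (h : A.det * B.det = 1) : (bl A B).det = 1 := by rw [det_bl, h]

theorem cases_mem {x : G} (hx : x ∈ CW F) (hr : x ∈ F.φ.range) : Str F x ∨ Swp F x := by
  obtain ⟨g, rfl⟩ := hr
  have hg : g.1 * t4 = t4 * g.1 ∨ g.1 * t4 = -(t4 * g.1) := by
    refine im_eq F (by rw [Matrix.det_mul, g.2, t4_facts.1, mul_one])
      (by rw [Matrix.det_mul, g.2, t4_facts.1, mul_one]) ?_
    rw [im_mul F g.2 t4_facts.1, im_mul F t4_facts.1 g.2, im_coe]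
    exact (mem_CW F).1 hx
  obtain ⟨A, B, h | h⟩ := t4_shape hg
  · exact Or.inl ⟨A, B, by rw [← det_bl, ← h]; exact g.2, by rw [← h, im_coe]⟩
  · refine Or.inr ⟨A, B, ?_, by rw [← h, im_coe]⟩
    have := g.2
    rwa [h, Matrix.det_mul, det_bl, det_sg, mul_one] at this

theorem Str.mem {x : G} (h : Str F x) : x ∈ CW F := by
  obtain ⟨A, B, hd, rfl⟩ := h
  exact im_CW F (det_st hd) (Or.inl (bl_t4 A B))

theorem Swp.mem {x : G} (h : Swp F x) : x ∈ CW F := by
  obtain ⟨A, B, hd, rfl⟩ := h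
  exact im_CW F (det_sw hd) (Or.inr (swap_t4 A B))

theorem not_both {x : G} (h : Str F x) (h' : Swp F x) : False := by
  obtain ⟨A, B, hd, rfl⟩ := h
  obtain ⟨C, D, hd', he⟩ := h'
  have key : ∀ M : M4, M.det = 1 → M * t4 = t4 * M → M * t4 = -(t4 * M) → False := by
    intro M hM h1 h2
    refine ne_zero_of_det (M := t4 * M) (by rw [Matrix.det_mul, hM, t4_facts.1, mul_one]) ?_
    have h3 : t4 * M = -(t4 * M) := h1.symm.trans h2
    have key3 : ∀ a : ZMod 3, a = -a → a = 0 := by decide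
    ext i j
    exact key3 _ (congrFun (congrFun h3 i) j)
  rcases im_eq F (det_st hd) (det_sw hd') he with e | e
  · exact key _ (det_st hd) (bl_t4 A B) (by rw [e]; exact swap_t4 C D)
  · refine key _ (det_st hd) (bl_t4 A B) ?_
    rw [e, neg_mul, swap_t4, mul_neg]

theorem Str.mul {x y : G} (hx : Str F x) (hy : Str F y) : Str F (x * y) := by
  obtain ⟨A, B, hd, rfl⟩ := hx
  obtain ⟨C, D, hd', rfl⟩ := hy
  refine ⟨A * C, B * D, ?_, by rw [← bl_mul, im_mul F (det_st hd) (det_st hd')]⟩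
  rw [Matrix.det_mul, Matrix.det_mul, mul_mul_mul_comm, hd, hd', mul_one]

theorem Str.mul_swp {x y : G} (hx : Str F x) (hy : Swp F y) : Swp F (x * y) := by
  obtain ⟨A, B, hd, rfl⟩ := hx
  obtain ⟨C, D, hd', rfl⟩ := hy
  refine ⟨A * C, B * D, ?_, by rw [← bl_mul, mul_assoc, im_mul F (det_st hd) (det_sw hd')]⟩
  rw [Matrix.det_mul, Matrix.det_mul, mul_mul_mul_comm, hd, hd', mul_one]

theorem Swp.mul_str {x y : G} (hx : Swp F x) (hy : Str F y) : Swp F (x * y) := by
  obtain ⟨A, B, hd, rfl⟩ := hx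
  obtain ⟨C, D, hd', rfl⟩ := hy
  refine ⟨A * D, B * C, ?_, ?_⟩
  · rw [Matrix.det_mul, Matrix.det_mul, mul_mul_mul_comm, hd, mul_comm D.det, hd', mul_one]
  · rw [← bl_mul, mul_assoc, ← sg_bl C D, ← mul_assoc, im_mul F (det_sw hd) (det_st hd')]

theorem Swp.mul {x y : G} (hx : Swp F x) (hy : Swp F y) : Str F (x * y) := by
  obtain ⟨A, B, hd, rfl⟩ := hx
  obtain ⟨C, D, hd', rfl⟩ := hy
  refine ⟨A * D, B * C, ?_, ?_⟩
  · rw [Matrix.det_mul, Matrix.det_mul, mul_mul_mul_comm, hd, mul_comm D.det, hd', mul_one]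
  · rw [← im_mul F (det_sw hd) (det_sw hd'), swap_swap]

theorem Str.one : Str F 1 := ⟨1, 1, by simp, by rw [bl_one, im_one]⟩

theorem str_tt : Str F (tt F) := ⟨1, -1, by decide +kernel, rfl⟩

theorem str_delta : Str F (im F (bl d2 d2)) := ⟨d2, d2, by decide +kernel, rfl⟩

theorem swp_sigma : Swp F (im F sg) := ⟨1, 1, by simp, by rw [bl_one, one_mul]⟩

/-! ### Elements of order three -/

/-- The group of order nine. -/
noncomputable def E0 : Subgroup G where
  carrier := {x | ∃ a b, x = im F (eM a b)}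
  one_mem' := ⟨0, 0, by rw [eM_facts.2.1, im_one]⟩
  mul_mem' := by
    rintro _ _ ⟨a, b, rfl⟩ ⟨c, d, rfl⟩
    exact ⟨a + c, b + d, by rw [← im_mul F (eM_facts.1 a b) (eM_facts.1 c d), eM_mul]⟩
  inv_mem' := by
    rintro _ ⟨a, b, rfl⟩
    refine ⟨-a, -b, inv_eq_of_mul_eq_one_right ?_⟩
    rw [← im_mul F (eM_facts.1 a b) (eM_facts.1 _ _), eM_mul, add_neg_cancel, add_neg_cancel,
      eM_facts.2.1, im_one]

theorem mem_E0 {x : G} : x ∈ E0 F ↔ ∃ a b, x = im F (eM a b) := Iff.rfl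

theorem str_E0 {x : G} (h : x ∈ E0 F) : Str F x := by
  obtain ⟨a, b, rfl⟩ := h
  exact ⟨_, _, by rw [(U2_pow_ne a).2, (U2_pow_ne b).2, mul_one], rfl⟩

theorem E0_range : E0 F ≤ F.φ.range := by
  rintro _ ⟨a, b, rfl⟩
  exact im_mem F _

theorem z_eq : E.z = im F (eM 1 0) := by
  rw [eM_facts.2.2.1, ← zm_eq, im_coe, F.φ_eq]

theorem z_mem : E.z ∈ E0 F := ⟨1, 0, z_eq F⟩

theorem E0_comm {x y : G} (hx : x ∈ E0 F) (hy : y ∈ E0 F) : x * y = y * x := by
  obtain ⟨a, b, rfl⟩ := hx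
  obtain ⟨c, d, rfl⟩ := hy
  rw [← im_mul F (eM_facts.1 a b) (eM_facts.1 c d), eM_mul, add_comm a, add_comm b, ← eM_mul,
    im_mul F (eM_facts.1 c d) (eM_facts.1 a b)]

theorem E0_cube {x : G} (hx : x ∈ E0 F) : x ^ 3 = 1 := by
  obtain ⟨a, b, rfl⟩ := hx
  rw [pow_succ, pow_two, ← im_mul F (eM_facts.1 a b) (eM_facts.1 a b),
    ← im_mul F (by rw [Matrix.det_mul, eM_facts.1, one_mul]) (eM_facts.1 a b), eM_cube, im_one]

theorem card_E0 : Nat.card (E0 F) = 9 := by
  rw [show (9 : ℕ) = Nat.card (Fin 3 × Fin 3) by simp]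
  refine (Nat.card_congr (Equiv.ofBijective
    (fun p : Fin 3 × Fin 3 => (⟨_, p.1, p.2, rfl⟩ : E0 F)) ⟨?_, ?_⟩)).symm
  · rintro ⟨a, b⟩ ⟨c, d⟩ h
    obtain ⟨h1, h2⟩ := eM_inj a b c d (im_eq F (eM_facts.1 a b) (eM_facts.1 c d) (congrArg Subtype.val h))
    exact Prod.ext h1 h2
  · rintro ⟨_, a, b, rfl⟩
    exact ⟨(a, b), rfl⟩

theorem sigma_norm {x : G} (hx : x ∈ E0 F) : im F sg * x * (im F sg)⁻¹ ∈ E0 F := by
  obtain ⟨a, b, rfl⟩ := hx
  exact ⟨b, a, (im_conj F det_sg (eM_facts.1 a b) (eM_facts.1 b a) (eM_sg a b)).symm⟩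

theorem sigma_normalizer : im F sg ∈ normalizer (E0 F : Set G) := by
  rw [mem_normalizer_iff]
  refine fun y => ⟨fun h => sigma_norm F h, fun h => ?_⟩
  have h1 := sigma_norm F h
  have hs : im F sg * im F sg = 1 := by rw [← im_mul F det_sg det_sg, sg_sq, im_one]
  rw [inv_eq_of_mul_eq_one_right hs, ← mul_assoc, ← mul_assoc, hs, one_mul, mul_assoc, hs, mul_one] at h1
  exact h1

/-- A block element normalising the group of order nine. -/
theorem norm_str {n : G} (hn : n ∈ normalizer (E0 F : Set G)) (hs : Str F n) :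
    ∃ e ∈ E0 F, ∃ D ∈ tor, n = e * im F D := by
  obtain ⟨A, B, hd, rfl⟩ := hs
  have key : ∀ a b : Fin 3, im F (bl A B) * im F (eM a b) * (im F (bl A B))⁻¹ ∈ E0 F :=
    fun a b => (mem_normalizer_iff.1 hn _).1 ⟨a, b, rfl⟩
  have hAd : A.det ≠ 0 := fun e => by rw [e, zero_mul] at hd; exact zero_ne_one hd
  have hBd : B.det ≠ 0 := fun e => by rw [e, mul_zero] at hd; exact zero_ne_one hd
  have cancel : ∀ (X : M2), X.det ≠ 0 → ∀ c : Fin 3, X = -(U2 ^ (c : ℕ) * X) → False := by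
    intro X hX c h
    refine (U2_pow_ne c).1 ?_
    have hU : IsUnit X.det := isUnit_iff_ne_zero.2 hX
    calc U2 ^ (c : ℕ) = U2 ^ (c : ℕ) * X * X⁻¹ := by rw [mul_assoc, Matrix.mul_nonsing_inv _ hU, mul_one]
      _ = -X * X⁻¹ := by rw [neg_eq_iff_eq_neg.1 h.symm]
      _ = -1 := by rw [neg_mul, Matrix.mul_nonsing_inv _ hU]
  have step : ∀ a b : Fin 3, ∃ c d : Fin 3, bl A B * eM a b = eM c d * bl A B ∨
      bl A B * eM a b = -(eM c d * bl A B) := by
    intro a b
    obtain ⟨c, d, h⟩ := key a b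
    refine ⟨c, d, im_eq F (by rw [Matrix.det_mul, det_st hd, eM_facts.1, mul_one])
      (by rw [Matrix.det_mul, det_st hd, eM_facts.1, mul_one]) ?_⟩
    rw [im_mul F (det_st hd) (eM_facts.1 a b), im_mul F (eM_facts.1 c d) (det_st hd), ← h,
      inv_mul_cancel_right]
  obtain ⟨a, b, h1⟩ := step 1 0
  obtain ⟨a', b', h2⟩ := step 0 1
  rw [eM_facts.2.2.1, eM, bl_mul, bl_mul, mul_one, bl_neg] at h1
  rw [eM_facts.2.2.2, eM, bl_mul, bl_mul, mul_one, bl_neg] at h2
  rcases h1 with h1 | h1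
  swap
  · exact (cancel B hBd b (bl_inj h1).2).elim
  rcases h2 with h2 | h2
  swap
  · exact (cancel A hAd a' (bl_inj h2).1).elim
  obtain ⟨r, hr⟩ := tri hAd (bl_inj h1).1
  obtain ⟨s, hs⟩ := tri hBd (bl_inj h2).2
  obtain ⟨D, hD, hDe⟩ := tor_sign r s A (by simpa using hr) B (by simpa using hs) hd
  refine ⟨_, ⟨r, s, rfl⟩, D, hD, ?_⟩
  rw [← im_mul F (eM_facts.1 r s) (tor_facts D hD).1]
  exact im_eq_of F (by rw [Matrix.det_mul, eM_facts.1, (tor_facts D hD).1, mul_one]) hDe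

theorem tor_norm {D : M4} (hD : D ∈ tor) :
    (∀ e ∈ E0 F, im F D * e * (im F D)⁻¹ = e) ∨ ∀ e ∈ E0 F, im F D * e * (im F D)⁻¹ = e⁻¹ := by
  obtain ⟨hd, -, -, h | h⟩ := tor_facts D hD
  · left
    rintro _ ⟨a, b, rfl⟩
    exact (im_conj F hd (eM_facts.1 a b) (eM_facts.1 a b) (h a b)).symm
  · right
    rintro _ ⟨a, b, rfl⟩
    refine (im_conj F hd (eM_facts.1 a b) (eM_facts.1 _ _) (h a b)).symm.trans ?_
    refine eq_inv_of_mul_eq_one_left ?_
    rw [← im_mul F (eM_facts.1 _ _) (eM_facts.1 a b), eM_mul, neg_add_cancel, neg_add_cancel,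
      eM_facts.2.1, im_one]

/-! ### The six axes -/

/-- An axis. -/
noncomputable abbrev X (p : Fin 2 × Fin 3) : G := im F (ax p)

theorem X_mem (p : Fin 2 × Fin 3) : X F p ∈ CW F := im_CW F (ax_facts p).1 (Or.inl (ax_facts p).2.2)

theorem X_tt (p : Fin 2 × Fin 3) : X F p * tt F = tt F * X F p := (mem_CW F).1 (X_mem F p)

/-- `n` carries the axis `p` to the axis `r`. -/
def Img (n : G) (p r : Fin 2 × Fin 3) : Prop := n * X F p * n⁻¹ = X F r ∨ n * X F p * n⁻¹ = X F r * tt F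

theorem axis_inj {p r : Fin 2 × Fin 3} (h : X F p = X F r ∨ X F p = X F r * tt F) : p = r := by
  by_contra hne
  obtain ⟨h1, h2, h3, h4⟩ := ax_ne p r hne
  rcases h with h | h
  · rcases im_eq F (ax_facts p).1 (ax_facts r).1 h with e | e
    · exact h1 e
    · exact h2 e
  · rw [← im_mul F (ax_facts r).1 t4_facts.1] at h
    rcases im_eq F (ax_facts p).1 (by rw [Matrix.det_mul, (ax_facts r).1, t4_facts.1, mul_one]) h with e | e
    · exact h3 e
    · exact h4 e

theorem Img.unique {n : G} {p r r' : Fin 2 × Fin 3} (h : Img F n p r) (h' : Img F n p r') : r = r' := by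
  refine axis_inj F ?_
  rcases h with h | h <;> rcases h' with h' | h'
  · exact Or.inl (h.symm.trans h')
  · exact Or.inr (h.symm.trans h')
  · refine Or.inr ?_
    rw [← h', h, mul_assoc, tt_sq, mul_one]
  · exact Or.inl (mul_right_cancel (h.symm.trans h'))

theorem Img.comp {m n : G} {p r s : Fin 2 × Fin 3} (hm : m ∈ CW F) (hn : Img F n p r) (h : Img F m r s) :
    Img F (m * n) p s := by
  have e : m * n * X F p * (m * n)⁻¹ = m * (n * X F p * n⁻¹) * m⁻¹ := by group
  rw [Img, e]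
  rcases hn with hn | hn <;> rw [hn]
  · exact h
  · have e2 : m * (X F r * tt F) * m⁻¹ = (m * X F r * m⁻¹) * tt F := by
      calc m * (X F r * tt F) * m⁻¹ = (m * X F r * m⁻¹) * (m * tt F * m⁻¹) := by group
        _ = _ := by rw [conj_tt F hm]
    rw [e2]
    rcases h with h | h <;> rw [h]
    · exact Or.inr rfl
    · exact Or.inl (by rw [mul_assoc, tt_sq, mul_one])

theorem Img.inv {n : G} {p r : Fin 2 × Fin 3} (hn : n ∈ CW F) (h : Img F n p r) : Img F n⁻¹ r p := by
  have ht := conj_tt F (inv_mem hn)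
  rw [inv_inv] at ht
  rcases h with h | h
  · exact Or.inl (by rw [← h, inv_inv]; group)
  · refine Or.inr ?_
    have e : X F r = n * X F p * n⁻¹ * tt F := by rw [h, mul_assoc, tt_sq, mul_one]
    rw [e, inv_inv]
    calc n⁻¹ * (n * X F p * n⁻¹ * tt F) * n = X F p * (n⁻¹ * tt F * n) := by group
      _ = _ := by rw [ht]

theorem Img.one (p : Fin 2 × Fin 3) : Img F 1 p p := Or.inl (by group)

theorem Img.inj {n : G} {p p' r : Fin 2 × Fin 3} (hn : n ∈ CW F) (h : Img F n p r) (h' : Img F n p' r) :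
    p = p' := (h.inv F hn).unique F (h'.inv F hn)

theorem Img.adj {n : G} {p r p' r' : Fin 2 × Fin 3} (hn : n ∈ CW F) (h : Img F n p p') (h' : Img F n r r')
    (hpr : Adj p r) : Adj p' r' := by
  by_contra hna
  have hc : X F p' * X F r' = X F r' * X F p' := by
    rw [← im_mul F (ax_facts _).1 (ax_facts _).1, ← im_mul F (ax_facts _).1 (ax_facts _).1,
      (ax_comm p' r').1 hna]
  have hC : ∀ {s s' : Fin 2 × Fin 3}, Img F n s s' → ∀ y : G, y * tt F = tt F * y →
      y * X F s' = X F s' * y → y * (n * X F s * n⁻¹) = (n * X F s * n⁻¹) * y := by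
    intro s s' hs y hy hy'
    rcases hs with e | e <;> rw [e]
    · exact hy'
    · rw [← mul_assoc, hy', mul_assoc, hy, ← mul_assoc]
  have h1 : n * X F p * n⁻¹ * X F r' = X F r' * (n * X F p * n⁻¹) :=
    (hC h (X F r') (X_tt F r') hc.symm).symm
  have h2 := hC h' (n * X F p * n⁻¹) ((mem_CW F).1 (mul_mem (mul_mem hn (X_mem F p)) (inv_mem hn))) h1
  have h3 : X F p * X F r = X F r * X F p := by
    have h4 := congrArg (fun w => n⁻¹ * w * n) h2
    simpa [mul_assoc] using h4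
  rw [← im_mul F (ax_facts _).1 (ax_facts _).1, ← im_mul F (ax_facts _).1 (ax_facts _).1] at h3
  obtain ⟨ha, hb⟩ := (ax_comm p r).2 hpr
  rcases im_eq F (by rw [Matrix.det_mul, (ax_facts p).1, (ax_facts r).1, mul_one])
    (by rw [Matrix.det_mul, (ax_facts p).1, (ax_facts r).1, mul_one]) h3 with e | e
  · exact ha e
  · exact hb e

theorem img_of_mat {M : M4} (hM : M.det = 1) {p r : Fin 2 × Fin 3}
    (h : M * ax p = ax r * M ∨ M * ax p = -(ax r * M) ∨ M * ax p = ax r * t4 * M ∨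
      M * ax p = -(ax r * t4 * M)) : Img F (im F M) p r := by
  have hr : (ax r).det = 1 := (ax_facts r).1
  have hrt : (ax r * t4).det = 1 := by rw [Matrix.det_mul, hr, t4_facts.1, mul_one]
  have go : ∀ N : M4, N.det = 1 → (M * ax p = N * M ∨ M * ax p = -(N * M)) →
      im F M * X F p * (im F M)⁻¹ = im F N := fun N hN hh => by
    rw [← im_mul F hM (ax_facts p).1, im_eq_of F (by rw [Matrix.det_mul, hN, hM, mul_one]) hh,
      im_mul F hN hM, mul_inv_cancel_right]
  rcases h with h | h | h | h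
  · exact Or.inl (go _ hr (Or.inl h))
  · exact Or.inl (go _ hr (Or.inr h))
  · exact Or.inr ((go _ hrt (Or.inl h)).trans (im_mul F hr t4_facts.1))
  · exact Or.inr ((go _ hrt (Or.inr h)).trans (im_mul F hr t4_facts.1))

theorem img_E0 (a b : Fin 3) (p : Fin 2 × Fin 3) : Img F (im F (eM a b)) p (trans a b p) :=
  img_of_mat F (eM_facts.1 a b) (Or.inl (trans_ax a b p))

/-- The elements fixing all six axes. -/
noncomputable def Kp : Subgroup G where
  carrier := {w | w ∈ CW F ∧ ∀ p, Img F w p p}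
  one_mem' := ⟨one_mem _, Img.one F⟩
  mul_mem' := fun ha hb => ⟨mul_mem ha.1 hb.1, fun p => (hb.2 p).comp F ha.1 (ha.2 p)⟩
  inv_mem' := fun ha => ⟨inv_mem ha.1, fun p => (ha.2 p).inv F ha.1⟩

/-- The elements of `W` stabilising the two basic axes, inside the image. -/
noncomputable def T : Subgroup G where
  carrier := {n | n ∈ CW F ∧ n ∈ F.φ.range ∧ ∀ s : Fin 2, ∃ s', Img F n (s, 0) (s', 0)}
  one_mem' := ⟨one_mem _, one_mem _, fun s => ⟨s, Img.one F _⟩⟩
  mul_mem' := fun {a b} ha hb => ⟨mul_mem ha.1 hb.1, mul_mem ha.2.1 hb.2.1, fun s => by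
    obtain ⟨s', h⟩ := hb.2.2 s
    obtain ⟨s'', h'⟩ := ha.2.2 s'
    exact ⟨s'', h.comp F ha.1 h'⟩⟩
  inv_mem' := fun {a} ha => ⟨inv_mem ha.1, inv_mem ha.2.1, fun s => by
    choose f hf using ha.2.2
    have hinj : Function.Injective f := fun i j e =>
      congrArg Prod.fst (Img.inj F ha.1 (hf i) (e ▸ hf j))
    obtain ⟨s', hs'⟩ := (Finite.injective_iff_surjective.1 hinj) s
    exact ⟨s', (hs' ▸ hf s').inv F ha.1⟩⟩

theorem tt_T : tt F ∈ T F := by
  refine ⟨tt_mem F, im_mem F _, fun s => ⟨s, Or.inl ?_⟩⟩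
  rw [← X_tt, mul_inv_cancel_right]

theorem qq_T (k l : Fin 3) : im F (bl (q k) (q l)) ∈ T F :=
  ⟨im_CW F (qq_facts k l).1 (Or.inl (bl_t4 _ _)), im_mem F _,
    fun s => ⟨s, img_of_mat F (qq_facts k l).1 (qq_stab k l s)⟩⟩

theorem delta_T : im F (bl d2 d2) ∈ T F := by
  refine ⟨(str_delta F).mem F, im_mem F _, fun s => ⟨s, ?_⟩⟩
  have := img_of_mat F delta_facts.1 (delta_ax s 0)
  rwa [neg_zero] at this

theorem sigma_T : im F sg ∈ T F :=
  ⟨(swp_sigma F).mem F, im_mem F _, fun s => ⟨1 - s, img_of_mat F det_sg (Or.inl (sigma_ax s 0))⟩⟩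

theorem str_pow8 {n : G} (hn : n ∈ T F) (hs : Str F n) : n ^ 8 = 1 := by
  obtain ⟨A, B, hd, rfl⟩ := hs
  have hM := det_st hd
  have hAd : A.det ≠ 0 := fun e => by rw [e, zero_mul] at hd; exact zero_ne_one hd
  have hBd : B.det ≠ 0 := fun e => by rw [e, mul_zero] at hd; exact zero_ne_one hd
  have canc : ∀ Y : M2, Y.det ≠ 0 → (Y = i2 * Y → i2 = 1) ∧ (Y = -(i2 * Y) → i2 = -1) := by
    intro Y hY
    have hU : IsUnit Y.det := isUnit_iff_ne_zero.2 hY
    refine ⟨fun h => ?_, fun h => ?_⟩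
    · calc i2 = i2 * Y * Y⁻¹ := by rw [mul_assoc, Matrix.mul_nonsing_inv _ hU, mul_one]
        _ = Y * Y⁻¹ := by rw [← h]
        _ = 1 := Matrix.mul_nonsing_inv _ hU
    · calc i2 = i2 * Y * Y⁻¹ := by rw [mul_assoc, Matrix.mul_nonsing_inv _ hU, mul_one]
        _ = -Y * Y⁻¹ := by rw [neg_eq_iff_eq_neg.1 h.symm]
        _ = -1 := by rw [neg_mul, Matrix.mul_nonsing_inv _ hU]
  obtain ⟨hi1, hi2⟩ := i2_facts
  have mat : ∀ {p r}, Img F (im F (bl A B)) p r → ∃ N : M4, (N = ax r ∨ N = ax r * t4) ∧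
      (bl A B * ax p = N * bl A B ∨ bl A B * ax p = -(N * bl A B)) := by
    intro p r h
    rcases h with h | h
    · refine ⟨_, Or.inl rfl, im_eq F (by rw [Matrix.det_mul, hM, (ax_facts p).1, mul_one])
        (by rw [Matrix.det_mul, hM, (ax_facts r).1, mul_one]) ?_⟩
      rw [im_mul F hM (ax_facts p).1, im_mul F (ax_facts r).1 hM]
      exact mul_inv_eq_iff_eq_mul.1 h
    · refine ⟨_, Or.inr rfl, im_eq F (by rw [Matrix.det_mul, hM, (ax_facts p).1, mul_one])
        (by rw [Matrix.det_mul, Matrix.det_mul, hM, (ax_facts r).1, t4_facts.1, mul_one, mul_one]) ?_⟩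
      rw [im_mul F hM (ax_facts p).1, im_mul F (by rw [Matrix.det_mul, (ax_facts r).1, t4_facts.1, mul_one]) hM,
        im_mul F (ax_facts r).1 t4_facts.1]
      exact mul_inv_eq_iff_eq_mul.1 h
  have two : ∀ s : Fin 2, s = 0 ∨ s = 1 := by decide
  obtain ⟨s0, h0⟩ := hn.2.2 0
  obtain ⟨s1, h1⟩ := hn.2.2 1
  obtain ⟨N0, hN0, e0⟩ := mat h0
  obtain ⟨N1, hN1, e1⟩ := mat h1
  have hA : A * i2 = i2 * A ∨ A * i2 = -i2 * A := by
    rcases two s0 with rfl | rfl
    · rcases hN0 with rfl | rfl <;>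
        simp only [ax_zero.1, t4, bl_mul, bl_neg, mul_one, one_mul, mul_neg, neg_mul, neg_neg] at e0 <;>
        rcases e0 with e | e <;> obtain ⟨ea, -⟩ := bl_inj e <;>
        first
          | exact Or.inl ea
          | exact Or.inr (ea.trans (neg_mul _ _).symm)
    · exfalso
      rcases hN0 with rfl | rfl <;>
        simp only [ax_zero.1, ax_zero.2, t4, bl_mul, bl_neg, mul_one, one_mul, mul_neg, neg_mul, neg_neg] at e0 <;>
        rcases e0 with e | e <;> obtain ⟨-, eb⟩ := bl_inj e <;>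
        first
          | exact hi1 ((canc B hBd).1 eb)
          | exact hi2 ((canc B hBd).2 eb)
  have hB : B * i2 = i2 * B ∨ B * i2 = -i2 * B := by
    rcases two s1 with rfl | rfl
    · exfalso
      rcases hN1 with rfl | rfl <;>
        simp only [ax_zero.1, ax_zero.2, t4, bl_mul, bl_neg, mul_one, one_mul, mul_neg, neg_mul, neg_neg] at e1 <;>
        rcases e1 with e | e <;> obtain ⟨ea, -⟩ := bl_inj e <;>
        first
          | exact hi1 ((canc A hAd).1 ea)
          | exact hi2 ((canc A hAd).2 ea)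
    · rcases hN1 with rfl | rfl <;>
        simp only [ax_zero.2, t4, bl_mul, bl_neg, mul_one, one_mul, mul_neg, neg_mul, neg_neg] at e1 <;>
        rcases e1 with e | e <;> obtain ⟨-, eb⟩ := bl_inj e <;>
        first
          | exact Or.inl eb
          | exact Or.inr (eb.trans (neg_mul _ _).symm)
  have hA8 := (i2_stab A hAd hA).1
  have hB8 := (i2_stab B hBd hB).1
  have hpow : ∀ m : ℕ, im F (bl A B) ^ m = im F (bl (A ^ m) (B ^ m)) := by
    intro m
    induction m with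
    | zero => rw [pow_zero, pow_zero, pow_zero, bl_one, im_one]
    | succ m ih =>
      rw [pow_succ, ih, pow_succ A, pow_succ B, ← bl_mul,
        im_mul F (by rw [det_bl, Matrix.det_pow, Matrix.det_pow, ← mul_pow, hd, one_pow]) hM]
  rw [hpow, hA8, hB8, bl_one, im_one]

theorem isPGroup_T : IsPGroup 2 (T F) := by
  rintro ⟨n, hn⟩
  refine ⟨4, Subtype.ext ?_⟩
  show n ^ (2 ^ 4) = 1
  have h2 : Str F (n * n) := by
    rcases cases_mem F hn.1 hn.2.1 with h | h
    · exact h.mul F h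
    · exact h.mul F h
  rw [show (2 : ℕ) ^ 4 = 2 * 8 by norm_num, pow_mul, pow_two]
  exact str_pow8 F (mul_mem hn hn) h2

end

section

variable {G : Type u} [Group G] [Finite G] {E : Emb G} (F : Full E)
  (hz : ∀ g, g * E.z * g⁻¹ ∈ F.φ.range → g ∈ F.φ.range)
  (hw : ∀ c : ZMod 3, c ≠ 0 → centralizer ({F.φ (wm c : SL4)} : Set G) ≤ F.φ.range)

include hz hw

theorem cent_E0 {e : G} (he : e ∈ E0 F) (h1 : e ≠ 1) : centralizer ({e} : Set G) ≤ F.φ.range := by
  obtain ⟨a, b, rfl⟩ := he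
  have hab : (a, b) ≠ (0, 0) := by
    intro h
    obtain ⟨rfl, rfl⟩ := Prod.ext_iff.1 h
    exact h1 (by rw [eM_facts.2.1, im_one])
  have conj : ∀ {c y : G}, c ∈ F.φ.range → centralizer ({y} : Set G) ≤ F.φ.range →
      centralizer ({c * y * c⁻¹} : Set G) ≤ F.φ.range := by
    intro c y hc hy g hg
    have h2 : c⁻¹ * g * c ∈ centralizer ({y} : Set G) := by
      rw [mem_centralizer_singleton_iff]
      have h3 : g * (c * y * c⁻¹) = (c * y * c⁻¹) * g := mem_centralizer_singleton_iff.1 hg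
      calc c⁻¹ * g * c * y = c⁻¹ * (g * (c * y * c⁻¹)) * c := by group
        _ = y * (c⁻¹ * g * c) := by rw [h3]; group
    have h4 := mul_mem (mul_mem hc (hy h2)) (inv_mem hc)
    rwa [← mul_assoc, ← mul_assoc, mul_inv_cancel, one_mul, mul_inv_cancel_right] at h4
  have h0 : centralizer ({im F (tg 0)} : Set G) ≤ F.φ.range := by
    rw [← tg_eq.1, im_coe, F.φ_eq]
    exact E.cent.trans F.range_le
  have htg : ∀ m, centralizer ({im F (tg m)} : Set G) ≤ F.φ.range := by
    intro m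
    fin_cases m
    · exact h0
    · have h0d : (tg 0).det = 1 := by decide +kernel
      have h1d : (tg 1).det = 1 := by decide +kernel
      show centralizer ({im F (tg 1)} : Set G) ≤ _
      rw [im_conj F cf_facts.1 h0d h1d cf_facts.2]
      exact conj (im_mem F _) h0
    · show centralizer ({im F (tg 2)} : Set G) ≤ _
      rw [← tg_eq.2.2.1, im_coe]
      exact hw 1 one_ne_zero
    · show centralizer ({im F (tg 3)} : Set G) ≤ _
      rw [← tg_eq.2.2.2, im_coe]
      exact hw 2 (by decide)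
  have htd : (tg (sel a b).2).det = 1 := by
    have : ∀ m, (tg m).det = 1 := by decide +kernel
    exact this _
  show centralizer ({im F (eM a b)} : Set G) ≤ _
  rw [im_conj F (cj_det _) htd (eM_facts.1 a b) (e_conj a b hab)]
  exact conj (im_mem F _) (htg _)

theorem fix_E0 {e : G} (he : e ∈ E0 F) (h1 : e ≠ 1) : Fin4.Fix F.φ.range e :=
  E.fix_three F.range_le hz (E0_cube F he) (cent_E0 F hz hw he h1)

/-- The configuration of `CentTCore`. -/
theorem cfg : Cfg (CW F) F.φ.range (E0 F) where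
  le := fun _ hx => (str_E0 F hx).mem F
  comm := fun _ ha _ hb => E0_comm F ha hb
  card := card_E0 F
  exp := fun _ he => E0_cube F he
  cent := fun _ he h1 => inf_le_left.trans (cent_E0 F hz hw he h1)
  norm := fun n hn => hz n (E0_range F ((mem_normalizer_iff.1 hn.1 _).1 (z_mem F)))
  self := by
    intro n hn k hk
    have hr : n ∈ F.φ.range := hz n (E0_range F ((mem_normalizer_iff.1 hn.1 _).1 (z_mem F)))
    obtain ⟨j, hj⟩ : ∃ j, 3 ^ k = 2 * j + 1 :=
      Odd.pow (show Odd (3 : ℕ) by decide)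
    have hstr : Str F n := by
      refine (cases_mem F hn.2 hr).resolve_right fun hs => ?_
      have hp : ∀ i : ℕ, Str F ((n * n) ^ i) := by
        intro i
        induction i with
        | zero => rw [pow_zero]; exact Str.one F
        | succ i ih => rw [pow_succ]; exact ih.mul F (hs.mul F hs)
      have h1 : Swp F 1 := by
        have := (hp j).mul_swp F hs
        rwa [← pow_two, ← pow_mul, ← pow_succ, ← hj, hk] at this
      exact not_both F (Str.one F) h1
    obtain ⟨e, he, D, hD, hne⟩ := norm_str F hn.1 hstr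
    have hdd : im F D * im F D = 1 := by
      rw [← im_mul F (tor_facts D hD).1 (tor_facts D hD).1, (tor_facts D hD).2.1, im_one]
    have h2 : n * n ∈ E0 F := by
      have h3 : im F D * e * (im F D)⁻¹ ∈ E0 F := by
        rcases tor_norm F hD with h | h
        · rw [h e he]; exact he
        · rw [h e he]; exact inv_mem he
      rw [inv_eq_of_mul_eq_one_right hdd] at h3
      have := mul_mem he h3
      rwa [show e * (im F D * e * im F D) = n * n by rw [hne]; simp only [mul_assoc]] at this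
    have h4 : n = ((n * n) ^ j)⁻¹ := by
      refine eq_inv_of_mul_eq_one_right ?_
      rw [← pow_two, ← pow_mul, ← pow_succ, ← hj, hk]
    rw [h4]
    exact inv_mem (pow_mem h2 _)

/-- The classes of involutions of `W` in the image. -/
theorem conj_tt_iff {M : M4} {A B : M2} (hd : A.det * B.det = 1) (hM : M = bl A B ∨ M = bl A B * sg)
    (h1 : im F M ≠ 1) (h2 : im F M * im F M = 1) : IsConj (tt F) (im F M) ↔ M * M = 1 := by
  have hMd : M.det = 1 := by rcases hM with rfl | rfl; exacts [det_st hd, det_sw hd]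
  have hsq : M * M = 1 ∨ M * M = -1 := by
    refine im_eq F (by rw [Matrix.det_mul, hMd, mul_one]) Matrix.det_one ?_
    rw [im_mul F hMd hMd, h2, im_one]
  constructor
  · intro hc
    refine hsq.resolve_right fun hneg => ?_
    obtain ⟨C, hC, hCe⟩ := exists_conj_x4 hd hM hneg
    rw [im_conj F hC x4_facts.1 hMd hCe] at hc
    have hx : IsConj (tt F) (im F x4) := hc.trans (isConj_iff.2 ⟨(im F C)⁻¹, by group⟩)
    obtain ⟨h, hh⟩ := isConj_iff.1 hx
    obtain ⟨hud, hucomm, -, hu3, -⟩ := up_facts 1 0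
    set u := im F (up (fld 1 0)) with hu
    have hu1 : u ≠ 1 := im_ne_one F hud x4_facts.2.2.2.2.2.1 x4_facts.2.2.2.2.2.2
    have hux : u * im F x4 = im F x4 * u := by
      rw [hu, ← im_mul F hud x4_facts.1, hucomm, im_mul F x4_facts.1 hud]
    have hv : h⁻¹ * u * h ∈ CW F := by
      rw [mem_CW]
      rw [← hh] at hux
      calc h⁻¹ * u * h * tt F = h⁻¹ * (u * (h * tt F * h⁻¹)) * h := by group
        _ = tt F * (h⁻¹ * u * h) := by rw [hux]; group
    haveI : Fact (Nat.Prime 3) := ⟨Nat.prime_three⟩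
    obtain ⟨S, hS⟩ := (cfg F hz hw).exists_sylow
    let v : CW F := ⟨_, hv⟩
    have hv3 : v ^ 3 = 1 := by
      refine Subtype.ext ?_
      show (h⁻¹ * u * h) ^ 3 = 1
      have : u ^ 3 = 1 := by
        rw [hu, pow_succ, pow_two, ← im_mul F hud hud,
          ← im_mul F (by rw [Matrix.det_mul, hud, mul_one]) hud, hu3, im_one]
      calc (h⁻¹ * u * h) ^ 3 = h⁻¹ * u ^ 3 * h := by simp [pow_succ, mul_assoc]
        _ = 1 := by rw [this]; group
    have hp : IsPGroup 3 (zpowers v) := by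
      obtain ⟨i, -, hi⟩ := (Nat.dvd_prime_pow Nat.prime_three).1
        (orderOf_dvd_of_pow_eq_one (show v ^ 3 ^ 1 = 1 by rw [pow_one]; exact hv3))
      exact IsPGroup.of_card (n := i) (by rw [Nat.card_zpowers, hi])
    obtain ⟨S', hS'⟩ := hp.exists_le_sylow
    obtain ⟨g, hg⟩ := MulAction.exists_smul_eq (CW F) S S'
    have hin := hS' (mem_zpowers v)
    rw [← hg] at hin
    obtain ⟨f, hf, hfe⟩ := hin
    rw [hS] at hf
    have hfE : (f : G) ∈ E0 F := mem_subgroupOf.1 hf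
    have hfv : (g : G) * f * (g : G)⁻¹ = h⁻¹ * u * h := congrArg Subtype.val hfe
    have hf1 : (f : G) ≠ 1 := fun e => hu1 (by
      rw [e, mul_one, mul_inv_cancel] at hfv
      calc u = h * (h⁻¹ * u * h) * h⁻¹ := by group
        _ = 1 := by rw [← hfv]; group)
    have hk : (h * g) * f * (h * g)⁻¹ = u := by
      calc (h * g) * f * (h * g)⁻¹ = h * ((g : G) * f * (g : G)⁻¹) * h⁻¹ := by group
        _ = u := by rw [hfv]; group
    have hkr : h * g ∈ F.φ.range := fix_E0 F hz hw hfE hf1 _ (by rw [hk]; exact im_mem F _)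
    obtain ⟨K, hK⟩ := hkr
    have hKt : F.φ (K * (tm : SL4) * K⁻¹) = im F x4 := by
      rw [map_mul, map_mul, map_inv, hK, ← tt_eq, ← hh]
      calc h * g * tt F * (h * g)⁻¹ = h * ((g : G) * tt F * (g : G)⁻¹) * h⁻¹ := by group
        _ = h * tt F * h⁻¹ := by rw [conj_tt F g.2]
    rw [← im_coe] at hKt
    set Y := K * (tm : SL4) * K⁻¹ with hY
    have hY2 : Y.1 * Y.1 = 1 := by
      rw [← Matrix.SpecialLinearGroup.coe_mul, hY, conj_mul,
        show (tm : SL4) * (tm : SL4) = 1 from congrArg Subtype.val Fin4.tm_sq, mul_one,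
        mul_inv_cancel, Matrix.SpecialLinearGroup.coe_one]
    rcases im_eq F Y.2 x4_facts.1 hKt with e | e <;> rw [e] at hY2
    · exact one_ne_neg_one.1 (hY2.symm.trans x4_facts.2.1)
    · rw [neg_mul, mul_neg, neg_neg, x4_facts.2.1] at hY2
      exact one_ne_neg_one.1 hY2.symm
  · intro hone
    obtain ⟨k, hk⟩ := F.conj_tm_of_sq (x := mkS M hMd) (Subtype.ext hone) (by rwa [← im_mk F hMd])
    refine isConj_iff.2 ⟨F.φ k, ?_⟩
    rw [im_mk F hMd, hk, map_mul, map_mul, map_inv, ← tt_eq]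

/-- Parity of an involution from its class and the class of its product with `t`. -/
theorem parity {y : G} (hy : y ∈ CW F) (hr : y ∈ F.φ.range) (h2 : y * y = 1) (h1 : y ≠ 1) (ht : y ≠ tt F) :
    (Str F y → (IsConj (tt F) y ↔ IsConj (tt F) (y * tt F))) ∧
      (Swp F y → (IsConj (tt F) y ↔ ¬ IsConj (tt F) (y * tt F))) := by
  have hyt : (y * tt F) * (y * tt F) = 1 := by
    calc (y * tt F) * (y * tt F) = y * (tt F * y) * tt F := by group
      _ = y * (y * tt F) * tt F := by rw [← (mem_CW F).1 hy]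
      _ = 1 := by rw [← mul_assoc, h2, one_mul, tt_sq]
  have hyt1 : y * tt F ≠ 1 := fun e => ht (by rw [mul_eq_one_iff_eq_inv.1 e, tt_inv])
  have td : t4.det = 1 := t4_facts.1
  constructor
  · rintro ⟨A, B, hd, rfl⟩
    have hM := det_st hd
    have e : im F (bl A B) * tt F = im F (bl A B * t4) := (im_mul F hM td).symm
    have hf : bl A B * t4 = bl A (-B) := by rw [t4, bl_mul, mul_one, mul_neg, mul_one]
    have hd' : A.det * (-B).det = 1 := by rw [det_forms.2.2]; exact hd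
    rw [e, conj_tt_iff F hz hw hd (Or.inl rfl) h1 h2,
      conj_tt_iff F hz hw hd' (Or.inl hf) (by rwa [← e]) (by rwa [← e]), hf, bl_mul, bl_mul, neg_mul_neg]
  · rintro ⟨A, B, hd, rfl⟩
    have hM := det_sw hd
    have e : im F (bl A B * sg) * tt F = im F (bl A B * sg * t4) := (im_mul F hM td).symm
    have hf : bl A B * sg * t4 = bl (-A) B * sg := by
      rw [swap_t4, ← mul_assoc, t4, bl_mul, one_mul, neg_one_mul, ← neg_mul, bl_neg, neg_neg]
    have hd' : (-A).det * B.det = 1 := by rw [det_forms.2.2]; exact hd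
    rw [e, conj_tt_iff F hz hw hd (Or.inr rfl) h1 h2,
      conj_tt_iff F hz hw hd' (Or.inr hf) (by rwa [← e]) (by rwa [← e]), hf, swap_swap, swap_swap]
    have hsq : bl (A * B) (B * A) = 1 ∨ bl (A * B) (B * A) = -1 := by
      rw [← swap_swap]
      refine im_eq F (by rw [Matrix.det_mul, hM, mul_one]) Matrix.det_one ?_
      rw [im_mul F hM hM, h2, im_one]
    have hn : bl (-A * B) (B * -A) = -bl (A * B) (B * A) := by rw [bl_neg, neg_mul, mul_neg]
    rw [hn]
    rcases hsq with e' | e' <;> rw [e']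
    · exact iff_of_true rfl fun h => one_ne_neg_one.1 h.symm
    · rw [neg_neg]
      exact iff_of_false (fun h => one_ne_neg_one.1 h.symm) fun h => h rfl

/-- The elements of `W` permuting the six axes lie in the image. -/
theorem perm_range {n : G} (hn : n ∈ CW F) (hp : ∀ p, ∃ r, Img F n p r) : n ∈ F.φ.range := by
  choose f hf using hp
  have hinj : Function.Injective f := fun i j e => Img.inj F hn (hf i) (e ▸ hf j)
  have hinv : ∀ p, ∃ r, Img F n⁻¹ p r := fun p => by
    obtain ⟨r, hr⟩ := (Finite.injective_iff_surjective.1 hinj) p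
    exact ⟨r, (hr ▸ hf r).inv F hn⟩
  set w := n * E.z * n⁻¹ with hw'
  have hzW : E.z ∈ CW F := (str_E0 F (z_mem F)).mem F
  have hwW : w ∈ CW F := mul_mem (mul_mem hn hzW) (inv_mem hn)
  have hpw : ∀ p, ∃ r, Img F w p r := fun p => by
    obtain ⟨r, hr⟩ := hinv p
    have hz1 : Img F E.z r (trans 1 0 r) := by rw [z_eq F]; exact img_E0 F 1 0 r
    exact ⟨f (trans 1 0 r), hr.comp F (mul_mem hn hzW) (hz1.comp F hn (hf _))⟩
  choose g hg using hpw
  have hw3 : w * w * w = 1 := by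
    have h3 := E0_cube F (z_mem F)
    rw [pow_succ, pow_two] at h3
    calc w * w * w = n * (E.z * E.z * E.z) * n⁻¹ := by rw [hw']; group
      _ = 1 := by rw [h3]; group
  have hg3 : ∀ p, g (g (g p)) = p := fun p =>
    Img.unique F ((hg p).comp F (mul_mem hwW hwW) ((hg _).comp F hwW (hg _))) (by rw [hw3]; exact Img.one F p)
  let π : Equiv.Perm (Fin 2 × Fin 3) := ⟨g, fun p => g (g p), fun p => hg3 p, fun p => hg3 p⟩
  obtain ⟨a, b, hab⟩ := perm_trans π (Equiv.ext fun p => hg3 p) fun p r h => Img.adj F hwW (hg p) (hg r) h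
  set e := im F (eM a b) with he
  have heE : e ∈ E0 F := ⟨a, b, rfl⟩
  have heW : e ∈ CW F := (str_E0 F heE).mem F
  have hK : e⁻¹ * w ∈ Kp F := by
    refine ⟨mul_mem (inv_mem heW) hwW, fun p => (hg p).comp F (inv_mem heW) ?_⟩
    rw [show g p = trans a b p from hab p]
    exact (img_E0 F a b p).inv F heW
  have hKR : Kp F ≤ F.φ.range := by
    refine (cfg F hz hw).coprime (fun x hx => hx.1) ?_ ?_
    · have hle : ∀ x ∈ E0 F, ∀ y ∈ Kp F, x * y * x⁻¹ ∈ Kp F := by
        rintro _ ⟨c, d, rfl⟩ y hy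
        have hxW : im F (eM c d) ∈ CW F := (str_E0 F ⟨c, d, rfl⟩).mem F
        refine ⟨mul_mem (mul_mem hxW hy.1) (inv_mem hxW), fun p => ?_⟩
        have hxe : (im F (eM c d))⁻¹ = im F (eM (-c) (-d)) := by
          refine inv_eq_of_mul_eq_one_right ?_
          rw [← im_mul F (eM_facts.1 c d) (eM_facts.1 _ _), eM_mul, add_neg_cancel, add_neg_cancel,
            eM_facts.2.1, im_one]
        have h1 : Img F (im F (eM c d))⁻¹ p (trans (-c) (-d) p) := hxe ▸ img_E0 F _ _ p
        exact h1.comp F (mul_mem hxW hy.1) ((hy.2 _).comp F hxW ((h1.inv F (inv_mem hxW)).imp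
          (fun h => by rwa [inv_inv] at h) (fun h => by rwa [inv_inv] at h)))
      intro x hx
      rw [mem_normalizer_iff]
      refine fun y => ⟨fun h => hle x hx y h, fun h => ?_⟩
      have := hle x⁻¹ (inv_mem hx) _ h
      simpa [mul_assoc] using this
    · rw [eq_bot_iff]
      rintro _ ⟨⟨c, d, rfl⟩, hk⟩
      have h0 := Img.unique F (hk.2 (0, 0)) (img_E0 F c d (0, 0))
      have h1 := Img.unique F (hk.2 (1, 0)) (img_E0 F c d (1, 0))
      obtain rfl : c = 0 := by simpa [CT.trans] using (congrArg Prod.snd h0).symm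
      obtain rfl : d = 0 := by simpa [CT.trans] using (congrArg Prod.snd h1).symm
      rw [eM_facts.2.1, im_one]
      exact one_mem _
  refine hz n ?_
  have := mul_mem (E0_range F heE) (hKR hK)
  rwa [mul_inv_cancel_left] at this

/-- An element normalising `T` lies in `T`. -/
theorem norm_T {n : G} (hn : n ∈ CW F) (hN : n ∈ normalizer (T F : Set G)) : n ∈ T F := by
  have conjC : ∀ {a b : G}, IsConj a b → ∀ c, IsConj a (c * b * c⁻¹) :=
    fun h c => h.trans (isConj_iff.2 ⟨c, rfl⟩)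
  have hqq : ∀ k l, ∃ A B : M2, A * A = -1 ∧ B * B = -1 ∧
      n * im F (bl (q k) (q l)) * n⁻¹ = im F (bl A B) := by
    intro k l
    obtain ⟨hd, hs1, hs2, hn1, hn2, hn3, hn4⟩ := qq_facts k l
    set x := im F (bl (q k) (q l)) with hx
    have hqd : (q k).det * (q l).det = 1 := by rw [(q_sq k).2, (q_sq l).2, mul_one]
    have hx1 : x ≠ 1 := im_ne_one F hd hn3 hn4
    have hxt : x ≠ tt F := fun e => by
      rcases im_eq F hd t4_facts.1 e with h | h
      · exact hn1 h
      · exact hn2 h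
    have hx2 : x * x = 1 := by
      rw [hx, ← im_mul F hd hd, hs1, im_neg F Matrix.det_one, im_one]
    have hP : ¬ IsConj (tt F) x := by
      rw [hx, conj_tt_iff F hz hw hqd (Or.inl rfl) hx1 hx2, hs1]
      exact fun h => one_ne_neg_one.1 h.symm
    have hxW : x ∈ CW F := (qq_T F k l).1
    have hP' : ¬ IsConj (tt F) (x * tt F) := fun h =>
      hP (((parity F hz hw hxW (im_mem F _) hx2 hx1 hxt).1 ⟨q k, q l, hqd, rfl⟩).2 h)
    set y := n * x * n⁻¹ with hy
    have hyT : y ∈ T F := (mem_normalizer_iff.1 hN x).1 (qq_T F k l)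
    have hy2 : y * y = 1 := by rw [hy, conj_mul, hx2]; group
    have hy1 : y ≠ 1 := fun e => hx1 (by
      calc x = n⁻¹ * y * n := by rw [hy]; group
        _ = 1 := by rw [e]; group)
    have hyt : y ≠ tt F := fun e => hxt (by
      have := conj_tt F (inv_mem hn)
      rw [inv_inv] at this
      calc x = n⁻¹ * y * n := by rw [hy]; group
        _ = tt F := by rw [e, this])
    have hQ : ¬ IsConj (tt F) y := fun h => hP (by
      have := conjC h n⁻¹
      rwa [hy, inv_inv, show n⁻¹ * (n * x * n⁻¹) * n = x by group] at this)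
    have hQ' : ¬ IsConj (tt F) (y * tt F) := fun h => hP' (by
      have h' := conjC h n⁻¹
      have e : n⁻¹ * (y * tt F) * n = x * (n⁻¹ * tt F * n) := by rw [hy]; group
      have := conj_tt F (inv_mem hn)
      rw [inv_inv] at this
      rwa [inv_inv, e, this] at h')
    obtain ⟨hps, hpw⟩ := parity F hz hw hyT.1 hyT.2.1 hy2 hy1 hyt
    rcases cases_mem F hyT.1 hyT.2.1 with hs | hs
    swap
    · exact absurd ((hpw hs).2 hQ') hQ
    obtain ⟨A, B, hd', he⟩ := hs
    have hm : bl A B * bl A B = -1 := by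
      have h3 : ¬ bl A B * bl A B = 1 := fun h => hQ (by
        rw [he, conj_tt_iff F hz hw hd' (Or.inl rfl) (by rwa [← he]) (by rwa [← he])]
        exact h)
      refine (im_eq F (by rw [Matrix.det_mul, det_st hd', mul_one]) Matrix.det_one ?_).resolve_left h3
      rw [im_mul F (det_st hd') (det_st hd'), ← he, hy2, im_one]
    rw [bl_mul] at hm
    obtain ⟨hA, hB⟩ := bl_eq_neg_one hm
    exact ⟨A, B, hA, hB, he⟩
  have hperm : ∀ p, ∃ r, Img F n p r := by
    intro p
    obtain ⟨k, l, k', l', hprod⟩ := qq_prod p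
    obtain ⟨A, B, hA, hB, he⟩ := hqq k l
    obtain ⟨A', B', hA', hB', he'⟩ := hqq k' l'
    have hd1 : (bl A B).det = 1 := det_st (by rw [(sq_neg A hA).1, (sq_neg B hB).1, mul_one])
    have hd2' : (bl A' B').det = 1 := det_st (by rw [(sq_neg A' hA').1, (sq_neg B' hB').1, mul_one])
    have h12 : im F (bl (A * A') (B * B')) =
        n * (im F (bl (q k) (q l)) * im F (bl (q k') (q l'))) * n⁻¹ := by
      rw [← bl_mul, im_mul F hd1 hd2', ← he, ← he']; group
    have hqd := (qq_facts k l).1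
    have hqd' := (qq_facts k' l').1
    rw [← im_mul F hqd hqd'] at h12
    have hpt : (ax p * t4).det = 1 := by rw [Matrix.det_mul, (ax_facts p).1, t4_facts.1, mul_one]
    have hX : im F (bl (q k) (q l) * bl (q k') (q l')) = X F p ∨
        im F (bl (q k) (q l) * bl (q k') (q l')) = X F p * tt F := by
      rcases hprod with e | e | e | e
      · exact Or.inl (by rw [e])
      · exact Or.inl (by rw [e, im_neg F (ax_facts p).1])
      · exact Or.inr (by rw [e, im_mul F (ax_facts p).1 t4_facts.1])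
      · exact Or.inr (by rw [e, im_neg F hpt, im_mul F (ax_facts p).1 t4_facts.1])
    obtain ⟨hC, hC4⟩ := quat_mul A hA A' hA'
    obtain ⟨hD, hD4⟩ := quat_mul B hB B' hB'
    have hsq : im F (bl (A * A') (B * B')) * im F (bl (A * A') (B * B')) ≠ 1 := by
      intro h
      have hXX : X F p * X F p = tt F := by
        rw [← im_mul F (ax_facts p).1 (ax_facts p).1]
        exact im_eq_of F t4_facts.1 (ax_facts p).2.1
      have h' : n * (X F p * X F p) * n⁻¹ = 1 := by
        rw [h12] at h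
        rcases hX with e | e <;> rw [e] at h
        · rw [← h]; group
        · rw [← h]
          calc n * (X F p * X F p) * n⁻¹ = n * (X F p * X F p * (tt F * tt F)) * n⁻¹ := by
                rw [tt_sq, mul_one]
            _ = n * (X F p * (tt F * X F p) * tt F) * n⁻¹ := by rw [← X_tt]; group
            _ = _ := by group
      rw [hXX, conj_tt F hn] at h'
      exact tt_ne_one F h'
    have hCD : (bl (A * A') (B * B')).det = 1 := det_st (by rw [hC, hD, mul_one])
    rcases q8_shape _ (mem_q8 hC hC4) _ (mem_q8 hD hD4) with e | e | ⟨r, hr⟩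
    · exact absurd (by rw [← im_mul F hCD hCD, e, im_one]) hsq
    · exact absurd (by rw [← im_mul F hCD hCD, e, im_neg F Matrix.det_one, im_one]) hsq
    refine ⟨r, ?_⟩
    have hrt : (ax r * t4).det = 1 := by rw [Matrix.det_mul, (ax_facts r).1, t4_facts.1, mul_one]
    have hR : im F (bl (A * A') (B * B')) = X F r ∨ im F (bl (A * A') (B * B')) = X F r * tt F := by
      rcases hr with e | e | e | e
      · exact Or.inl (by rw [e])
      · exact Or.inl (by rw [e, im_neg F (ax_facts r).1])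
      · exact Or.inr (by rw [e, im_mul F (ax_facts r).1 t4_facts.1])
      · exact Or.inr (by rw [e, im_neg F hrt, im_mul F (ax_facts r).1 t4_facts.1])
    rw [h12] at hR
    rcases hX with e | e <;> rw [e] at hR
    · exact hR
    · have e2 : n * X F p * n⁻¹ = n * (X F p * tt F) * n⁻¹ * tt F := by
        calc n * X F p * n⁻¹ = n * (X F p * tt F) * n⁻¹ * (n * (tt F)⁻¹ * n⁻¹) := by group
          _ = _ := by rw [tt_inv, conj_tt F hn]
      rw [Img, e2]
      rcases hR with h | h <;> rw [h]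
      · exact Or.inr rfl
      · exact Or.inl (by rw [mul_assoc, tt_sq, mul_one])
  have hnr := perm_range F hz hw hn hperm
  choose f hf using hperm
  refine ⟨hn, hnr, fun s => ?_⟩
  by_contra hbad
  push Not at hbad
  have hne : (f (s, 0)).2 ≠ 0 := fun e => hbad (f (s, 0)).1 (by
    have := hf (s, 0)
    rwa [show f (s, 0) = ((f (s, 0)).1, 0) from Prod.ext rfl e] at this)
  have hnegk : Img F (im F (bl d2 d2)) (f (s, 0)) ((f (s, 0)).1, -(f (s, 0)).2) :=
    img_of_mat F delta_facts.1 (delta_ax _ _)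
  have hdW := (str_delta F).mem F
  have hconj : n⁻¹ * im F (bl d2 d2) * n ∈ T F := by
    have := (mem_normalizer_iff.1 (inv_mem hN) _).1 (delta_T F)
    rwa [inv_inv] at this
  obtain ⟨s', hs'⟩ := hconj.2.2 s
  have h1 : Img F n (s', 0) ((f (s, 0)).1, -(f (s, 0)).2) := by
    have h2 := ((hf (s, 0)).comp F hdW hnegk)
    have h3 : Img F (n * (n⁻¹ * im F (bl d2 d2) * n)) (s, 0) (f (s', 0)) := hs'.comp F hn (hf (s', 0))
    rw [show n * (n⁻¹ * im F (bl d2 d2) * n) = im F (bl d2 d2) * n by group] at h3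
    rw [Img.unique F h2 h3]
    exact hf (s', 0)
  by_cases hss : s' = s
  · subst hss
    have := congrArg Prod.snd (Img.unique F h1 (hf (s', 0)))
    have k3 : ∀ k : Fin 3, -k = k → k = 0 := by decide
    exact hne (k3 _ this)
  · have k3 : ∀ k : Fin 3, k ≠ 0 → k ≠ -k := by decide
    have hadj : Adj (f (s, 0)) ((f (s, 0)).1, -(f (s, 0)).2) := ⟨rfl, k3 _ hne⟩
    exact hss (Img.adj F (inv_mem hn) ((hf (s, 0)).inv F hn) (h1.inv F hn) hadj).1.symm

theorem not_dvd_index_T : ¬ 2 ∣ ((T F).subgroupOf (CW F)).index := by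
  haveI : Fact (Nat.Prime 2) := ⟨Nat.prime_two⟩
  obtain ⟨P, hP⟩ := ((isPGroup_T F).comap_of_injective (CW F).subtype Subtype.val_injective :
    IsPGroup 2 ((T F).subgroupOf (CW F))).exists_le_sylow
  suffices (P : Subgroup (CW F)) = (T F).subgroupOf (CW F) by
    rw [← this]; exact P.not_dvd_index
  by_contra hne
  haveI := P.2.isNilpotent
  have hlt : ((T F).subgroupOf (CW F)).subgroupOf P < ⊤ := lt_top_iff_ne_top.2 fun e =>
    hne (le_antisymm (subgroupOf_eq_top.1 e) hP)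
  obtain ⟨x, hx, hxT⟩ := Set.exists_of_ssubset (SetLike.coe_ssubset_coe.2
    (Group.normalizerCondition_of_isNilpotent _ hlt))
  refine hxT ?_
  show ((x : CW F) : G) ∈ T F
  refine norm_T F hz hw (x : CW F).2 ?_
  rw [mem_normalizer_iff]
  intro y
  constructor
  · intro hy
    have hyW : y ∈ CW F := hy.1
    have hyP : (⟨y, hyW⟩ : CW F) ∈ (P : Subgroup (CW F)) := hP (mem_subgroupOf.2 hy)
    exact (mem_normalizer_iff.1 hx ⟨_, hyP⟩).1 hy
  · intro hy
    set xx : G := ((x : CW F) : G)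
    have hyW : y ∈ CW F := by
      have := mul_mem (mul_mem (inv_mem (x : CW F).2) hy.1) (x : CW F).2
      simpa [xx, mul_assoc] using this
    have hyP : (⟨y, hyW⟩ : CW F) ∈ (P : Subgroup (CW F)) := by
      have h1 : (x : CW F) * ⟨y, hyW⟩ * (x : CW F)⁻¹ ∈ (P : Subgroup (CW F)) := hP (mem_subgroupOf.2 hy)
      have := mul_mem (mul_mem (inv_mem x.2) h1) x.2
      simpa [mul_assoc] using this
    exact (mem_normalizer_iff.1 hx ⟨_, hyP⟩).2 hy

theorem conj_parity {x g : G} (hx : x ∈ CW F) (hr : x ∈ F.φ.range) (hx2 : x * x = 1) (hx1 : x ≠ 1)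
    (hxt : x ≠ tt F) (hg : g ∈ CW F) (hyT : g⁻¹ * x * g ∈ T F) :
    (Str F x → Str F (g⁻¹ * x * g)) ∧ (Swp F x → Swp F (g⁻¹ * x * g)) := by
  have hgt := conj_tt F (inv_mem hg)
  rw [inv_inv] at hgt
  have hxe : x = g * (g⁻¹ * x * g) * g⁻¹ := by group
  have hy2 : (g⁻¹ * x * g) * (g⁻¹ * x * g) = 1 := by
    calc (g⁻¹ * x * g) * (g⁻¹ * x * g) = g⁻¹ * (x * x) * g := by group
      _ = 1 := by rw [hx2]; group
  have hy1 : g⁻¹ * x * g ≠ 1 := fun e => hx1 (by rw [hxe, e]; group)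
  have hyt : g⁻¹ * x * g ≠ tt F := fun e => hxt (by rw [hxe, e, conj_tt F hg])
  have c1 : IsConj x (g⁻¹ * x * g) := isConj_iff.2 ⟨g⁻¹, by rw [inv_inv]⟩
  have c2 : IsConj (x * tt F) (g⁻¹ * x * g * tt F) := isConj_iff.2 ⟨g⁻¹, by
    rw [inv_inv]
    calc g⁻¹ * (x * tt F) * g = g⁻¹ * x * g * (g⁻¹ * tt F * g) := by group
      _ = _ := by rw [hgt]⟩
  have i1 : IsConj (tt F) x ↔ IsConj (tt F) (g⁻¹ * x * g) := ⟨fun h => h.trans c1, fun h => h.trans c1.symm⟩
  have i2 : IsConj (tt F) (x * tt F) ↔ IsConj (tt F) (g⁻¹ * x * g * tt F) :=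
    ⟨fun h => h.trans c2, fun h => h.trans c2.symm⟩
  obtain ⟨px, px'⟩ := parity F hz hw hx hr hx2 hx1 hxt
  obtain ⟨py, py'⟩ := parity F hz hw hyT.1 hyT.2.1 hy2 hy1 hyt
  refine ⟨fun hs => (cases_mem F hyT.1 hyT.2.1).resolve_right fun hy' => ?_,
    fun hs => (cases_mem F hyT.1 hyT.2.1).resolve_left fun hy' => ?_⟩
  · have := py' hy'
    rw [← i1, ← i2, ← px hs] at this
    exact iff_not_self this
  · have := py hy'
    rw [← i1, ← i2, px' hs] at this
    exact iff_not_self this.symm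

theorem cent_tt : CW F ≤ F.φ.range := by
  classical
  haveI : Fact (Nat.Prime 2) := ⟨Nat.prime_two⟩
  set H := (T F).subgroupOf (CW F) with hH
  have hcases : ∀ x : H, Str F ((x : CW F) : G) ∨ Swp F ((x : CW F) : G) := fun x =>
    cases_mem F (x : CW F).2 (mem_subgroupOf.1 x.2).2.1
  let ε : H →* ℤˣ :=
    { toFun := fun x => if Str F ((x : CW F) : G) then 1 else -1
      map_one' := if_pos (Str.one F)
      map_mul' := fun a b => by
        have n1 : ∀ {g : G}, Swp F g → ¬ Str F g := fun h h' => not_both F h' h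
        show (if Str F (((a : CW F) : G) * ((b : CW F) : G)) then (1 : ℤˣ) else -1) = _
        rcases hcases a with ha | ha <;> rcases hcases b with hb | hb
        · rw [if_pos (ha.mul F hb), if_pos ha, if_pos hb, mul_one]
        · rw [if_neg (n1 (ha.mul_swp F hb)), if_pos ha, if_neg (n1 hb), one_mul]
        · rw [if_neg (n1 (ha.mul_str F hb)), if_neg (n1 ha), if_pos hb, mul_one]
        · rw [if_pos (ha.mul F hb), if_neg (n1 ha), if_neg (n1 hb), neg_mul_neg, one_mul] }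
  have hodd : ¬ 2 ∣ H.index := not_dvd_index_T F hz hw
  haveI : H.FiniteIndex := inferInstance
  let V : CW F →* ℤˣ := MonoidHom.transfer ε
  haveI : ∀ x : CW F, Fintype (MulAction.fixedBy (CW F ⧸ H) x) := fun x => Fintype.ofFinite _
  have Veq : ∀ x : CW F, x * x = 1 → ∀ a : ℤˣ,
      (∀ (g : CW F) (h : g⁻¹ * x * g ∈ H), ε ⟨_, h⟩ = a) →
      V x = a ^ Fintype.card (MulAction.fixedBy (CW F ⧸ H) x) := by
    intro x hx a ha
    show MonoidHom.transfer ε x = _
    rw [CentSixSeven.transfer_involution ε hx, Finset.prod_congr rfl fun q _ => ?_, Finset.prod_const,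
      Finset.card_univ]
    obtain ⟨q, hq⟩ := q
    induction q using QuotientGroup.induction_on with
    | H g =>
      have h := (CentSixSeven.fix_iff H x g).1 hq
      rw [CentSixSeven.fixVal_mk ε x g h]
      exact ha g h
  -- the three involutions
  let tW : CW F := ⟨tt F, tt_mem F⟩
  have hVt : V tW = 1 := by
    rw [Veq tW (Subtype.ext (tt_sq F)) 1 fun g h => if_pos ?_, one_pow]
    show Str F ((g : G)⁻¹ * tt F * (g : G))
    have := conj_tt F (inv_mem g.2)
    rw [inv_inv] at this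
    rw [this]
    exact str_tt F
  let dW : CW F := ⟨_, (str_delta F).mem F⟩
  let sW : CW F := ⟨_, (swp_sigma F).mem F⟩
  have hdd : im F (bl d2 d2) * im F (bl d2 d2) = 1 := by
    rw [← im_mul F delta_facts.1 delta_facts.1, delta_facts.2.1, im_one]
  have hss : im F sg * im F sg = 1 := by rw [← im_mul F det_sg det_sg, sg_sq, im_one]
  obtain ⟨-, -, -, d1, d2', d3, d4⟩ := delta_facts
  obtain ⟨-, -, -, s1, s2, s3, s4, -⟩ := sigma_facts
  have hd1 : im F (bl d2 d2) ≠ 1 := im_ne_one F delta_facts.1 d1 d2'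
  have hdt : im F (bl d2 d2) ≠ tt F := fun e => (im_eq F delta_facts.1 t4_facts.1 e).elim d3 d4
  have hs1 : im F sg ≠ 1 := im_ne_one F det_sg s1 s2
  have hst : im F sg ≠ tt F := fun e => (im_eq F det_sg t4_facts.1 e).elim s3 s4
  have hVd : V dW = 1 := by
    rw [Veq dW (Subtype.ext hdd) 1 fun g h => if_pos ?_, one_pow]
    exact (conj_parity F hz hw dW.2 (im_mem F _) hdd hd1 hdt g.2 (mem_subgroupOf.1 h)).1 (str_delta F)
  have hVs : V sW = -1 := by
    rw [Veq sW (Subtype.ext hss) (-1) fun g h => if_neg fun hs => not_both F hs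
      ((conj_parity F hz hw sW.2 (im_mem F _) hss hs1 hst g.2 (mem_subgroupOf.1 h)).2 (swp_sigma F))]
    refine Odd.neg_one_pow ?_
    have hp : IsPGroup 2 (zpowers sW) := by
      obtain ⟨i, -, hi⟩ := (Nat.dvd_prime_pow Nat.prime_two).1
        (orderOf_dvd_of_pow_eq_one (show sW ^ 2 ^ 1 = 1 by
          rw [pow_one, pow_two]; exact Subtype.ext hss))
      exact IsPGroup.of_card (n := i) (by rw [Nat.card_zpowers, hi])
    have hmod := hp.card_modEq_card_fixedPoints (α := CW F ⧸ H)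
    have hset : MulAction.fixedPoints (zpowers sW) (CW F ⧸ H) = MulAction.fixedBy (CW F ⧸ H) sW := by
      ext q
      refine ⟨fun h => h ⟨sW, mem_zpowers _⟩, ?_⟩
      rintro h ⟨m, hm⟩
      obtain ⟨i, rfl⟩ := mem_zpowers_iff.1 hm
      exact MulAction.fixedBy_subset_fixedBy_zpow (CW F ⧸ H) sW i h
    rw [hset, ← Subgroup.index_eq_card, Nat.card_eq_fintype_card] at hmod
    rw [Nat.odd_iff]
    rw [Nat.dvd_iff_mod_eq_zero] at hodd
    unfold Nat.ModEq at hmod
    omega
  have hVE : ∀ x : CW F, (x : G) ∈ E0 F → V x = 1 := by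
    intro x hx
    have h3 : x ^ 3 = 1 := Subtype.ext (by rw [Subgroup.coe_pow, E0_cube F hx, OneMemClass.coe_one])
    have := congrArg V h3
    rw [map_pow, map_one] at this
    rcases Int.units_eq_one_or (V x) with e | e
    · exact e
    · rw [e] at this; exact absurd this (by decide)
  -- the subgroup of index two
  set W1 := V.ker.map (CW F).subtype with hW1
  have hW1le : W1 ≤ CW F := map_subtype_le _
  have memW1 : ∀ x : CW F, (x : G) ∈ W1 ↔ V x = 1 := fun x =>
    (mem_map_iff_mem Subtype.val_injective).trans MonoidHom.mem_ker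
  have hc := (cfg F hz hw).anti hW1le fun e he => by
    have heW : e ∈ CW F := (str_E0 F he).mem F
    exact (memW1 ⟨e, heW⟩).2 (hVE ⟨e, heW⟩ he)
  have hVtor : ∀ (D : M4), D ∈ tor → ∀ hD : im F D ∈ CW F, V ⟨_, hD⟩ = 1 := by
    intro D hD
    simp only [tor, List.mem_cons, List.not_mem_nil, or_false] at hD
    rcases hD with rfl | rfl | rfl | rfl <;> intro hW
    · have e : (⟨_, hW⟩ : CW F) = 1 := Subtype.ext (im_one F)
      rw [e, map_one]
    · exact hVt
    · exact hVd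
    · have e : (⟨_, hW⟩ : CW F) = dW * tW := Subtype.ext (im_mul F delta_facts.1 t4_facts.1)
      rw [e, map_mul, hVd, hVt, mul_one]
  have hstrV : ∀ x : CW F, (x : G) ∈ normalizer (E0 F : Set G) → Str F (x : G) →
      V x = 1 ∧ ((∀ e ∈ E0 F, (x : G) * e * (x : G)⁻¹ = e) ∨ ∀ e ∈ E0 F, (x : G) * e * (x : G)⁻¹ = e⁻¹) := by
    intro x hxN hxs
    obtain ⟨e, he, D, hD, hxe⟩ := norm_str F hxN hxs
    have hDW : im F D ∈ CW F := im_CW F (tor_facts D hD).1 (Or.inl (tor_facts D hD).2.2.1)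
    have hx' : x = ⟨e, (str_E0 F he).mem F⟩ * ⟨_, hDW⟩ := Subtype.ext hxe
    refine ⟨by rw [hx', map_mul, hVE ⟨e, _⟩ he, hVtor D hD, one_mul], ?_⟩
    have ec : ∀ f ∈ E0 F, e * f * e⁻¹ = f := fun f hf => by rw [E0_comm F he hf, mul_inv_cancel_right]
    have assoc : ∀ f, (e * im F D) * f * (e * im F D)⁻¹ = e * (im F D * f * (im F D)⁻¹) * e⁻¹ :=
      fun f => by group
    rcases tor_norm F hD with h | h
    · exact Or.inl fun f hf => by rw [hxe, assoc, h f hf, ec f hf]
    · exact Or.inr fun f hf => by rw [hxe, assoc, h f hf, ec _ (inv_mem hf)]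
  have hle : W1 ≤ F.φ.range := by
    refine hc.le_of_inv ?_ (d := im F (bl d2 d2)) ⟨?_, (memW1 dW).2 hVd⟩ ?_ ?_
    · intro n hn
      have hnW := hW1le hn.2
      have hr : n ∈ F.φ.range := hz n (E0_range F ((mem_normalizer_iff.1 hn.1 _).1 (z_mem F)))
      rcases cases_mem F hnW hr with hs | hs
      · exact (hstrV ⟨n, hnW⟩ hn.1 hs).2
      · exfalso
        have h1 := (hstrV (⟨n, hnW⟩ * sW) (mul_mem hn.1 (sigma_normalizer F)) (hs.mul F (swp_sigma F))).1
        rw [map_mul, hVs, (memW1 ⟨n, hnW⟩).1 hn.2] at h1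
        exact absurd h1 (by decide)
    · show im F (bl d2 d2) ∈ normalizer (E0 F : Set G)
      have hle : ∀ e ∈ E0 F, im F (bl d2 d2) * e * (im F (bl d2 d2))⁻¹ ∈ E0 F := by
        rintro _ ⟨a, b, rfl⟩
        exact ⟨-a, -b, (im_conj F delta_facts.1 (eM_facts.1 a b) (eM_facts.1 _ _) (delta_eM a b)).symm⟩
      rw [mem_normalizer_iff]
      refine fun y => ⟨fun h => hle y h, fun h => ?_⟩
      have := hle _ h
      rwa [inv_eq_of_mul_eq_one_right hdd, ← mul_assoc, ← mul_assoc, hdd, one_mul, mul_assoc, hdd,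
        mul_one] at this
    · refine Nat.Coprime.coprime_dvd_left (orderOf_dvd_of_pow_eq_one (n := 2) ?_) (by norm_num)
      rw [pow_two, hdd]
    · rintro _ ⟨a, b, rfl⟩
      refine (im_conj F delta_facts.1 (eM_facts.1 a b) (eM_facts.1 _ _) (delta_eM a b)).symm.trans ?_
      refine eq_inv_of_mul_eq_one_left ?_
      rw [← im_mul F (eM_facts.1 _ _) (eM_facts.1 a b), eM_mul, neg_add_cancel, neg_add_cancel,
        eM_facts.2.1, im_one]
  intro x hx
  rcases Int.units_eq_one_or (V ⟨x, hx⟩) with h | h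
  · exact hle ((memW1 ⟨x, hx⟩).2 h)
  · have h1 : V (⟨x, hx⟩ * sW) = 1 := by rw [map_mul, h, hVs]; decide
    have := mul_mem (hle ((memW1 _).2 h1)) (inv_mem (im_mem F sg))
    rwa [Subgroup.coe_mul, mul_inv_cancel_right] at this

end

end CfsgLib.L43.CTF

namespace CfsgLib.L43.Full

open Subgroup

universe u

variable {G : Type u} [Group G] [Finite G] {E : Emb G}

/-- The centraliser of the involution lies in the image of `SL(4,3)`. -/
theorem cent_tm (F : Full E) (hz : ∀ g, g * E.z * g⁻¹ ∈ F.φ.range → g ∈ F.φ.range)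
    (hw : ∀ c : ZMod 3, c ≠ 0 → centralizer ({F.φ (wm c : SL4)} : Set G) ≤ F.φ.range) :
    centralizer ({F.φ (tm : SL4)} : Set G) ≤ F.φ.range := by
  rw [← CTF.tt_eq F]
  exact CTF.cent_tt F hz hw

end CfsgLib.L43.Full
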