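import Cfsg.Agent.LFourThree.Emb

/-!
# Matrix facts about the centraliser of the involution `tm`

The centraliser of `tm` up to sign consists of the block matrices on the coordinate pairs `(0,3)`, `(1,2)` and
their products with the swap of the pairs.
-/

set_option autoImplicit false
set_option maxRecDepth 100000

namespace CfsgLib.L43.CT

open Matrix

/-- `2 × 2` matrices over the field with three elements. -/
abbrev M2 := Matrix (Fin 2) (Fin 2) (ZMod 3)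

/-- Block matrices on the pairs `(0,3)`, `(1,2)`. -/
def bl (A B : M2) : M4 :=
  !![A 0 0, 0, 0, A 0 1; 0, B 0 0, B 0 1, 0; 0, B 1 0, B 1 1, 0; A 1 0, 0, 0, A 1 1]

/-- The swap of the pairs. -/
def sg : M4 := !![0, 1, 0, 0; 1, 0, 0, 0; 0, 0, 0, 1; 0, 0, 1, 0]

/-- Being `a` or `-a`. -/
def PM {α : Type*} [Neg α] (a b : α) : Prop := b = a ∨ b = -a

theorem bl_mul (A B C D : M2) : bl A B * bl C D = bl (A * C) (B * D) := by
  ext i j
  fin_cases i <;> fin_cases j <;> simp [bl, Matrix.mul_apply, Fin.sum_univ_four, Fin.sum_univ_two]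

theorem bl_one : bl 1 1 = 1 := by decide +kernel

theorem bl_neg (A B : M2) : -bl A B = bl (-A) (-B) := by
  ext i j
  fin_cases i <;> fin_cases j <;> simp [bl]

theorem sg_sq : sg * sg = 1 := by decide +kernel

theorem sg_bl (A B : M2) : sg * bl A B = bl B A * sg := by
  ext i j
  fin_cases i <;> fin_cases j <;> simp [bl, sg, Matrix.mul_apply, Fin.sum_univ_four]

theorem swap_mul (A B : M2) (M : M4) : bl A B * sg * M = bl A B * (sg * M) := mul_assoc _ _ _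

theorem swap_swap (A B C D : M2) : bl A B * sg * (bl C D * sg) = bl (A * D) (B * C) := by
  rw [mul_assoc, ← mul_assoc sg, sg_bl, mul_assoc, sg_sq, mul_one, bl_mul]

theorem bl_inj {A B C D : M2} (h : bl A B = bl C D) : A = C ∧ B = D := by
  have e : ∀ i j, bl A B i j = bl C D i j := fun i j => by rw [h]
  have := e 0 0; have := e 0 3; have := e 3 0; have := e 3 3
  have := e 1 1; have := e 1 2; have := e 2 1; have := e 2 2
  simp [bl] at *
  refine ⟨?_, ?_⟩ <;> ext i j <;> fin_cases i <;> fin_cases j <;> assumption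

theorem det_bl (A B : M2) : (bl A B).det = A.det * B.det := by
  simp [bl, Matrix.det_succ_row_zero, Fin.sum_univ_succ, Fin.succAbove]
  ring

theorem det_sg : sg.det = 1 := by decide +kernel

/-- The involution `tm`. -/
def t4 : M4 := bl 1 (-1)

theorem tm_eq : (tm : SL4).1 = t4 := by decide +kernel

theorem t4_comm {M : M4} (h : M * t4 = t4 * M) : ∃ A B, M = bl A B := by
  refine ⟨!![M 0 0, M 0 3; M 3 0, M 3 3], !![M 1 1, M 1 2; M 2 1, M 2 2], ?_⟩
  have e : ∀ i j, (M * t4) i j = (t4 * M) i j := fun i j => by rw [h]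
  have key : ∀ x : ZMod 3, (x = -x → x = 0) ∧ (-x = x → x = 0) := by decide
  ext i j
  have := e i j
  fin_cases i <;> fin_cases j <;>
    simp [t4, bl, Matrix.mul_apply, Fin.sum_univ_four] at this ⊢ <;>
    first
      | exact (key _).1 this
      | exact (key _).2 this

theorem sg_t4 : sg * t4 = -t4 * sg := by decide +kernel

theorem t4_anti {M : M4} (h : M * t4 = -(t4 * M)) : ∃ A B, M = bl A B * sg := by
  obtain ⟨A, B, hAB⟩ := t4_comm (M := M * sg) (by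
    rw [mul_assoc, sg_t4, neg_mul, mul_neg, ← mul_assoc, h, neg_mul, neg_neg, mul_assoc])
  refine ⟨A, B, ?_⟩
  rw [← hAB, mul_assoc, sg_sq, mul_one]

theorem t4_shape {M : M4} (h : M * t4 = t4 * M ∨ M * t4 = -(t4 * M)) :
    ∃ A B, M = bl A B ∨ M = bl A B * sg := by
  rcases h with h | h
  · obtain ⟨A, B, e⟩ := t4_comm h; exact ⟨A, B, Or.inl e⟩
  · obtain ⟨A, B, e⟩ := t4_anti h; exact ⟨A, B, Or.inr e⟩

theorem bl_t4 (A B : M2) : bl A B * t4 = t4 * bl A B := by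
  rw [t4, bl_mul, bl_mul, mul_one, one_mul, mul_neg, neg_mul, mul_one, one_mul]

theorem swap_t4 (A B : M2) : bl A B * sg * t4 = -(t4 * (bl A B * sg)) := by
  rw [mul_assoc, sg_t4, neg_mul, mul_neg, ← mul_assoc, bl_t4, mul_assoc]

/-! ### The subgroup of order nine -/

/-- A unipotent element. -/
def U2 : M2 := !![1, 1; 0, 1]

/-- An element of order four. -/
def i2 : M2 := !![0, -1; 1, 0]

/-- A reflection. -/
def d2 : M2 := !![1, 0; 0, -1]

theorem zm_eq : (zm : SL4).1 = bl U2 1 := by decide +kernel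

theorem um_eq : (um : SL4).1 = bl 1 U2 := by decide +kernel

theorem U2_pow : U2 ^ 3 = 1 ∧ d2 * U2 = U2 ^ 2 * d2 := by decide +kernel

theorem U2_pow_shape : ∀ a : Fin 3, (U2 ^ (a : ℕ)) 1 0 = 0 ∧ (U2 ^ (a : ℕ)) 1 1 = 1 := by decide +kernel

theorem tri_list : ∀ x y z : ZMod 3, x ≠ 0 → z ≠ 0 → ∃ r : Fin 3, !![x, y; 0, z] = U2 ^ (r : ℕ) ∨
    !![x, y; 0, z] = -(U2 ^ (r : ℕ)) ∨ !![x, y; 0, z] = U2 ^ (r : ℕ) * d2 ∨
    !![x, y; 0, z] = -(U2 ^ (r : ℕ) * d2) := by decide +kernel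

/-- Elements normalising the unipotent group are triangular; the list of these. -/
theorem tri {A : M2} (hA : A.det ≠ 0) {a : Fin 3} (h : A * U2 = U2 ^ (a : ℕ) * A) :
    ∃ r : Fin 3, A = U2 ^ (r : ℕ) ∨ A = -(U2 ^ (r : ℕ)) ∨ A = U2 ^ (r : ℕ) * d2 ∨ A = -(U2 ^ (r : ℕ) * d2) := by
  obtain ⟨h0, h1⟩ := U2_pow_shape a
  have u01 : U2 0 1 = 1 := rfl
  have u11 : U2 1 1 = 1 := rfl
  have e' : (A * U2) 1 1 = (U2 ^ (a : ℕ) * A) 1 1 := by rw [h]
  rw [Matrix.mul_apply, Matrix.mul_apply, Fin.sum_univ_two, Fin.sum_univ_two, h0, h1, u01, u11, mul_one, mul_one,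
    zero_mul, zero_add, one_mul, add_eq_right] at e'
  have e := e'
  rw [Matrix.det_fin_two, e, mul_zero, sub_zero, mul_ne_zero_iff] at hA
  obtain ⟨r, hr⟩ := tri_list (A 0 0) (A 0 1) (A 1 1) hA.1 hA.2
  refine ⟨r, ?_⟩
  have hAe : A = !![A 0 0, A 0 1; 0, A 1 1] := by
    ext i j; fin_cases i <;> fin_cases j <;> simp [e]
  rwa [← hAe] at hr

theorem det_forms : (U2.det = 1) ∧ d2.det = -1 ∧ ∀ A : M2, (-A).det = A.det := by decide +kernel

/-- The four signs that occur. -/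
def tor : List M4 := [1, t4, bl d2 d2, bl d2 d2 * t4]

theorem tor_sign : ∀ a b : Fin 3, ∀ A ∈ [U2 ^ (a : ℕ), -(U2 ^ (a : ℕ)), U2 ^ (a : ℕ) * d2, -(U2 ^ (a : ℕ) * d2)],
    ∀ B ∈ [U2 ^ (b : ℕ), -(U2 ^ (b : ℕ)), U2 ^ (b : ℕ) * d2, -(U2 ^ (b : ℕ) * d2)],
    A.det * B.det = 1 → ∃ D ∈ tor, bl A B = bl (U2 ^ (a : ℕ)) (U2 ^ (b : ℕ)) * D ∨
      bl A B = -(bl (U2 ^ (a : ℕ)) (U2 ^ (b : ℕ)) * D) := by
  decide +kernel

/-! ### The elements of order four -/

/-- The three elements of order four generating the quaternion group. -/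
def q (k : Fin 3) : M2 := U2 ^ (k : ℕ) * i2 * U2 ^ (3 - (k : ℕ))

/-- The six axes. -/
def ax : Fin 2 × Fin 3 → M4
  | (0, k) => bl (q k) 1
  | (1, k) => bl 1 (q k)

/-- Axes whose elements do not commute. -/
def Adj (p r : Fin 2 × Fin 3) : Prop := p.1 = r.1 ∧ p.2 ≠ r.2

instance (p r : Fin 2 × Fin 3) : Decidable (Adj p r) := inferInstanceAs (Decidable (_ ∧ _))

theorem ax_comm : ∀ p r, (¬ Adj p r → ax p * ax r = ax r * ax p) ∧
    (Adj p r → ax p * ax r ≠ ax r * ax p ∧ ax p * ax r ≠ -(ax r * ax p)) := by decide +kernel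

theorem ax_ne : ∀ p r, p ≠ r → ax p ≠ ax r ∧ ax p ≠ -ax r ∧ ax p ≠ ax r * t4 ∧ ax p ≠ -(ax r * t4) := by
  decide +kernel

/-- The action of the group of order nine on the axes. -/
def trans (a b : Fin 3) (p : Fin 2 × Fin 3) : Fin 2 × Fin 3 := (p.1, p.2 + if p.1 = 0 then a else b)

theorem trans_ax : ∀ (a b : Fin 3) p, bl (U2 ^ (a : ℕ)) (U2 ^ (b : ℕ)) * ax p =
    ax (trans a b p) * bl (U2 ^ (a : ℕ)) (U2 ^ (b : ℕ)) := by decide +kernel

theorem fin_two_iter : ∀ f : Fin 2 → Fin 2, (∀ s, f (f (f s)) = s) → ∀ s, f s = s := by decide +kernel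

theorem fin_three_iter : ∀ f : Fin 3 → Fin 3, (∀ k, f (f (f k)) = k) → ∃ a, ∀ k, f k = k + a := by decide +kernel

theorem perm_trans (π : Equiv.Perm (Fin 2 × Fin 3)) (h3 : π * π * π = 1)
    (hadj : ∀ p r, Adj p r → Adj (π p) (π r)) : ∃ a b, ∀ p, π p = trans a b p := by
  have hiter : ∀ p, π (π (π p)) = p := fun p => congrArg (fun σ : Equiv.Perm _ => σ p) h3
  have hfib : ∀ s k, (π (s, k)).1 = (π (s, 0)).1 := fun s k => by
    by_cases hk : k = 0
    · rw [hk]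
    · exact (hadj (s, k) (s, 0) ⟨rfl, hk⟩).1
  have hf : ∀ s, (π (s, 0)).1 = s := fin_two_iter (fun s => (π (s, 0)).1) fun s => by
    have e : ∀ p, (π p).1 = (π (p.1, 0)).1 := fun p => hfib p.1 p.2
    show (π ((π ((π (s, 0)).1, 0)).1, 0)).1 = s
    rw [← e (π (s, 0)), ← e (π (π (s, 0))), hiter]
  have hsame : ∀ s k, π (s, k) = (s, (π (s, k)).2) := fun s k => Prod.ext ((hfib s k).trans (hf s)) rfl
  have hα : ∀ s, ∃ a, ∀ k, (π (s, k)).2 = k + a := fun s => fin_three_iter (fun k => (π (s, k)).2) fun k => by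
    show (π (s, (π (s, (π (s, k)).2)).2)).2 = k
    rw [← hsame, ← hsame, hiter]
  obtain ⟨a, ha⟩ := hα 0
  obtain ⟨b, hb⟩ := hα 1
  refine ⟨a, b, fun ⟨s, k⟩ => ?_⟩
  rw [hsame, trans]
  fin_cases s
  · exact Prod.ext rfl (by simpa using ha k)
  · exact Prod.ext rfl (by simpa using hb k)

theorem quat : ∀ A : M2, A.det = 1 → A ^ 4 = 1 → A = 1 ∨ A = -1 ∨ ∃ k, A = q k ∨ A = -q k := by decide +kernel

theorem q_sq : ∀ k, q k * q k = -1 ∧ (q k).det = 1 := by decide +kernel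

theorem sq_neg : ∀ A : M2, A * A = -1 → A.det = 1 ∧ A ^ 4 = 1 := by decide +kernel

theorem quat_mul : ∀ A : M2, A * A = -1 → ∀ B : M2, B * B = -1 → (A * B).det = 1 ∧ (A * B) ^ 4 = 1 := by
  decide +kernel

/-- Conjugation by a stabiliser of the pair of basic axes. -/
theorem i2_stab : ∀ A : M2, A.det ≠ 0 → (A * i2 = i2 * A ∨ A * i2 = -i2 * A) → A ^ 8 = 1 ∧
    (∀ k, ∃ r, A * q k = q r * A ∨ A * q k = -q r * A) := by decide +kernel

/-! ### The involutions -/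

theorem refl_conj : ∀ A : M2, A * A = 1 → A = 1 ∨ A = -1 ∨ (A.det = -1 ∧ ∃ P, P.det = 1 ∧ P * d2 = A * P) := by
  decide +kernel

theorem neg_conj : ∀ A : M2, A * A = -1 → ∃ P, P.det = 1 ∧ P * i2 = A * P := by decide +kernel

/-- The representative of the other class of involutions. -/
def x4 : M4 := bl i2 i2

theorem reps_one : ∀ D ∈ ([1, d2] : List M2), ∃ C ∈ ([
    !![0, 0, 2, 1; 0, 0, 1, 1; 1, 1, 0, 0; 1, 2, 0, 0], !![0, 0, 2, 1; 0, 0, 1, 1; 2, 1, 0, 0; 1, 1, 0, 0]] : List M4),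
    C.det = 1 ∧ C * t4 = bl D D * sg * C := by decide +kernel

theorem reps_neg : ∀ D ∈ ([1, d2] : List M2), ∃ C ∈ ([
    !![2, 0, 0, 0; 0, 0, 0, 1; 0, 1, 2, 0; 0, 1, 1, 0], !![2, 0, 0, 0; 0, 0, 0, 1; 0, 2, 0, 0; 0, 0, 1, 0]] : List M4),
    C.det = 1 ∧ C * x4 = bl D (-D) * sg * C := by decide +kernel

theorem reps_split {M : M4} (hM : M = bl d2 d2 ∨ M = t4 ∨ M = -t4) :
    ∃ C : M4, C.det = 1 ∧ C * t4 = M * C := by
  rcases hM with rfl | rfl | rfl
  · exact ⟨!![0, 0, 0, 1; 1, 0, 0, 0; 0, 0, 1, 0; 0, 1, 0, 0], by decide +kernel, by decide +kernel⟩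
  · exact ⟨1, by decide +kernel, by decide +kernel⟩
  · exact ⟨!![0, 0, 1, 0; 0, 0, 0, 1; 1, 0, 0, 0; 0, 1, 0, 0], by decide +kernel, by decide +kernel⟩

/-! ### Elements of order three commuting with the representative -/

/-- Off-diagonal block. -/
def up (C : M2) : M4 :=
  !![1, C 0 0, C 0 1, 0; 0, 1, 0, 0; 0, 0, 1, 0; 0, C 1 0, C 1 1, 1]

/-- The matrices commuting with `i2`. -/
def fld (a b : ZMod 3) : M2 := a • 1 + b • i2

theorem up_facts : ∀ a b, (up (fld a b)).det = 1 ∧ up (fld a b) * x4 = x4 * up (fld a b) ∧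
    (∀ c d, up (fld a b) * up (fld c d) = up (fld (a + c) (b + d))) ∧ up (fld a b) * up (fld a b) * up (fld a b) = 1 ∧
    ((a, b) ≠ (0, 0) → (fld a b).det ≠ 0) := by decide +kernel

theorem up_inj : ∀ a b, up (fld a b) = 1 ∨ up (fld a b) = -1 → a = 0 ∧ b = 0 := by decide +kernel

/-- An element of rank two is not conjugate to a transvection. -/
theorem up_not_conj {C : M2} (hC : C.det ≠ 0) {H : M4} (hH : H.det ≠ 0) : up C * H ≠ H * bl U2 1 := by
  intro h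
  apply hH
  have e : ∀ i j, (up C * H) i j = (H * bl U2 1) i j := fun i j => by rw [h]
  rw [Matrix.det_fin_two] at hC
  have h13 := e 1 3; have h23 := e 2 3
  have a0 := e 0 0; have b0 := e 3 0; have a1 := e 0 1; have b1 := e 3 1; have a2 := e 0 2; have b2 := e 3 2
  simp [up, bl, U2, Matrix.mul_apply, Fin.sum_univ_four] at h13 h23 a0 b0 a1 b1 a2 b2
  have solve : ∀ x y : ZMod 3, C 0 0 * x + C 0 1 * y = 0 → C 1 0 * x + C 1 1 * y = 0 → x = 0 ∧ y = 0 := by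
    intro x y hx hy
    have hx' : (C 0 0 * C 1 1 - C 0 1 * C 1 0) * x = 0 := by linear_combination C 1 1 * hx - C 0 1 * hy
    have hy' : (C 0 0 * C 1 1 - C 0 1 * C 1 0) * y = 0 := by linear_combination C 0 0 * hy - C 1 0 * hx
    exact ⟨(mul_eq_zero.1 hx').resolve_left hC, (mul_eq_zero.1 hy').resolve_left hC⟩
  have r1 := solve (H 1 1) (H 2 1) (by linear_combination a1) (by linear_combination b1)
  have r2 := solve (H 1 2) (H 2 2) (by linear_combination a2) (by linear_combination b2)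
  simp [Matrix.det_succ_row_zero, Fin.sum_univ_succ, Fin.succAbove, r1.1, r1.2, r2.1, r2.2, h13, h23]

/-! ### Conjugators for the elements of order three -/

/-- The four targets. -/
def tg : Fin 4 → M4
  | 0 => !![1, 0, 0, 1; 0, 1, 0, 0; 0, 0, 1, 0; 0, 0, 0, 1]
  | 1 => !![1, 0, 0, 0; 0, 1, 0, 1; 0, 0, 1, 0; 0, 0, 0, 1]
  | 2 => !![1, 0, 1, 0; 0, 1, 0, 1; 0, 0, 1, 0; 0, 0, 0, 1]
  | 3 => !![1, 0, 1, 0; 0, 1, 0, 2; 0, 0, 1, 0; 0, 0, 0, 1]

theorem tg_eq : (zm : SL4).1 = tg 0 ∧ (fm : SL4).1 = tg 1 ∧ ((wm 1 : Pv) : SL4).1 = tg 2 ∧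
    ((wm 2 : Pv) : SL4).1 = tg 3 := by decide +kernel

/-- Conjugators. -/
def cj : Fin 4 → M4
  | 0 => 1
  | 1 => !![1, 0, 0, 0; 0, 0, 1, 0; 0, 1, 0, 0; 0, 0, 0, 2]
  | 2 => !![1, 0, 0, 0; 0, 1, 0, 0; 0, 0, 0, 1; 0, 0, 2, 0]
  | 3 => !![1, 0, 0, 0; 0, 2, 0, 0; 0, 0, 0, 1; 0, 0, 1, 0]

theorem cj_det : ∀ n, (cj n).det = 1 := by decide +kernel

theorem cj_Pv : ∀ n i, cj n i 0 = if i = 0 then 1 else 0 := by decide +kernel

/-- Which conjugator and which target serve an element of the group of order nine. -/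
def sel : Fin 3 → Fin 3 → Fin 4 × Fin 4
  | 0, 0 => (0, 0)
  | 1, 0 => (0, 0)
  | 2, 0 => (1, 0)
  | 0, 1 => (2, 1)
  | 0, 2 => (3, 1)
  | 1, 1 => (3, 3)
  | 1, 2 => (3, 2)
  | 2, 1 => (2, 2)
  | 2, 2 => (2, 3)

theorem e_conj : ∀ a b : Fin 3, (a, b) ≠ (0, 0) →
    cj (sel a b).1 * tg (sel a b).2 = bl (U2 ^ (a : ℕ)) (U2 ^ (b : ℕ)) * cj (sel a b).1 := by decide +kernel

/-- The conjugator from the central transvection to `fm`. -/
def cf : M4 := !![0, 0, 1, 0; 1, 0, 0, 0; 0, 1, 0, 0; 0, 0, 0, 1]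

theorem cf_facts : cf.det = 1 ∧ cf * tg 0 = tg 1 * cf := by decide +kernel

end CfsgLib.L43.CT
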