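import Cfsg.Agent.LFourThree.Tensor

/-!
# The central involution inverts the module
-/

set_option autoImplicit false
set_option maxRecDepth 100000
set_option synthInstance.maxSize 100000
set_option synthInstance.maxHeartbeats 400000
set_option maxHeartbeats 2000000
set_option linter.style.haveILetI false

namespace CfsgLib.L43

open Matrix CfsgLib.G23Amalgam

theorem two_dim : ∀ U M : M2, U * U * U = 1 → M * M * M = 1 →
    U * (M * M) * U = M * M * U * (M * M) →
    (∀ v : V2, v ≠ 0 → ¬ (U *ᵥ v = v ∧ M *ᵥ v = v)) →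
    (U * (M * M) * U) * (U * (M * M) * U) = -1 := by decide +kernel

theorem sz_word : (su * (sv * sv) * su) * (su * (sv * sv) * su) = sz ∧
    su * (sv * sv) * su = sv * sv * su * (sv * sv) ∧ su * su * su = 1 ∧ sv * sv * sv = 1 := by
  decide +kernel

theorem one_dim : ∀ c : ZMod 3, c * c * c = 1 → c = 1 := by decide +kernel

variable {V : Type*} [AddCommGroup V] [Module (ZMod 3) V] [Finite V]

/-- One step of a chain: either trivial, or natural. -/
theorem step_cases (ρ : SS →* Module.End (ZMod 3) V) {X Y : Submodule (ZMod 3) V} (hXY : X < Y)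
    (hX : ∀ g, ∀ v ∈ X, ρ g v ∈ X) (hY : ∀ g, ∀ v ∈ Y, ρ g v ∈ Y)
    (hmax : ∀ B : Submodule (ZMod 3) V, X < B → B < Y → ∃ g, ∃ v ∈ B, ρ g v ∉ B)
    (hne : ∃ g, ∃ v ∈ Y, ρ g v - v ∉ X) :
    9 * Nat.card X ≤ Nat.card Y ∧
      (Nat.card Y = 9 * Nat.card X → ∀ v ∈ Y, ρ sz v + v ∈ X) := by
  classical
  haveI : Fact (Nat.Prime 3) := ⟨Nat.prime_three⟩
  -- no vector is fixed by both generators modulo the lower term
  have hfix : ∀ v ∈ Y, v ∉ X → ¬ (ρ su v - v ∈ X ∧ ρ sv v - v ∈ X) := by
    rintro v hvY hvX ⟨hu, hv⟩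
    let B : Submodule (ZMod 3) V := X ⊔ Submodule.span (ZMod 3) {v}
    have hBinv : ∀ g : SS, (∀ w ∈ B, ρ g w - w ∈ X) := by
      have hgen : ∀ g : SS, ρ g v - v ∈ X := by
        intro g
        have hpow : ∀ (a : SS), ρ a v - v ∈ X → ∀ n : ℕ, ρ (a ^ n) v - v ∈ X := by
          intro a ha n
          induction n with
          | zero => simp
          | succ n ih =>
            rw [pow_succ, map_mul, Module.End.mul_apply,
              show ρ (a ^ n) (ρ a v) - v = ρ (a ^ n) (ρ a v - v) + (ρ (a ^ n) v - v) by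
                rw [map_sub]; abel]
            exact add_mem (hX _ _ ha) ih
        have hmul : ∀ a b : SS, ρ a v - v ∈ X → ρ b v - v ∈ X → ρ (a * b) v - v ∈ X := by
          intro a b ha hb
          rw [map_mul, Module.End.mul_apply,
            show ρ a (ρ b v) - v = ρ a (ρ b v - v) + (ρ a v - v) by rw [map_sub]; abel]
          exact add_mem (hX _ _ hb) ha
        obtain ⟨a, b, c, d, rfl⟩ := ss_word g
        exact hmul _ _ (hmul _ _ (hmul _ _ (hpow _ hu _) (hpow _ hv _)) (hpow _ hu _)) (hpow _ hv _)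
      intro g w hw
      obtain ⟨x, hx, y, hy, rfl⟩ := Submodule.mem_sup.1 hw
      obtain ⟨c, rfl⟩ := Submodule.mem_span_singleton.1 hy
      rw [map_add, map_smul, show ρ g x + c • ρ g v - (x + c • v) = (ρ g x - x) + c • (ρ g v - v) by
        rw [smul_sub]; abel]
      exact add_mem (sub_mem (hX g x hx) hx) (X.smul_mem c (hgen g))
    have hXB : X < B := lt_of_le_of_ne le_sup_left fun e => hvX (by
      rw [e]; exact Submodule.mem_sup_right (Submodule.mem_span_singleton_self v))
    have hBY : B ≤ Y := sup_le hXY.le ((Submodule.span_singleton_le_iff_mem _ _).2 hvY)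
    rcases hBY.lt_or_eq with h | h
    · obtain ⟨g, w, hw, hgw⟩ := hmax B hXB h
      refine hgw ?_
      have := add_mem (le_sup_left (a := X) (hBinv g w hw)) hw
      rwa [sub_add_cancel] at this
    · obtain ⟨g, w, hw, hgw⟩ := hne
      exact hgw (hBinv g w (h.symm ▸ hw))
  -- the section
  let X' : Submodule (ZMod 3) Y := X.comap Y.subtype
  let σ : SS →* Module.End (ZMod 3) (Y ⧸ X') :=
    { toFun := fun g => Submodule.mapQ X' X' ((ρ g).restrict (p := Y) (q := Y) (hY g))
        fun w hw => hX g _ hw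
      map_one' := by
        refine Submodule.linearMap_qext _ (LinearMap.ext fun w => ?_)
        show Submodule.Quotient.mk _ = Submodule.Quotient.mk w
        congr 1
        exact Subtype.ext (by simp)
      map_mul' := fun a b => by
        refine Submodule.linearMap_qext _ (LinearMap.ext fun w => ?_)
        show Submodule.Quotient.mk _ = Submodule.Quotient.mk _
        congr 1
        exact Subtype.ext (by simp) }
  have hcard : Nat.card Y = Nat.card (Y ⧸ X') * Nat.card X := by
    rw [Submodule.card_eq_card_quotient_mul_card X', mul_comm,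
      Nat.card_congr (Submodule.comapSubtypeEquivOfLe hXY.le).toEquiv]
  set d := Module.finrank (ZMod 3) (Y ⧸ X') with hd
  have hq : Nat.card (Y ⧸ X') = 3 ^ d := by
    rw [Module.natCard_eq_pow_finrank (K := ZMod 3), Nat.card_zmod]
  have hσfix : ∀ w : Y ⧸ X', σ su w = w → σ sv w = w → w = 0 := by
    intro w h1 h2
    obtain ⟨⟨w, hw⟩, rfl⟩ := Submodule.Quotient.mk_surjective _ w
    by_contra hw0
    refine hfix w hw (fun h => hw0 ((Submodule.Quotient.mk_eq_zero _).2 h)) ⟨?_, ?_⟩
    · exact (Submodule.Quotient.eq X').1 h1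
    · exact (Submodule.Quotient.eq X').1 h2
  have h2 : 2 ≤ d := by
    by_contra hlt
    have hd0 : d ≠ 0 := fun h0 => by
      rw [hq, h0, pow_zero, one_mul] at hcard
      exact hXY.ne (SetLike.ext' (Set.eq_of_subset_of_ncard_le hXY.le (le_of_eq (by
        simpa [← Nat.card_coe_set_eq] using hcard)) (Set.toFinite _)))
    have hd1 : d = 1 := by omega
    obtain ⟨w, hw0, hw⟩ := finrank_eq_one_iff'.1 hd1
    have hev : ∀ g : SS, g * g * g = 1 → σ g w = w := by
      intro g hg
      obtain ⟨c, hc⟩ := hw (σ g w)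
      have h3 : σ g (σ g (σ g w)) = w := by
        rw [← Module.End.mul_apply, ← Module.End.mul_apply, ← map_mul, ← map_mul, hg, map_one,
          Module.End.one_apply]
      rw [← hc, map_smul, ← hc, smul_smul, map_smul, ← hc, smul_smul] at h3
      have : c * c * c = 1 := by
        by_contra hne'
        have h4 : (c * c * c - 1) • w = 0 := by rw [sub_smul, h3, one_smul, sub_self]
        exact hw0 ((smul_eq_zero.1 h4).resolve_left (sub_ne_zero.2 hne'))
      rw [← hc, one_dim c this, one_smul]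
    exact hw0 (hσfix w (hev _ sz_word.2.2.1) (hev _ sz_word.2.2.2))
  refine ⟨?_, fun h9 v hv => ?_⟩
  · rw [hcard, hq]
    exact Nat.mul_le_mul_right _ (show 3 ^ 2 ≤ 3 ^ d from Nat.pow_le_pow_right (by norm_num) h2)
  have hd2 : d = 2 := by
    rw [hcard, hq] at h9
    have := Nat.eq_of_mul_eq_mul_right Nat.card_pos h9
    exact Nat.pow_right_injective (le_refl 2 |>.trans (by norm_num) : 2 ≤ 3)
      (this.trans (by norm_num : (9 : ℕ) = 3 ^ 2))
  let bas := Module.finBasisOfFinrankEq (ZMod 3) (Y ⧸ X') hd2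
  let Φ : SS →* M2 := (LinearMap.toMatrixAlgEquiv bas).toAlgHom.toMonoidHom.comp σ
  have hΦ : ∀ g w, Φ g *ᵥ bas.equivFun w = bas.equivFun (σ g w) := fun g w =>
    LinearMap.toMatrix_mulVec_repr bas bas (σ g) w
  have hneg : Φ sz = -1 := by
    rw [← sz_word.1]
    simp only [map_mul]
    refine two_dim _ _ (by rw [← map_mul, ← map_mul, sz_word.2.2.1, map_one])
      (by rw [← map_mul, ← map_mul, sz_word.2.2.2, map_one])
      (by simp only [← map_mul, sz_word.2.1]) fun c hc hfixc => hc ?_
    obtain ⟨w, rfl⟩ := bas.equivFun.surjective c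
    rw [hΦ, hΦ] at hfixc
    rw [hσfix w (bas.equivFun.injective hfixc.1) (bas.equivFun.injective hfixc.2), map_zero]
  have hz : σ sz (Submodule.Quotient.mk ⟨v, hv⟩) = -Submodule.Quotient.mk ⟨v, hv⟩ := by
    refine bas.equivFun.injective ?_
    rw [← hΦ, hneg, map_neg, Matrix.neg_mulVec, Matrix.one_mulVec]
  have := (Submodule.Quotient.eq X').1 (hz.trans (Submodule.Quotient.mk_neg X').symm)
  simpa [X', sub_neg_eq_add] using this

/-- A chain with two nontrivial factors: the central involution inverts the module. -/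
theorem sz_neg (hV : Nat.card V = 81) (ρ : SS →* Module.End (ZMod 3) V) (r : ℕ)
    (A : Fin (r + 1) → Submodule (ZMod 3) V) (h0 : A 0 = ⊥) (hl : A (Fin.last r) = ⊤)
    (hmono : ∀ i : Fin r, A i.castSucc < A i.succ) (hinv : ∀ i g, ∀ v ∈ A i, ρ g v ∈ A i)
    (hmax : ∀ i : Fin r, ∀ B, A i.castSucc < B → B < A i.succ → ∃ g, ∃ v ∈ B, ρ g v ∉ B)
    (htwo : ∃ i j : Fin r, i ≠ j ∧ (∃ g, ∃ v ∈ A i.succ, ρ g v - v ∉ A i.castSucc) ∧
      ∃ g, ∃ v ∈ A j.succ, ρ g v - v ∉ A j.castSucc) :
    ρ sz = -1 := by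
  classical
  haveI : Fact (Nat.Prime 3) := ⟨Nat.prime_three⟩
  obtain ⟨i, j, hij, hi, hj⟩ := htwo
  have hi' := step_cases ρ (hmono i) (fun g => hinv _ g) (fun g => hinv _ g) (hmax i) hi
  have hj' := step_cases ρ (hmono j) (fun g => hinv _ g) (fun g => hinv _ g) (hmax j) hj
  let f : Fin (r + 1) → ℕ := fun k => Module.finrank (ZMod 3) (A k)
  have hcard : ∀ k, Nat.card (A k) = 3 ^ f k := fun k => by
    rw [Module.natCard_eq_pow_finrank (K := ZMod 3), Nat.card_zmod]
  have hstep : ∀ k : Fin r, f k.castSucc + 1 ≤ f k.succ := fun k =>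
    Submodule.finrank_lt_finrank_of_lt (hmono k)
  have htwo' : ∀ k : Fin r, 9 * Nat.card (A k.castSucc) ≤ Nat.card (A k.succ) →
      f k.castSucc + 2 ≤ f k.succ := fun k h => by
    rw [hcard, hcard, show (9 : ℕ) = 3 ^ 2 from rfl, ← pow_add] at h
    have := (Nat.pow_le_pow_iff_right (by norm_num : 1 < 3)).1 h
    omega
  have hf0 : f 0 = 0 := by simp [f, h0]
  have hfl : f (Fin.last r) = 4 := by
    have h := hcard (Fin.last r)
    rw [hl, Nat.card_congr (LinearEquiv.ofTop _ rfl).toEquiv, hV] at h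
    exact (Nat.pow_right_injective (le_refl 2 |>.trans (by norm_num) : 2 ≤ 3)
      ((show (3 : ℕ) ^ 4 = 81 by norm_num).trans h)).symm
  -- lower bound along the chain
  have hind : ∀ k : Fin (r + 1),
      (k : ℕ) + (if (i : ℕ) < k then 1 else 0) + (if (j : ℕ) < k then 1 else 0) ≤ f k := by
    intro k
    induction k using Fin.induction with
    | zero => simp [hf0]
    | succ k ih =>
      simp only [Fin.val_succ, Fin.coe_castSucc] at ih ⊢
      have h1 := hstep k
      by_cases hki : k = i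
      · subst hki
        have := htwo' _ hi'.1
        split_ifs at ih ⊢ <;> omega
      by_cases hkj : k = j
      · subst hkj
        have := htwo' _ hj'.1
        split_ifs at ih ⊢ <;> omega
      have hki' : (k : ℕ) ≠ i := fun h => hki (Fin.ext h)
      have hkj' : (k : ℕ) ≠ j := fun h => hkj (Fin.ext h)
      split_ifs at ih ⊢ <;> omega
  have hle := hind (Fin.last r)
  simp only [Fin.val_last, if_pos i.isLt, if_pos j.isLt, hfl] at hle
  have hij' : (i : ℕ) ≠ j := fun h => hij (Fin.ext h)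
  have hi2 := i.isLt
  have hj2 := j.isLt
  have hr : r = 2 := by omega
  subst hr
  have ha : f (Fin.last 2) = f (Fin.castSucc (1 : Fin 2)) + 2 ∧ f (Fin.castSucc (1 : Fin 2)) = 2 := by
    have e1 := htwo' i hi'.1
    have e2 := htwo' j hj'.1
    rcases (show (i : ℕ) = 0 ∧ (j : ℕ) = 1 ∨ (i : ℕ) = 1 ∧ (j : ℕ) = 0 by omega) with ⟨a, b⟩ | ⟨a, b⟩
    · obtain rfl : i = 0 := Fin.ext a
      obtain rfl : j = 1 := Fin.ext b
      simp only [show Fin.succ (0 : Fin 2) = Fin.castSucc (1 : Fin 2) from rfl,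
        show Fin.succ (1 : Fin 2) = Fin.last 2 from rfl, show Fin.castSucc (0 : Fin 2) = 0 from rfl,
        hf0, hfl] at e1 e2 ⊢
      omega
    · obtain rfl : i = 1 := Fin.ext a
      obtain rfl : j = 0 := Fin.ext b
      simp only [show Fin.succ (0 : Fin 2) = Fin.castSucc (1 : Fin 2) from rfl,
        show Fin.succ (1 : Fin 2) = Fin.last 2 from rfl, show Fin.castSucc (0 : Fin 2) = 0 from rfl,
        hf0, hfl] at e1 e2 ⊢
      omega
  have h9 : ∀ k : Fin 2, f k.succ = f k.castSucc + 2 := by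
    intro k
    fin_cases k
    · simpa [hf0] using ha.2
    · simpa using ha.1
  have hneg : ∀ k : Fin 2, ∀ v ∈ A k.succ, ρ sz v + v ∈ A k.castSucc := by
    intro k
    have hk : k = i ∨ k = j := by
      rcases (show (k : ℕ) = i ∨ (k : ℕ) = j by have := k.isLt; omega) with h | h
      exacts [Or.inl (Fin.ext h), Or.inr (Fin.ext h)]
    have he : Nat.card (A k.succ) = 9 * Nat.card (A k.castSucc) := by
      rw [hcard, hcard, h9]; ring
    rcases hk with rfl | rfl
    · exact hi'.2 he
    · exact hj'.2 he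
  refine LinearMap.ext fun v => ?_
  have h1 := hneg 1 v (by
    rw [show Fin.succ (1 : Fin 2) = Fin.last 2 from rfl, hl]; exact Submodule.mem_top)
  have h2 := hneg 0 (ρ sz v + v) (by
    rwa [show Fin.succ (0 : Fin 2) = Fin.castSucc (1 : Fin 2) from rfl])
  rw [show Fin.castSucc (0 : Fin 2) = 0 from rfl, h0, Submodule.mem_bot, map_add,
    ← Module.End.mul_apply, ← map_mul, sz_sq.1, map_one, Module.End.one_apply] at h2
  rw [LinearMap.neg_apply, Module.End.one_apply]
  have h3 : (3 : ZMod 3) • (v + ρ sz v) = 0 := by rw [show (3 : ZMod 3) = 0 from rfl, zero_smul]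
  rw [show (3 : ZMod 3) = 1 + 1 + 1 from rfl, add_smul, add_smul, one_smul] at h3
  refine eq_neg_of_add_eq_zero_left ?_
  rw [add_comm (ρ sz v) v]
  calc v + ρ sz v = (v + ρ sz v + (v + ρ sz v) + (v + ρ sz v)) - (v + ρ sz v + (ρ sz v + v)) := by abel
    _ = 0 := by rw [h3, h2, sub_zero]

end CfsgLib.L43
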