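import Cfsg.Agent.LFourThree.Frame

/-!
# The action of the normalizer of the abelian subgroup of order 27
-/

set_option autoImplicit false
set_option maxRecDepth 100000
set_option linter.style.haveILetI false
set_option linter.unusedSectionVars false
set_option maxHeartbeats 1600000

namespace CfsgLib.L43

open Subgroup CfsgLib.G23Amalgam Matrix

universe u

/-- `3 × 3` matrices. -/
abbrev M3 := Matrix (Fin 3) (Fin 3) (ZMod 3)
/-- Row vectors. -/
abbrev V3 := Fin 3 → ZMod 3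
/-- `SL(3,3)`. -/
abbrev SL3' := Matrix.SpecialLinearGroup (Fin 3) (ZMod 3)

/-- The last coordinate vector. -/
def e2 : V3 := ![0, 0, 1]

/-- The coordinates and an involution. -/
structure Stg (G : Type u) [Group G] where
  L : Loc G
  hB : L.B = !![0, 1; 1, 0]
  g : G
  hy : g * L.z * g⁻¹ ∈ L.Q
  hyz : g * L.z * g⁻¹ ∉ zpowers L.z
  h2 : (L.π (g * L.z * g⁻¹)).2 = 0
  t : G
  t_mem : t ∈ L.C
  t_sq : t * t = 1
  t_ρ : L.ρ t = sz

theorem Loc.exists_t {G : Type u} [Group G] (L : Loc G) : ∃ t ∈ L.C, t * t = 1 ∧ L.ρ t = sz := by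
  obtain ⟨a, ha, hρ⟩ := L.ρ_surj sz
  have h2 : L.ρ (a * a) = 1 := by rw [L.ρ_mul a ha a ha, hρ]; decide +kernel
  have hq := L.exp _ ((L.ρ_ker _ (mul_mem ha ha)).1 h2)
  refine ⟨a * a * a, mul_mem (mul_mem ha ha) ha, ?_, ?_⟩
  · rw [← hq]; group
  · rw [L.ρ_mul _ (mul_mem ha ha) a ha, h2, one_mul, hρ]

theorem pow_val_add {M : Type*} [Monoid M] {x : M} (h : x ^ 3 = 1) (a b : ZMod 3) :
    x ^ (a + b).val = x ^ a.val * x ^ b.val := by
  rw [← pow_add, ZMod.val_add, ← pow_mod_orderOf (n := a.val + b.val), ← pow_mod_orderOf (n := (a.val + b.val) % 3)]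
  refine congrArg (x ^ ·) ?_
  rw [Nat.mod_mod_of_dvd _ (orderOf_dvd_of_pow_eq_one h)]

theorem V3_eta (r : V3) : r = ![r 0, r 1, r 2] := by ext i; fin_cases i <;> rfl

theorem row2_table : ∀ r : V3, (r 0 ≠ 0 ∨ r 1 ≠ 0) → ∀ r' : V3, (r' 0 ≠ 0 ∨ r' 1 ≠ 0) →
    ∃ h : SS, (h.1 *ᵥ ![r 0, r 1]) = ![r' 0, r' 1] := fun r hr r' hr' =>
  trans_table _ _ (fun h => hr.elim (fun k => k (congrFun h 0)) (fun k => k (congrFun h 1)))
    (fun h => hr'.elim (fun k => k (congrFun h 0)) (fun k => k (congrFun h 1)))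

theorem det_cube_table : ∀ d : ZMod 3, d * d * d = 1 → d = 1 := by decide

theorem sinv_table : ∀ h : SS, (h⁻¹ : SS).1 * h.1 = 1 ∧ ((h⁻¹ : SS).1).det = 1 := fun h =>
  ⟨congrArg Subtype.val (inv_mul_cancel h), (h⁻¹).2⟩

namespace Stg

variable {G : Type u} [Group G] (D : Stg G)

/-- The abelian subgroup of order 27. -/
def U : Subgroup G where
  carrier := {x | x ∈ D.L.Q ∧ (D.L.π x).2 = 0}
  one_mem' := ⟨one_mem _, by rw [D.L.π_one]; rfl⟩
  mul_mem' := by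
    rintro a b ⟨ha, ha'⟩ ⟨hb, hb'⟩
    exact ⟨mul_mem ha hb, by rw [D.L.π_mul a ha b hb, Prod.snd_add, ha', hb', add_zero]⟩
  inv_mem' := by
    rintro a ⟨ha, ha'⟩
    exact ⟨inv_mem ha, by rw [D.L.π_inv ha, Prod.snd_neg, ha', neg_zero]⟩

theorem mem_U {x : G} : x ∈ D.U ↔ x ∈ D.L.Q ∧ (D.L.π x).2 = 0 := Iff.rfl

theorem form_eq (v w : W4) : form D.L.B v w = det2 v.1 w.2 + det2 v.2 w.1 := by
  simp [D.hB, form]

theorem U_comm {a b : G} (ha : a ∈ D.U) (hb : b ∈ D.U) : a * b = b * a :=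
  (D.L.comm_iff ha.1 hb.1).2 (by rw [form_eq, ha.2, hb.2]; simp [det2])

theorem z_mem_U : D.L.z ∈ D.U :=
  ⟨D.L.z_mem, by rw [(D.L.π_ker _ D.L.z_mem).2 (mem_zpowers _)]; rfl⟩

theorem t_inv : D.t⁻¹ = D.t := inv_eq_of_mul_eq_one_right D.t_sq

theorem t_conj (x : G) : D.t * (D.t * x * D.t) * D.t = x := by
  calc D.t * (D.t * x * D.t) * D.t = D.t * D.t * x * (D.t * D.t) := by group
    _ = x := by rw [D.t_sq]; group

theorem π_t {q : G} (hq : q ∈ D.L.Q) : D.L.π (D.t * q * D.t⁻¹) = -D.L.π q := by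
  rw [D.L.conj _ D.t_mem q hq, D.t_ρ]
  exact Prod.ext (sz_act _) (sz_act _)

theorem zk_comm {q : G} (hq : q ∈ D.L.C) (k : ℕ) : q * D.L.z ^ k = D.L.z ^ k * q :=
  (Commute.pow_right (mem_centralizer_singleton_iff.1 hq) k).eq

theorem z3 : D.L.z ^ 3 = 1 := by rw [pow_succ, pow_two]; exact D.L.z_cube

theorem tinv_unique {q q' : G} (hq : q ∈ D.L.Q) (hq' : q' ∈ D.L.Q) (e : D.L.π q = D.L.π q')
    (h : D.t * q * D.t⁻¹ = q⁻¹) (h' : D.t * q' * D.t⁻¹ = q'⁻¹) : q = q' := by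
  obtain ⟨k, hk⟩ := D.L.mem_zp ((D.L.π_eq_iff hq hq').1 e)
  have hq'e : q' = q * D.L.z ^ k.val := by rw [← hk]; group
  rw [hq'e, _root_.mul_inv_rev, show D.t * (q * D.L.z ^ k.val) * D.t⁻¹ = D.t * q * (D.L.z ^ k.val * D.t⁻¹) by group,
    ← D.zk_comm (inv_mem D.t_mem), ← mul_assoc, h, D.zk_comm (inv_mem (D.L.Q_le hq))] at h'
  have h1 := mul_right_cancel h'
  have h2 : D.L.z ^ (k + k).val = 1 := by
    rw [pow_val_add D.z3, eq_inv_iff_mul_eq_one.1 h1]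
  have hk0 : k + k = 0 := D.L.zpow_inj (by rw [h2, ZMod.val_zero, pow_zero])
  have : k = 0 := (by decide : ∀ k : ZMod 3, k + k = 0 → k = 0) k hk0
  rw [hq'e, this, ZMod.val_zero, pow_zero, mul_one]

theorem exists_tlift (v : W4) : ∃ q ∈ D.L.Q, D.L.π q = v ∧ D.t * q * D.t⁻¹ = q⁻¹ := by
  obtain ⟨q, hq, rfl⟩ := D.L.π_surj v
  have hc := D.L.conjQ D.t_mem hq
  obtain ⟨k, hk⟩ := D.L.mem_zp ((D.L.π_eq_iff (inv_mem hq) hc).1 (by rw [D.L.π_inv hq, D.π_t hq]))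
  refine ⟨q * D.L.z ^ k.val, mul_mem hq (pow_mem D.L.z_mem _), ?_, ?_⟩
  · rw [D.L.π_mul _ hq _ (pow_mem D.L.z_mem _), (D.L.π_ker _ (pow_mem D.L.z_mem _)).2
      (pow_mem (mem_zpowers _) _), add_zero]
  · have h3 : D.L.z ^ k.val * D.L.z ^ k.val = (D.L.z ^ k.val)⁻¹ := by
      refine eq_inv_of_mul_eq_one_left ?_
      rw [← pow_add, ← pow_add, show k.val + k.val + k.val = 3 * k.val by ring, pow_mul, D.z3, one_pow]
    calc D.t * (q * D.L.z ^ k.val) * D.t⁻¹ = D.t * q * (D.L.z ^ k.val * D.t⁻¹) := by group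
      _ = D.t * q * (D.t⁻¹ * D.L.z ^ k.val) := by rw [D.zk_comm (inv_mem D.t_mem)]
      _ = q⁻¹ * (D.L.z ^ k.val * D.L.z ^ k.val) := by
        have e : D.t * q * D.t⁻¹ = q⁻¹ * D.L.z ^ k.val := by rw [← hk]; group
        rw [← mul_assoc, e, mul_assoc]
      _ = (q * D.L.z ^ k.val)⁻¹ := by
        rw [h3, D.zk_comm (D.L.Q_le hq), _root_.mul_inv_rev]

/-- The lift inverted by `t`. -/
noncomputable def tl (v : W4) : G := (D.exists_tlift v).choose

theorem tl_spec (v : W4) : D.tl v ∈ D.L.Q ∧ D.L.π (D.tl v) = v ∧ D.t * D.tl v * D.t⁻¹ = (D.tl v)⁻¹ :=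
  (D.exists_tlift v).choose_spec

/-- Coordinates on `U`. -/
noncomputable def cU (r : V3) : G :=
  D.tl (![1, 0], 0) ^ (r 0).val * D.tl (![0, 1], 0) ^ (r 1).val * D.L.z ^ (r 2).val

theorem tl_mem_U (a : V2) : D.tl (a, 0) ∈ D.U :=
  ⟨(D.tl_spec _).1, by rw [(D.tl_spec _).2.1]⟩

theorem cU_mem (r : V3) : D.cU r ∈ D.U :=
  mul_mem (mul_mem (pow_mem (D.tl_mem_U _) _) (pow_mem (D.tl_mem_U _) _)) (pow_mem D.z_mem_U _)

theorem π_cU (r : V3) : D.L.π (D.cU r) = (![r 0, r 1], 0) := by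
  have h1 := (D.tl_spec (![1, 0], 0)).1
  have h2 := (D.tl_spec (![0, 1], 0)).1
  rw [cU, D.L.π_mul _ (mul_mem (pow_mem h1 _) (pow_mem h2 _)) _ (pow_mem D.L.z_mem _),
    D.L.π_mul _ (pow_mem h1 _) _ (pow_mem h2 _), D.L.π_pow h1, D.L.π_pow h2,
    (D.tl_spec _).2.1, (D.tl_spec _).2.1,
    (D.L.π_ker _ (pow_mem D.L.z_mem _)).2 (pow_mem (mem_zpowers _) _), add_zero,
    ZMod.natCast_zmod_val, ZMod.natCast_zmod_val]
  refine Prod.ext ?_ (by simp)
  ext i; fin_cases i <;> simp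

theorem cU_add (r r' : V3) : D.cU (r + r') = D.cU r * D.cU r' := by
  have hc : ∀ {a b : G}, a ∈ D.U → b ∈ D.U → Commute a b := fun ha hb => D.U_comm ha hb
  have h3 : ∀ a, D.tl (a, 0) ^ 3 = 1 := fun a => by
    rw [pow_succ, pow_two]; exact D.L.exp _ (D.tl_spec _).1
  simp only [cU, Pi.add_apply, pow_val_add (h3 _), pow_val_add D.z3]
  set a := D.tl (![1, 0], 0) ^ (r 0).val
  set b := D.tl (![0, 1], 0) ^ (r 1).val
  set c := D.L.z ^ (r 2).val
  set a' := D.tl (![1, 0], 0) ^ (r' 0).val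
  set b' := D.tl (![0, 1], 0) ^ (r' 1).val
  set c' := D.L.z ^ (r' 2).val
  have ha' : a' ∈ D.U := pow_mem (D.tl_mem_U _) _
  have hb : b ∈ D.U := pow_mem (D.tl_mem_U _) _
  have hb' : b' ∈ D.U := pow_mem (D.tl_mem_U _) _
  have hcU : c ∈ D.U := pow_mem D.z_mem_U _
  calc a * a' * (b * b') * (c * c') = a * (a' * b) * (b' * c) * c' := by group
    _ = a * (b * a') * (c * b') * c' := by rw [(hc ha' hb).eq, (hc hb' hcU).eq]
    _ = a * b * (a' * c) * b' * c' := by group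
    _ = a * b * (c * a') * b' * c' := by rw [(hc ha' hcU).eq]
    _ = a * b * c * (a' * b' * c') := by group

theorem cU_zero : D.cU 0 = 1 := by simp [cU]

theorem cU_inj : Function.Injective D.cU := by
  intro r r' h
  have e := congrArg Prod.fst ((D.π_cU r).symm.trans ((congrArg D.L.π h).trans (D.π_cU r')))
  have e0 : r 0 = r' 0 := congrFun e 0
  have e1 : r 1 = r' 1 := congrFun e 1
  have e2' : r 2 = r' 2 := D.L.zpow_inj (by
    simp only [cU, e0, e1] at h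
    exact mul_left_cancel h)
  ext i; fin_cases i <;> assumption

theorem cU_e2 : D.cU e2 = D.L.z := by
  simp [cU, e2, ZMod.val_one_eq_one_mod]

theorem cU_surj {x : G} (hx : x ∈ D.U) : ∃ r, D.cU r = x := by
  let r0 : V3 := ![(D.L.π x).1 0, (D.L.π x).1 1, 0]
  obtain ⟨k, hk⟩ := D.L.mem_zp ((D.L.π_eq_iff (D.cU_mem r0).1 hx.1).1 (by
    rw [D.π_cU]
    exact Prod.ext (by ext i; fin_cases i <;> simp [r0]) hx.2.symm))
  refine ⟨r0 + ![0, 0, k], ?_⟩
  rw [D.cU_add, show D.cU ![0, 0, k] = D.L.z ^ k.val by simp [cU], ← hk]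
  group

/-- The normalizer of `U`. -/
abbrev N : Subgroup G := normalizer (D.U : Set G)

theorem C_le : D.L.C ≤ D.N := by
  have key : ∀ a ∈ D.L.C, ∀ x ∈ D.U, a * x * a⁻¹ ∈ D.U := fun a ha x hx =>
    ⟨D.L.conjQ ha hx.1, by
      rw [D.L.conj a ha x hx.1]
      show _ *ᵥ (D.L.π x).2 = 0
      rw [hx.2, Matrix.mulVec_zero]⟩
  intro a ha
  refine mem_normalizer_iff.2 fun x => ⟨key a ha x, fun h => ?_⟩
  simpa [mul_assoc] using key a⁻¹ (inv_mem ha) _ h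

theorem exists_coord (n : D.N) (r : V3) : ∃ r', D.cU r' = (n : G)⁻¹ * D.cU r * n :=
  D.cU_surj (by
    have := (mem_normalizer_iff.1 (inv_mem n.2) (D.cU r)).1 (D.cU_mem r)
    rwa [inv_inv] at this)

/-- The additive action on coordinates. -/
noncomputable def lin (n : D.N) : V3 →+ V3 :=
  AddMonoidHom.mk' (fun r => (D.exists_coord n r).choose) fun r s => D.cU_inj (by
    rw [(D.exists_coord n (r + s)).choose_spec, D.cU_add (D.exists_coord n r).choose,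
      (D.exists_coord n r).choose_spec, (D.exists_coord n s).choose_spec, D.cU_add]
    group)

/-- The matrix of the action. -/
noncomputable def A (n : D.N) : M3 := fun i => D.lin n (Pi.single i 1)

theorem cU_vecMul (n : D.N) (r : V3) : D.cU (r ᵥ* D.A n) = (n : G)⁻¹ * D.cU r * n := by
  refine Eq.trans (congrArg D.cU ?_) (D.exists_coord n r).choose_spec
  show _ = D.lin n r
  conv_rhs => rw [← Finset.univ_sum_single r, map_sum]
  ext j
  simp only [Matrix.vecMul, dotProduct, Finset.sum_apply]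
  refine Finset.sum_congr rfl fun i _ => ?_
  rw [show (Pi.single i (r i) : V3) = r i • Pi.single i 1 by rw [← Pi.single_smul', smul_eq_mul, mul_one],
    ZMod.map_smul]
  rfl

theorem A_ext {n : D.N} {M : M3} (h : ∀ r, D.cU (r ᵥ* M) = (n : G)⁻¹ * D.cU r * n) : D.A n = M := by
  ext i j
  have := congrFun (D.cU_inj ((D.cU_vecMul n (Pi.single i 1)).trans (h (Pi.single i 1)).symm)) j
  simpa using this

theorem A_one : D.A 1 = 1 := D.A_ext fun r => by simp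

theorem A_mul (m n : D.N) : D.A (m * n) = D.A m * D.A n := D.A_ext fun r => by
  rw [← Matrix.vecMul_vecMul, D.cU_vecMul, D.cU_vecMul, Subgroup.coe_mul]
  group

theorem A_e2 {n : D.N} (hn : (n : G) ∈ D.L.C) : e2 ᵥ* D.A n = e2 := D.cU_inj (by
  rw [D.cU_vecMul, D.cU_e2, mul_assoc, ← mem_centralizer_singleton_iff.1 hn, inv_mul_cancel_left])

theorem mem_C_of_A {n : D.N} (hn : e2 ᵥ* D.A n = e2) : (n : G) ∈ D.L.C := by
  have h := D.cU_vecMul n e2
  rw [hn, D.cU_e2] at h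
  exact mem_centralizer_singleton_iff.2 (by rw [mul_assoc, eq_inv_mul_iff_mul_eq] at h; exact h)

theorem A_block {n : D.N} (hn : (n : G) ∈ D.L.C) (r : V3) :
    ![(r ᵥ* D.A n) 0, (r ᵥ* D.A n) 1] = (D.L.ρ n)⁻¹.1 *ᵥ ![r 0, r 1] := by
  have h := congrArg D.L.π (D.cU_vecMul n r)
  rw [D.π_cU, show (n : G)⁻¹ * D.cU r * n = (n : G)⁻¹ * D.cU r * (n : G)⁻¹⁻¹ by rw [inv_inv],
    D.L.conj _ (inv_mem hn) _ (D.cU_mem r).1, D.π_cU, D.L.ρ_inv hn] at h
  exact congrArg Prod.fst h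

theorem det_C {n : D.N} (hn : (n : G) ∈ D.L.C) : (D.A n).det = 1 := by
  have he := D.A_e2 hn
  have r2 : ∀ j, D.A n 2 j = e2 j := fun j => by
    have := congrFun he j
    simpa [e2, Matrix.vecMul, dotProduct, Fin.sum_univ_three] using this
  have b0 := D.A_block hn ![1, 0, 0]
  have b1 := D.A_block hn ![0, 1, 0]
  have e00 := congrFun b0 0
  have e01 := congrFun b0 1
  have e10 := congrFun b1 0
  have e11 := congrFun b1 1
  have hd := ((D.L.ρ n)⁻¹).2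
  rw [Matrix.det_fin_two] at hd
  simp [Matrix.vecMul, Matrix.mulVec, dotProduct, Fin.sum_univ_three, Fin.sum_univ_two,
    Matrix.SpecialLinearGroup.coe_inv] at e00 e01 e10 e11
  rw [Matrix.det_fin_three, r2, r2, r2]
  simp [e2]
  simp [Matrix.SpecialLinearGroup.coe_inv] at hd
  rw [e00, e01, e10, e11]
  linear_combination hd

theorem exists_C (h : SS) : ∃ n : D.N, (n : G) ∈ D.L.C ∧ D.L.ρ n = h := by
  obtain ⟨c, hc, e⟩ := D.L.ρ_surj h
  exact ⟨⟨c, D.C_le hc⟩, hc, e⟩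

theorem exists_translation (f : V2) : ∃ n : D.N, (n : G) ∈ D.L.Q ∧
    D.A n = !![1, 0, f 0; 0, 1, f 1; 0, 0, 1] := by
  obtain ⟨q, hq, hqπ⟩ := D.L.π_surj (0, ![-f 1, f 0])
  have hqC := D.L.Q_le hq
  refine ⟨⟨q, D.C_le hqC⟩, hq, D.A_ext fun r => ?_⟩
  show D.cU _ = q⁻¹ * D.cU r * q
  have hcm := D.L.comm _ (inv_mem hq) _ (D.cU_mem r).1
  rw [D.form_eq, D.L.π_inv hq, hqπ, D.π_cU] at hcm
  have hk : det2 (-((0 : V2), ![-f 1, f 0]) : W4).1 (0 : V2) +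
      det2 (-((0 : V2), ![-f 1, f 0]) : W4).2 ![r 0, r 1] = r 0 * f 0 + r 1 * f 1 := by
    simp [det2]; ring
  rw [hk] at hcm
  have e : r ᵥ* !![1, 0, f 0; 0, 1, f 1; 0, 0, 1] = ![0, 0, r 0 * f 0 + r 1 * f 1] + r := by
    ext j; fin_cases j <;> simp [Matrix.vecMul, dotProduct, Fin.sum_univ_three]
  rw [e, D.cU_add, show D.cU ![0, 0, r 0 * f 0 + r 1 * f 1] = D.L.z ^ (r 0 * f 0 + r 1 * f 1).val by
    simp [cU], ← hcm]
  group

theorem moving [Finite G] : ∃ (n : D.N) (v : V3), (D.A n).det = 1 ∧ (v 0 ≠ 0 ∨ v 1 ≠ 0) ∧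
    e2 ᵥ* D.A n = e2 + v ∧ v ᵥ* D.A n = v := by
  obtain ⟨hc, hA, hzA, hyA, -, -⟩ := D.L.meet_facts D.hy D.hyz
  set L' := D.L.conjBy D.g
  have hle : D.L.meet D.g ≤ D.U := fun x hx =>
    ⟨hx.1, (D.L.hyp_inter D.hB D.hy D.hyz D.h2 hx.1).1 hx.2⟩
  have hyU : L'.z ∈ D.U := hle hyA
  have hUQ : ∀ x ∈ D.U, x ∈ L'.Q := fun x hx => (D.L.hyp_inter D.hB D.hy D.hyz D.h2 hx.1).2 hx.2
  have hQN : L'.Q ≤ D.N := by
    have key : ∀ q ∈ L'.Q, ∀ x ∈ D.U, q * x * q⁻¹ ∈ D.U := fun q hq x hx => by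
      obtain ⟨l, hl⟩ : ∃ l : ZMod 3, q * x * q⁻¹ * x⁻¹ = L'.z ^ l.val :=
        ⟨_, L'.comm q hq x (hUQ x hx)⟩
      rw [show q * x * q⁻¹ = q * x * q⁻¹ * x⁻¹ * x by group, hl]
      exact mul_mem (pow_mem hyU _) hx
    intro q hq
    refine mem_normalizer_iff.2 fun x => ⟨key q hq x, fun h => ?_⟩
    simpa [mul_assoc] using key q⁻¹ (inv_mem hq) _ h
  obtain ⟨x, hx, hne⟩ : ∃ x ∈ L'.Q, D.L.z * x ≠ x * D.L.z := by
    by_contra hno
    push Not at hno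
    have hv : L'.π D.L.z ≠ 0 := fun h => by
      have hm : D.L.z ∈ zpowers L'.z := (L'.π_ker _ hzA.2).1 h
      have : zpowers D.L.z = zpowers L'.z := eq_of_le_of_card_ge (zpowers_le.2 hm) (by
        rw [Nat.card_zpowers, Nat.card_zpowers, D.L.z_ord, L'.z_ord])
      exact D.hyz (this ▸ mem_zpowers _)
    refine hv (form_nondeg L'.B_det fun w => ?_)
    obtain ⟨q, hq, rfl⟩ := L'.π_surj w
    exact (L'.comm_iff hzA.2 hq).1 (hno q hq)
  obtain ⟨k, hk⟩ : ∃ k : ZMod 3, x⁻¹ * D.L.z * x * D.L.z⁻¹ = L'.z ^ k.val :=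
    ⟨_, by simpa using L'.comm x⁻¹ (inv_mem hx) D.L.z hzA.2⟩
  obtain ⟨r, hr⟩ := D.cU_surj hyU
  obtain ⟨v, hv⟩ := D.cU_surj (pow_mem hyU k.val)
  have hyx : Commute L'.z x := (mem_centralizer_singleton_iff.1 (L'.Q_le hx)).symm
  have e1 : e2 ᵥ* D.A ⟨x, hQN hx⟩ = e2 + v := D.cU_inj (by
    rw [D.cU_vecMul, D.cU_add, D.cU_e2, hv, (D.U_comm D.z_mem_U (pow_mem hyU _)), ← hk]
    group)
  have e3 : v ᵥ* D.A ⟨x, hQN hx⟩ = v := D.cU_inj (by
    rw [D.cU_vecMul, hv]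
    show x⁻¹ * L'.z ^ k.val * x = _
    rw [mul_assoc, (hyx.pow_left k.val).eq, inv_mul_cancel_left])
  refine ⟨⟨x, hQN hx⟩, v, det_cube_table _ ?_, ?_, e1, e3⟩
  · rw [← Matrix.det_mul, ← Matrix.det_mul, ← D.A_mul, ← D.A_mul,
      show (⟨x, hQN hx⟩ * ⟨x, hQN hx⟩ * ⟨x, hQN hx⟩ : D.N) = 1 from Subtype.ext (L'.exp x hx),
      D.A_one, Matrix.det_one]
  · by_contra h0
    push Not at h0
    have hzp : L'.z ^ k.val ∈ zpowers D.L.z := by
      rw [← hv]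
      refine (D.L.π_ker _ (D.cU_mem v).1).1 ?_
      rw [D.π_cU, h0.1, h0.2]
      exact Prod.ext (by ext i; fin_cases i <;> rfl) rfl
    rcases eq_or_ne k 0 with rfl | hk0
    · refine hne ?_
      rw [ZMod.val_zero, pow_zero, mul_inv_eq_one, mul_assoc, inv_mul_eq_iff_eq_mul] at hk
      exact hk
    · refine D.hyz ?_
      have h3 : L'.z ^ 3 = 1 := by rw [pow_succ, pow_two]; exact L'.z_cube
      have := pow_mem hzp k.val
      rw [← pow_mul, ← Nat.mod_add_div (k.val * k.val) 3, val_sq k hk0, pow_add, pow_one, pow_mul, h3,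
        one_pow, mul_one] at this
      exact this

theorem from_row {v r : V3} (hv : v 0 ≠ 0 ∨ v 1 ≠ 0) (hr : r 0 ≠ 0 ∨ r 1 ≠ 0) :
    ∃ n : D.N, (n : G) ∈ D.L.C ∧ v ᵥ* D.A n = r := by
  obtain ⟨h, hh⟩ := row2_table v hv r hr
  obtain ⟨m, hm, hmρ⟩ := D.exists_C h⁻¹
  have hb := D.A_block hm v
  rw [hmρ, inv_inv, hh] at hb
  set w := v ᵥ* D.A m
  have b0 : w 0 = r 0 := congrFun hb 0
  have b1 : w 1 = r 1 := congrFun hb 1
  obtain ⟨f, hf⟩ : ∃ f : V2, r 0 * f 0 + r 1 * f 1 = r 2 - w 2 := by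
    have h : ∀ a b c : ZMod 3, a ≠ 0 ∨ b ≠ 0 → ∃ f : V2, a * f 0 + b * f 1 = c := by decide +kernel
    exact h _ _ _ hr
  obtain ⟨n, hn, hA⟩ := D.exists_translation f
  refine ⟨m * n, mul_mem hm (D.L.Q_le hn), ?_⟩
  rw [D.A_mul, ← Matrix.vecMul_vecMul, hA]
  change w ᵥ* _ = r
  ext j; fin_cases j <;>
    simp [Matrix.vecMul, dotProduct, Fin.sum_univ_three, b0, b1]
  linear_combination hf

theorem orbit [Finite G] {r : V3} (hr : r ≠ 0) :
    ∃ n : D.N, (D.A n).det = 1 ∧ e2 ᵥ* D.A n = r := by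
  obtain ⟨x, v, hxd, hv, e1, e3⟩ := D.moving
  have big : ∀ r : V3, (r 0 ≠ 0 ∨ r 1 ≠ 0) → ∃ n : D.N, (D.A n).det = 1 ∧ e2 ᵥ* D.A n = r := by
    intro r hr
    have hv' : (e2 + v) 0 ≠ 0 ∨ (e2 + v) 1 ≠ 0 := by simpa [e2] using hv
    obtain ⟨n, hn, hnr⟩ := D.from_row hv' hr
    exact ⟨x * n, by rw [D.A_mul, Matrix.det_mul, hxd, D.det_C hn, one_mul],
      by rw [D.A_mul, ← Matrix.vecMul_vecMul, e1, hnr]⟩
  by_cases h : r 0 ≠ 0 ∨ r 1 ≠ 0
  · exact big r h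
  push Not at h
  have h2' : r 2 = 1 ∨ r 2 = -1 := by
    have hne : r 2 ≠ 0 := fun h' => hr (by ext i; fin_cases i <;> simp [h, h'])
    revert hne; generalize r 2 = a; revert a; decide
  rcases h2' with h2' | h2'
  · exact ⟨1, by rw [D.A_one, Matrix.det_one], by
      rw [D.A_one, Matrix.vecMul_one, V3_eta r, h.1, h.2, h2']; rfl⟩
  · obtain ⟨n, hn, hnr⟩ := big (-e2 + v) (by simpa [e2] using hv)
    refine ⟨n * x, by rw [D.A_mul, Matrix.det_mul, hn, hxd, one_mul], ?_⟩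
    rw [D.A_mul, ← Matrix.vecMul_vecMul, hnr, Matrix.add_vecMul, Matrix.neg_vecMul, e1, e3,
      neg_add, neg_add_cancel_right]
    rw [V3_eta r, h.1, h.2, h2']
    decide +kernel

theorem det_A [Finite G] (n : D.N) : (D.A n).det = 1 := by
  have hr : e2 ᵥ* D.A n ≠ 0 := fun h => by
    have e := D.cU_vecMul n e2
    rw [h, D.cU_zero, D.cU_e2, eq_comm, mul_assoc, inv_mul_eq_one] at e
    exact D.L.z_ne (mul_eq_right.1 e.symm)
  obtain ⟨m, hm, hme⟩ := D.orbit hr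
  have hd : D.A m * D.A m⁻¹ = 1 := by rw [← D.A_mul, mul_inv_cancel, D.A_one]
  have hc : e2 ᵥ* D.A (n * m⁻¹) = e2 := by
    rw [D.A_mul, ← Matrix.vecMul_vecMul, ← hme, Matrix.vecMul_vecMul, hd, Matrix.vecMul_one]
  have := D.det_C (D.mem_C_of_A hc)
  rw [D.A_mul, Matrix.det_mul] at this
  have hd' := congrArg Matrix.det hd
  rw [Matrix.det_mul, hm, one_mul, Matrix.det_one] at hd'
  rwa [hd', mul_one] at this

/-- The action on `U`. -/
noncomputable def α [Finite G] : D.N →* SL3' :=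
  MonoidHom.mk' (fun n => ⟨D.A n, D.det_A n⟩) fun m n => Subtype.ext (D.A_mul m n)

theorem α_ker [Finite G] {n : D.N} : D.α n = 1 ↔ (n : G) ∈ D.U := by
  constructor
  · intro h
    have hA : D.A n = 1 := congrArg Subtype.val h
    have hC : (n : G) ∈ D.L.C := D.mem_C_of_A (by rw [hA, Matrix.vecMul_one])
    have hρ : D.L.ρ n = 1 := by
      have hi : ∀ v : V2, (D.L.ρ n)⁻¹.1 *ᵥ v = v := fun v => by
        have e := D.A_block hC ![v 0, v 1, 0]
        rw [hA, Matrix.vecMul_one] at e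
        have : v = ![v 0, v 1] := by ext i; fin_cases i <;> rfl
        rw [this]; exact e.symm
      refine inv_eq_one.1 (Subtype.ext ?_)
      ext i j
      have := congrFun (hi (Pi.single j 1)) i
      simpa [Matrix.one_apply, Pi.single_apply, Matrix.SpecialLinearGroup.coe_inv] using this
    have hQ := (D.L.ρ_ker _ hC).1 hρ
    refine ⟨hQ, ?_⟩
    have hcm : ∀ r, D.cU r * n = n * D.cU r := fun r => by
      have e := D.cU_vecMul n r
      rw [hA, Matrix.vecMul_one, mul_assoc, eq_inv_mul_iff_mul_eq] at e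
      exact e.symm
    have d : ∀ a : V2, det2 a (D.L.π n).2 = 0 := fun a => by
      have e := (D.L.comm_iff (D.cU_mem ![a 0, a 1, 0]).1 hQ).1 (hcm _)
      rw [D.form_eq, D.π_cU] at e
      simp [det2] at e
      simp [det2]
      linear_combination e
    have d0 := d ![1, 0]
    have d1 := d ![0, 1]
    simp [det2] at d0 d1
    ext i; fin_cases i
    · exact d1
    · exact d0
  · intro h
    refine Subtype.ext (show D.A n = (1 : M3) from D.A_ext fun r => ?_)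
    rw [Matrix.vecMul_one, mul_assoc, eq_inv_mul_iff_mul_eq, D.U_comm h (D.cU_mem r)]

theorem exists_fix [Finite G] (M : SL3') (hM : e2 ᵥ* M.1 = e2) : ∃ n : D.N, D.α n = M := by
  have r2 : ∀ j, M.1 2 j = e2 j := fun j => by
    have := congrFun hM j
    simpa [e2, Matrix.vecMul, dotProduct, Fin.sum_univ_three] using this
  have hd := M.2
  rw [Matrix.det_fin_three, r2, r2, r2] at hd
  simp [e2] at hd
  let h : SS := ⟨!![M.1 0 0, M.1 1 0; M.1 0 1, M.1 1 1], by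
    rw [Matrix.det_fin_two]; simp; linear_combination hd⟩
  obtain ⟨m, hm, hmρ⟩ := D.exists_C h⁻¹
  have b0 := D.A_block hm ![1, 0, 0]
  have b1 := D.A_block hm ![0, 1, 0]
  rw [hmρ, inv_inv] at b0 b1
  have a00 := congrFun b0 0
  have a01 := congrFun b0 1
  have a10 := congrFun b1 0
  have a11 := congrFun b1 1
  simp [h, Matrix.vecMul, Matrix.mulVec, dotProduct, Fin.sum_univ_three, Fin.sum_univ_two] at a00 a01 a10 a11
  have he := D.A_e2 hm
  have m2 : ∀ j, D.A m 2 j = e2 j := fun j => by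
    have := congrFun he j
    simpa [e2, Matrix.vecMul, dotProduct, Fin.sum_univ_three] using this
  obtain ⟨n, hn, hA⟩ := D.exists_translation
    ![(M.1 1 1) * (M.1 0 2 - D.A m 0 2) - M.1 0 1 * (M.1 1 2 - D.A m 1 2),
      -(M.1 1 0) * (M.1 0 2 - D.A m 0 2) + M.1 0 0 * (M.1 1 2 - D.A m 1 2)]
  refine ⟨m * n, Subtype.ext ?_⟩
  show D.A (m * n) = M.1
  rw [D.A_mul, hA]
  ext i j
  fin_cases i <;> fin_cases j <;>
    simp [Matrix.mul_apply, Fin.sum_univ_three, a00, a01, a10, a11, m2, r2, e2]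
  · linear_combination (M.1 0 2 - D.A m 0 2) * hd
  · linear_combination (M.1 1 2 - D.A m 1 2) * hd

theorem α_surj [Finite G] : Function.Surjective D.α := by
  intro M
  have hr : e2 ᵥ* M.1 ≠ 0 := fun h => by
    have h' := congrArg (fun w => w ᵥ* (M⁻¹).1) h
    simp only [Matrix.vecMul_vecMul, Matrix.zero_vecMul, ← Matrix.SpecialLinearGroup.coe_mul,
      mul_inv_cancel, Matrix.SpecialLinearGroup.coe_one, Matrix.vecMul_one] at h'
    exact absurd (congrFun h' 2) (by decide)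
  obtain ⟨m, -, hme⟩ := D.orbit hr
  obtain ⟨n, hn⟩ := D.exists_fix (M * (D.α m)⁻¹) (by
    rw [Matrix.SpecialLinearGroup.coe_mul, ← Matrix.vecMul_vecMul, ← hme,
      show D.A m = (D.α m).1 from rfl, Matrix.vecMul_vecMul, ← Matrix.SpecialLinearGroup.coe_mul,
      mul_inv_cancel, Matrix.SpecialLinearGroup.coe_one, Matrix.vecMul_one])
  exact ⟨n * m, by rw [map_mul, hn, inv_mul_cancel_right]⟩

end Stg

end CfsgLib.L43
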