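import Cfsg.Agent.LFourThree.DualModel

/-!
# Gluing two parabolics into a copy of `PSL(4,3)`
-/

set_option autoImplicit false
set_option maxRecDepth 100000
set_option linter.style.haveILetI false
set_option linter.unusedSectionVars false
set_option maxHeartbeats 1600000

namespace CfsgLib.L43

open Subgroup CfsgLib.G23Amalgam Matrix
open CfsgLib.En (iU iL)
open CfsgLib.QP (up low)

universe u

theorem neg_one_det' : (-1 : M4).det = 1 := by decide +kernel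

theorem swap_det : (!![0, 1; 1, 0] : M2).det ≠ 0 := by decide +kernel

theorem swap_inv : ((!![0, 1; 1, 0] : M2))⁻¹ = !![0, 1; 1, 0] :=
  Matrix.inv_eq_right_inv (by decide +kernel)

theorem Loc.swap_π {G : Type u} [Group G] (L : Loc G) (x : G) :
    (L.rebase _ swap_det).π x = ((L.π x).2, (L.π x).1) := by
  show ((!![0, 1; 1, 0] : M2)⁻¹ 0 0 • (L.π x).1 + _ • (L.π x).2,
    (!![0, 1; 1, 0] : M2)⁻¹ 1 0 • (L.π x).1 + _ • (L.π x).2) = _
  simp [swap_inv]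

theorem fm_conj_table :
    (∀ B : SS, ∀ a b c : ZMod 3, leviPv (iU B) * qmk 0 0 a b c =
      qmk 0 0 a ((B.1 *ᵥ ![b, c]) 0) ((B.1 *ᵥ ![b, c]) 1) * leviPv (iU B)) ∧
    (∀ a : ZMod 3, mkPv ![a, 0, 0] 1 * qmk 0 0 a 1 0 = fm * mkPv ![a, 0, 0] 1 ∨
      mkPv ![-a, 0, 0] 1 * qmk 0 0 a 1 0 = fm * mkPv ![-a, 0, 0] 1) := by
  refine ⟨fun B a b c => ?_, by decide +kernel⟩
  refine Subtype.ext (Subtype.ext ?_)
  rw [pv_mul_coe, pv_mul_coe, iU_mat, qmk_mat, qmk_mat]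
  ext i j; fin_cases i <;> fin_cases j <;>
    simp [Matrix.mul_apply, Fin.sum_univ_four, Matrix.mulVec, dotProduct, Fin.sum_univ_two]

/-- Two parabolics with the same central element and swapped coordinates. -/
structure Two (G : Type u) [Group G] where
  D : Stg G
  g' : G
  hy' : g' * D.L.z * g'⁻¹ ∈ D.L.Q
  hyz' : g' * D.L.z * g'⁻¹ ∉ zpowers D.L.z
  h1 : (D.L.π (g' * D.L.z * g'⁻¹)).1 = 0
  E : Emb G
  cE : Coord D.L D.t E

namespace Two

variable {G : Type u} [Group G] (T : Two G)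

/-- The swapped setting. -/
noncomputable def D' : Stg G where
  L := T.D.L.rebase _ swap_det
  hB := by
    show (!![0, 1; 1, 0] : M2).transpose * T.D.L.B * !![0, 1; 1, 0] = _
    rw [T.D.hB]; decide +kernel
  g := T.g'
  hy := T.hy'
  hyz := T.hyz'
  h2 := by rw [Loc.swap_π]; exact T.h1
  t := T.D.t
  t_mem := T.D.t_mem
  t_sq := T.D.t_sq
  t_ρ := T.D.t_ρ

theorem exists_fm_aux (D : Stg G) (E : Emb G) (cE : Coord D.L D.t E) {g : G}
    (hy : g * D.L.z * g⁻¹ ∈ D.L.Q) (hyz : g * D.L.z * g⁻¹ ∉ zpowers D.L.z)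
    (h1 : (D.L.π (g * D.L.z * g⁻¹)).1 = 0) : ∃ h : G, h * E.ψ zm * h⁻¹ = E.ψ fm := by
  obtain ⟨x, hx, hxy⟩ := cE.Q_le hy
  have hq := cE.π_eq x hx
  rw [hxy] at hq
  rw [hq] at h1
  have a1 := congrFun h1 0
  have a2 := congrFun h1 1
  simp [qcoord] at a1 a2
  set a := (x : SL4).1 0 3
  set b := (x : SL4).1 1 3
  set c := (x : SL4).1 2 3
  have hxe : x = qmk 0 0 a b c := by
    have hQ := (InQ_blk (x := x) hx)
    refine Subtype.ext (Subtype.ext ?_)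
    rw [Pv_eq x]
    show PointStab.blockMat (row x) (blk x).1 = PointStab.blockMat ![0, 0, a] (trm ![b, c]).1
    rw [hQ]; congr 1
    ext i; fin_cases i <;> simp [row, a, a1, a2]
  have hbc : (![b, c] : V2) ≠ 0 := fun h => hyz (by
    refine (D.L.π_ker _ hy).1 (hq.trans ?_)
    have hb : b = 0 := congrFun h 0
    have hc : c = 0 := congrFun h 1
    refine Prod.ext ?_ ?_
    · ext i; fin_cases i <;> simp [qcoord, a1, a2]
    · ext i; fin_cases i <;> simp [qcoord, ← show b = (x : SL4).1 1 3 from rfl,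
        ← show c = (x : SL4).1 2 3 from rfl, hb, hc])
  obtain ⟨B, hB⟩ := trans_table ![b, c] ![1, 0] hbc (by decide +kernel)
  have e1 := fm_conj_table.1 B a b c
  rw [hB, ← hxe] at e1
  simp only [Matrix.cons_val_zero, Matrix.cons_val_one] at e1
  obtain ⟨v, hv⟩ : ∃ v : V3, mkPv v 1 * qmk 0 0 a 1 0 = fm * mkPv v 1 := by
    rcases fm_conj_table.2 a with h | h <;> exact ⟨_, h⟩
  refine ⟨E.ψ (mkPv v 1 * leviPv (iU B)) * g, ?_⟩
  have hp : mkPv v 1 * leviPv (iU B) * x = fm * (mkPv v 1 * leviPv (iU B)) := by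
    rw [mul_assoc, e1, ← mul_assoc, hv, mul_assoc]
  rw [cE.z_eq]
  calc E.ψ (mkPv v 1 * leviPv (iU B)) * g * D.L.z * (E.ψ (mkPv v 1 * leviPv (iU B)) * g)⁻¹ =
        E.ψ (mkPv v 1 * leviPv (iU B)) * (g * D.L.z * g⁻¹) * (E.ψ (mkPv v 1 * leviPv (iU B)))⁻¹ := by group
    _ = E.ψ fm := by rw [← hxy, ← map_inv, ← map_mul, ← map_mul, hp, mul_inv_cancel_right]

theorem exists_fm : ∃ h : G, h * T.E.ψ zm * h⁻¹ = T.E.ψ fm :=
  exists_fm_aux T.D T.E T.cE T.hy' T.hyz' T.h1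

theorem exists_fm' {E' : Emb G} (cE' : Coord T.D'.L T.D'.t E') :
    ∃ h : G, h * E'.ψ zm * h⁻¹ = E'.ψ fm :=
  exists_fm_aux T.D' E' cE' (g := T.D.g) T.D.hy T.D.hyz (by
    show ((T.D.L.rebase _ swap_det).π _).1 = 0
    rw [Loc.swap_π]; exact T.D.h2)

theorem agree_Q {E' : Emb G} (cE' : Coord T.D'.L T.D'.t E') {x x' : Pv} (hx : x ∈ Qm) (hx' : x' ∈ Qm)
    (hq : qcoord (x' : SL4).1 = ((qcoord (x : SL4).1).2, (qcoord (x : SL4).1).1))
    (ht : tm * x * tm⁻¹ = x⁻¹) (ht' : tm * x' * tm⁻¹ = x'⁻¹) : E'.ψ x' = T.E.ψ x := by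
  have h1 := (T.cE.mem_iff x).1 hx
  have h2 : E'.ψ x' ∈ T.D.L.Q := (cE'.mem_iff x').1 hx'
  have e := cE'.π_eq x' hx'
  rw [hq, show T.D'.L.π _ = _ from Loc.swap_π T.D.L _, ← T.cE.π_eq x hx] at e
  refine T.D.tinv_unique h2 h1 (Prod.ext (congrArg Prod.snd e) (congrArg Prod.fst e)) ?_ ?_
  · rw [show T.D.t = T.D'.t from rfl, ← cE'.t_eq, ← map_inv, ← map_mul, ← map_mul, ht', map_inv]
  · rw [← T.cE.t_eq, ← map_inv, ← map_mul, ← map_mul, ht, map_inv]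

theorem cent_t {E : Emb G} {D : Stg G} (cE : Coord D.L D.t E) {x : Pv} (hz : x * zm = zm * x) :
    E.ψ x ∈ D.L.C := by
  refine mem_centralizer_singleton_iff.2 ?_
  rw [← cE.z_eq, ← map_mul, ← map_mul, hz]

theorem agree_C_mod {E' : Emb G} (cE' : Coord T.D'.L T.D'.t E') {x : Pv} (hz : x * zm = zm * x)
    (ht : x * tm = tm * x) : ∃ k : ZMod 3, E'.ψ x = T.E.ψ x * T.D.L.z ^ k.val := by
  have h1 : T.E.ψ x ∈ T.D.L.C := cent_t T.cE hz
  have h2 : E'.ψ x ∈ T.D.L.C := cent_t (D := T.D') cE' hz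
  have hρ : T.D.L.ρ (E'.ψ x) = T.D.L.ρ (T.E.ψ x) :=
    Subtype.ext ((cE'.ρ_eq x h2).trans (T.cE.ρ_eq x h1).symm)
  have hq : (T.E.ψ x)⁻¹ * E'.ψ x ∈ T.D.L.Q := (T.D.L.ρ_ker _ (mul_mem (inv_mem h1) h2)).1 (by
    rw [T.D.L.ρ_mul _ (inv_mem h1) _ h2, T.D.L.ρ_inv h1, hρ, inv_mul_cancel])
  have hc : T.D.t * ((T.E.ψ x)⁻¹ * E'.ψ x) * T.D.t⁻¹ = (T.E.ψ x)⁻¹ * E'.ψ x := by
    have c1 : Commute T.D.t (T.E.ψ x) := by
      show _ = _; rw [← T.cE.t_eq, ← map_mul, ← map_mul, ht]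
    have c2 : Commute T.D.t (E'.ψ x) := by
      show _ = _; rw [show T.D.t = E'.ψ tm from cE'.t_eq.symm, ← map_mul, ← map_mul, ht]
    rw [mul_inv_eq_iff_eq_mul]
    exact (c1.inv_right.mul_right c2).eq
  have h0 : T.D.L.π ((T.E.ψ x)⁻¹ * E'.ψ x) = 0 := by
    have e := T.D.π_t hq
    rw [hc] at e
    have : ∀ v : W4, v = -v → v = 0 := by
      intro v hv
      have h : ∀ a : ZMod 3, a = -a → a = 0 := by decide
      exact Prod.ext (funext fun i => h _ (congrFun (congrArg Prod.fst hv) i))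
        (funext fun i => h _ (congrFun (congrArg Prod.snd hv) i))
    exact this _ e
  obtain ⟨k, hk⟩ := T.D.L.mem_zp ((T.D.L.π_ker _ hq).1 h0)
  exact ⟨k, by rw [← hk]; group⟩

theorem wm_not {E : Emb G} (g : G) (c : ZMod 3) (hc : c ≠ 0) : g * E.ψ zm * g⁻¹ ≠ E.ψ (wm c) := by
  intro h
  have hq : ∀ c : ZMod 3, InQ (wm c : SL4).1 := by decide +kernel
  have hn : ∀ c : ZMod 3, c ≠ 0 → ¬ Pure (wm c : SL4).1 := by decide +kernel
  exact hn c hc (E.pure g (wm c) (hq c) h)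

theorem root_table : ∀ k : ZMod 3, k ≠ 0 →
    ∀ B : SS, (B = su ∨ B = sv) → ∃ c : ZMod 3, c ≠ 0 ∧ ∃ p : SL3',
      leviPv p * (leviPv (iU B) * zm ^ k.val) = wm c * leviPv p := by
  intro k hk B hB
  obtain rfl | rfl : k = 1 ∨ k = 2 := by revert hk; revert k; decide
  all_goals rcases hB with rfl | rfl
  · exact ⟨-1, by decide, ⟨!![1, 0, 0; 0, 0, 1; 0, -1, 0], by decide +kernel⟩, by decide +kernel⟩
  · exact ⟨1, by decide, ⟨!![0, 1, 0; 0, 0, 1; 1, 0, 0], by decide +kernel⟩, by decide +kernel⟩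
  · exact ⟨1, by decide, ⟨!![1, 0, 0; 0, 0, -1; 0, 1, 0], by decide +kernel⟩, by decide +kernel⟩
  · exact ⟨-1, by decide, ⟨!![0, -1, 0; 0, 0, -1; 1, 0, 0], by decide +kernel⟩, by decide +kernel⟩

theorem fm_table : ∀ B : SS, (B = su ∨ B = sv) → ∃ p : SL3',
    leviPv p * leviPv (iU B) = fm * leviPv p := by
  intro B hB
  rcases hB with rfl | rfl
  · exact ⟨⟨!![1, 0, 0; 0, 0, -1; 0, 1, 0], by decide +kernel⟩, by decide +kernel⟩
  · exact ⟨⟨!![0, 1, 0; 0, 0, 1; 1, 0, 0], by decide +kernel⟩, by decide +kernel⟩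

theorem agree_root {E' : Emb G} (cE' : Coord T.D'.L T.D'.t E') {B : SS} (hB : B = su ∨ B = sv) :
    E'.ψ (leviPv (iU B)) = T.E.ψ (leviPv (iU B)) := by
  obtain ⟨k, hk⟩ := T.agree_C_mod cE' (iU_comm B) (tm_iU B)
  rcases eq_or_ne k 0 with rfl | hk0
  · rw [hk, ZMod.val_zero, pow_zero, mul_one]
  exfalso
  obtain ⟨c, hc, q, hq⟩ := root_table k hk0 B hB
  obtain ⟨p, hp⟩ := fm_table B hB
  obtain ⟨h, hh⟩ := T.exists_fm' cE'
  have hz : E'.ψ zm = T.E.ψ zm := cE'.z_eq.trans T.cE.z_eq.symm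
  have e : E'.ψ (leviPv (iU B)) = T.E.ψ (leviPv (iU B) * zm ^ k.val) := by
    rw [hk, map_mul, map_pow, T.cE.z_eq]
  have e1 : E'.ψ (leviPv (iU B)) = (E'.ψ (leviPv p))⁻¹ * h * T.E.ψ zm * ((E'.ψ (leviPv p))⁻¹ * h)⁻¹ := by
    have := congrArg E'.ψ hp
    rw [map_mul, map_mul, ← hh, hz] at this
    calc E'.ψ (leviPv (iU B)) = (E'.ψ (leviPv p))⁻¹ * (E'.ψ (leviPv p) * E'.ψ (leviPv (iU B))) := by group
      _ = _ := by rw [this]; group
  refine wm_not (E := T.E) (T.E.ψ (leviPv q) * ((E'.ψ (leviPv p))⁻¹ * h)) c hc ?_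
  calc _ = T.E.ψ (leviPv q) * E'.ψ (leviPv (iU B)) * (T.E.ψ (leviPv q))⁻¹ := by rw [e1]; group
    _ = T.E.ψ (wm c) := by rw [e, ← map_inv, ← map_mul, ← map_mul, hq, mul_inv_cancel_right]

theorem agree_iU {E' : Emb G} (cE' : Coord T.D'.L T.D'.t E') (B : SS) :
    E'.ψ (leviPv (iU B)) = T.E.ψ (leviPv (iU B)) := by
  have hup : ∀ t : ZMod 3, up t = su ^ t.val := by decide +kernel
  have hlow : ∀ t : ZMod 3, low t = sv ^ t.val := by decide +kernel
  have h := CfsgLib.En.sl2_hom_ext (F := ZMod 3) (f := E'.ψ.comp (leviPv.comp iU))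
    (g := T.E.ψ.comp (leviPv.comp iU)) (fun t => ?_) (fun t => ?_)
  · exact DFunLike.congr_fun h B
  · rw [hup, map_pow, map_pow]; exact congrArg (· ^ t.val) (T.agree_root cE' (Or.inl rfl))
  · rw [hlow, map_pow, map_pow]; exact congrArg (· ^ t.val) (T.agree_root cE' (Or.inr rfl))

theorem qm_table :
    (∀ t : ZMod 3, InQ (qmk t 0 0 0 0 : SL4).1 ∧ tm * qmk t 0 0 0 0 * tm = (qmk t 0 0 0 0)⁻¹ ∧
      InQ (qmk 0 0 0 0 (-t) : SL4).1 ∧ tm * qmk 0 0 0 0 (-t) * tm = (qmk 0 0 0 0 (-t))⁻¹ ∧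
      qcoord (qmk 0 0 0 0 (-t) : SL4).1 =
        ((qcoord (qmk t 0 0 0 0 : SL4).1).2, (qcoord (qmk t 0 0 0 0 : SL4).1).1) ∧
      qcoord (qmk t 0 0 0 0 : SL4).1 =
        ((qcoord (qmk 0 0 0 0 (-t) : SL4).1).2, (qcoord (qmk 0 0 0 0 (-t) : SL4).1).1)) ∧
    InQ (jmk 1 0 0 0 : SL4).1 ∧ tm * jmk 1 0 0 0 * tm = (jmk 1 0 0 0)⁻¹ ∧ InQ (jmk 0 0 0 1 : SL4).1 ∧
      tm * jmk 0 0 0 1 * tm = (jmk 0 0 0 1)⁻¹ ∧
      qcoord (jmk 1 0 0 0 : SL4).1 = ((qcoord (jmk 0 0 0 1 : SL4).1).2, (qcoord (jmk 0 0 0 1 : SL4).1).1) ∧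
      qcoord (jmk 0 0 0 1 : SL4).1 = ((qcoord (jmk 1 0 0 0 : SL4).1).2, (qcoord (jmk 1 0 0 0 : SL4).1).1) ∧
      jmk 0 1 0 0 = zm ∧ jmk 0 0 1 0 = leviPv (iU su) ∧ tm⁻¹ = tm ∧ hm * hm = 1 ∧
      hm * zm * hm = zm⁻¹ := by
  refine ⟨?_, ?_, ?_, ?_, ?_, ?_, ?_, ?_, ?_, ?_, ?_, ?_⟩ <;> decide +kernel

theorem jmk_coe : ∀ a b c d : ZMod 3,
    (jmk a b c d : SL4).1 = !![1, 0, a, b; 0, 1, c, d; 0, 0, 1, 0; 0, 0, 0, 1] := jmk_mat

theorem zm_coe : (zm : SL4).1 = !![1, 0, 0, 1; 0, 1, 0, 0; 0, 0, 1, 0; 0, 0, 0, 1] := by decide +kernel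

theorem h_table (j : Pv) (hj0 : j * zm = zm * j) (hj1 : j * jmk 1 0 0 0 = jmk 1 0 0 0 * j)
    (hj2 : j * jmk 0 0 1 0 = jmk 0 0 1 0 * j) (hj3 : j * jmk 0 0 0 1 = jmk 0 0 0 1 * j) :
    ∀ i k : Fin 4, (j : SL4).1 i k = (jmk ((j : SL4).1 0 2) ((j : SL4).1 0 3) ((j : SL4).1 1 2) ((j : SL4).1 1 3) : SL4).1 i k := by
  have h := mem_Pv.1 j.2
  have a0 := h 0; have a1 := h 1; have a2 := h 2; have a3 := h 3
  simp at a0 a1 a2 a3
  have e : ∀ (p : Pv), j * p = p * j → ∀ i k, ((j : SL4).1 * (p : SL4).1) i k = ((p : SL4).1 * (j : SL4).1) i k :=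
    fun p hp i k => congrArg (fun q : Pv => (q : SL4).1 i k) hp
  have z33 := e _ hj0 0 3; have z31 := e _ hj0 0 1; have z32 := e _ hj0 0 2
  have p22 := e _ hj1 0 2; have p21 := e _ hj1 0 1; have p23 := e _ hj1 0 3
  have u11 := e _ hj2 1 2; have u21 := e _ hj2 2 2; have u31 := e _ hj2 3 2
  have u01 := e _ hj2 0 2; have u23 := e _ hj2 1 3; have u20 := e _ hj2 1 1
  have f11 := e _ hj3 1 3; have f21 := e _ hj3 2 3; have f32 := e _ hj3 1 2
  simp [jmk_coe, zm_coe, Matrix.mul_apply, Fin.sum_univ_four, a0, a1, a2, a3] at z33 z31 z32 p22 p21 p23 u11 u21 u31 u01 u23 u20 f11 f21 f32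
  have d33 : (j : SL4).1 3 3 = 1 := by linear_combination -z33
  have d22 : (j : SL4).1 2 2 = 1 := by linear_combination -p22
  have d11 : (j : SL4).1 1 1 = 1 := by linear_combination f11 + d33
  intro i k
  fin_cases i <;> fin_cases k <;> simp [jmk_coe, *]

theorem jmk_small : ∀ a b c d : ZMod 3, (jmk a b c d * qmk 1 0 0 0 0 = qmk 1 0 0 0 0 * jmk a b c d →
    jmk a b c d * qmk 0 0 0 0 1 = qmk 0 0 0 0 1 * jmk a b c d → jmk a b c d = zm ^ b.val) ∧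
    (hm * jmk a b c d = jmk a b c d * hm → jmk a b c d = 1) ∧
    (hm * qmk 1 0 0 0 0 = qmk 1 0 0 0 0 * hm) ∧ (hm * qmk 0 0 0 0 1 = qmk 0 0 0 0 1 * hm) ∧
    (hm * qmk 0 0 0 0 (-1) = qmk 0 0 0 0 (-1) * hm) ∧ (qmk 0 0 0 0 (-1))⁻¹ = qmk 0 0 0 0 1 := by
  decide +kernel

theorem agree_jmk {E' : Emb G} (cE' : Coord T.D'.L T.D'.t E') (a b c d : ZMod 3) :
    E'.ψ (jmk d b c a) = T.E.ψ (jmk a b c d) := by
  obtain ⟨-, h1, h1t, h4, h4t, q1, q4, hz, hu, ht, -, -⟩ := qm_table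
  have e4 : E'.ψ (jmk 0 0 0 1) = T.E.ψ (jmk 1 0 0 0) :=
    T.agree_Q cE' h1 h4 q4 (by rw [ht]; exact h1t) (by rw [ht]; exact h4t)
  have e1 : E'.ψ (jmk 1 0 0 0) = T.E.ψ (jmk 0 0 0 1) :=
    T.agree_Q cE' h4 h1 q1 (by rw [ht]; exact h4t) (by rw [ht]; exact h1t)
  have e2 : E'.ψ (jmk 0 1 0 0) = T.E.ψ (jmk 0 1 0 0) := by rw [hz]; exact cE'.z_eq.trans T.cE.z_eq.symm
  have e3 : E'.ψ (jmk 0 0 1 0) = T.E.ψ (jmk 0 0 1 0) := by rw [hu]; exact T.agree_iU cE' su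
  conv_lhs => rw [jmk_gen' a b c d]
  conv_rhs => rw [jmk_gen a b c d]
  simp only [map_mul, map_pow, e1, e2, e3, e4]

theorem agree_h {E' : Emb G} (cE' : Coord T.D'.L T.D'.t E') :
    ∃ k : ZMod 3, E'.ψ hm = T.E.ψ hm * T.D.L.z ^ k.val := by
  obtain ⟨hqm, -, -, -, -, -, -, -, -, ht, hh, hhz⟩ := qm_table
  set d := T.E.ψ hm * E'.ψ hm with hd
  have hinv : ∀ a b c d' : ZMod 3, hm * jmk a b c d' * hm = (jmk a b c d')⁻¹ := fun a b c d' =>
    eq_inv_of_mul_eq_one_left (hm_jmk a b c d')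
  have hhi : hm⁻¹ = hm := inv_eq_of_mul_eq_one_right hh
  have hJ : ∀ a b c d' : ZMod 3, Commute d (T.E.ψ (jmk a b c d')) := fun a b c d' => by
    have e1 : E'.ψ hm * T.E.ψ (jmk a b c d') * E'.ψ hm = (T.E.ψ (jmk a b c d'))⁻¹ := by
      rw [← T.agree_jmk cE', ← map_mul, ← map_mul, hinv, map_inv]
    have e2 : T.E.ψ hm * (T.E.ψ (jmk a b c d'))⁻¹ * T.E.ψ hm = T.E.ψ (jmk a b c d') := by
      rw [← map_inv, ← map_mul, ← map_mul]
      refine congrArg T.E.ψ ?_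
      conv_lhs => rw [← hhi]
      rw [← hinv, hhi]
      calc hm * (hm * jmk a b c d' * hm) * hm = hm * hm * jmk a b c d' * (hm * hm) := by group
        _ = jmk a b c d' := by rw [hh, one_mul, mul_one]
    have hE : E'.ψ hm * E'.ψ hm = 1 := by rw [← map_mul, hh, map_one]
    have hE0 : T.E.ψ hm * T.E.ψ hm = 1 := by rw [← map_mul, hh, map_one]
    show _ = _
    calc d * T.E.ψ (jmk a b c d') =
          T.E.ψ hm * (E'.ψ hm * T.E.ψ (jmk a b c d') * E'.ψ hm) * (T.E.ψ hm * T.E.ψ hm) * E'.ψ hm := by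
          rw [hE0, mul_one, hd]
          calc _ = T.E.ψ hm * E'.ψ hm * T.E.ψ (jmk a b c d') * (E'.ψ hm * E'.ψ hm) := by rw [hE, mul_one]
            _ = _ := by group
      _ = (T.E.ψ hm * (T.E.ψ (jmk a b c d'))⁻¹ * T.E.ψ hm) * d := by rw [e1, hd]; group
      _ = T.E.ψ (jmk a b c d') * d := by rw [e2]
  have hdz : Commute d (T.E.ψ zm) := by
    have := hJ 0 1 0 0
    rwa [show jmk 0 1 0 0 = zm by decide +kernel] at this
  obtain ⟨j, hj⟩ := T.cE.C_le (mem_centralizer_singleton_iff.2 (show d * T.D.L.z = T.D.L.z * d by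
    rw [← T.cE.z_eq]; exact hdz.eq))
  have hcom : ∀ p : Pv, Commute d (T.E.ψ p) → j * p = p * j := fun p hp => T.E.inj (by
    rw [map_mul, map_mul, hj]; exact hp.eq)
  have hje : j = jmk ((j : SL4).1 0 2) ((j : SL4).1 0 3) ((j : SL4).1 1 2) ((j : SL4).1 1 3) :=
    Subtype.ext (Subtype.ext (Matrix.ext (h_table j
      (hcom _ hdz) (hcom _ (hJ 1 0 0 0)) (hcom _ (hJ 0 0 1 0)) (hcom _ (hJ 0 0 0 1)))))
  set a := (j : SL4).1 0 2; set b := (j : SL4).1 0 3; set c := (j : SL4).1 1 2; set e := (j : SL4).1 1 3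
  obtain ⟨hsm, -, hh1, hh5, hh5', hq5⟩ := jmk_small a b c e
  obtain ⟨q1, q1t, q5, q5t, qc, qc'⟩ := hqm 1
  have a1 : E'.ψ (qmk 0 0 0 0 (-1)) = T.E.ψ (qmk 1 0 0 0 0) :=
    T.agree_Q cE' q1 q5 qc (by rw [ht]; exact q1t) (by rw [ht]; exact q5t)
  have a5 : E'.ψ (qmk 1 0 0 0 0) = T.E.ψ (qmk 0 0 0 0 (-1)) :=
    T.agree_Q cE' q5 q1 qc' (by rw [ht]; exact q5t) (by rw [ht]; exact q1t)
  have c1 : Commute d (T.E.ψ (qmk 1 0 0 0 0)) := by
    refine Commute.mul_left ?_ ?_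
    · show _ = _; rw [← map_mul, ← map_mul, hh1]
    · rw [← a1]; show _ = _; rw [← map_mul, ← map_mul, hh5']
  have c5 : Commute d (T.E.ψ (qmk 0 0 0 0 1)) := by
    rw [← hq5, map_inv]
    refine Commute.inv_right (Commute.mul_left ?_ ?_)
    · show _ = _; rw [← map_mul, ← map_mul, hh5']
    · rw [← a5]; show _ = _; rw [← map_mul, ← map_mul, hh1]
  have hjz : j = zm ^ b.val := hje.trans (hsm (hje ▸ hcom _ c1) (hje ▸ hcom _ c5))
  refine ⟨b, ?_⟩
  have hE0 : T.E.ψ hm * T.E.ψ hm = 1 := by rw [← map_mul, hh, map_one]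
  calc E'.ψ hm = T.E.ψ hm * T.E.ψ hm * E'.ψ hm := by rw [hE0, one_mul]
    _ = T.E.ψ hm * d := by rw [hd]; group
    _ = _ := by rw [← hj, hjz, map_pow, T.cE.z_eq]

theorem exists_full [Finite G] : Nonempty (Full T.E) := by
  obtain ⟨E', cE'⟩ := T.D'.exists_emb
  obtain ⟨k, hk⟩ := T.agree_h cE'
  set w := T.D.L.z ^ (-k).val with hw
  let χ : Pv →* G := (MulAut.conj w).toMonoidHom.comp E'.ψ
  have hχ : ∀ x, χ x = w * E'.ψ x * w⁻¹ := fun x => rfl
  have hwC : ∀ {q : G}, q ∈ T.D.L.C → w * q * w⁻¹ = q := fun {q} hq => by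
    rw [mul_inv_eq_iff_eq_mul]; exact (T.D.zk_comm hq _).symm
  have hχC : ∀ x : Pv, x * zm = zm * x → χ x = E'.ψ x := fun x hx => by
    rw [hχ, hwC (cent_t (D := T.D') cE' hx)]
  have hχh : χ hm = T.E.ψ hm := by
    rw [hχ, hk]
    obtain ⟨-, -, -, -, -, -, -, -, -, -, hh, hhz⟩ := qm_table
    have e : T.E.ψ hm * T.D.L.z * T.E.ψ hm = T.D.L.z⁻¹ := by
      rw [← T.cE.z_eq, ← map_mul, ← map_mul, hhz, map_inv]
    have hwi : w⁻¹ = T.D.L.z ^ k.val := by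
      refine inv_eq_of_mul_eq_one_right ?_
      rw [hw, ← pow_val_add T.D.z3, neg_add_cancel, ZMod.val_zero, pow_zero]
    have hE0 : T.E.ψ hm * T.E.ψ hm = 1 := by rw [← map_mul, hh, map_one]
    have econ : T.E.ψ hm * T.D.L.z ^ k.val * T.E.ψ hm = w := by
      have hi : (T.E.ψ hm)⁻¹ = T.E.ψ hm := inv_eq_of_mul_eq_one_right hE0
      calc T.E.ψ hm * T.D.L.z ^ k.val * T.E.ψ hm = T.E.ψ hm * T.D.L.z ^ k.val * (T.E.ψ hm)⁻¹ := by rw [hi]
        _ = (T.E.ψ hm * T.D.L.z * (T.E.ψ hm)⁻¹) ^ k.val := by rw [conj_pow]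
        _ = w := by rw [hi, e, inv_pow, ← hwi, inv_inv]
    calc w * (T.E.ψ hm * T.D.L.z ^ k.val) * w⁻¹ =
          w * (T.E.ψ hm * T.D.L.z ^ k.val * T.E.ψ hm) * (T.E.ψ hm * T.D.L.z ^ k.val) := by
          rw [hwi]
          calc _ = w * (T.E.ψ hm * T.D.L.z ^ k.val * (T.E.ψ hm * T.E.ψ hm)) * T.D.L.z ^ k.val := by
                rw [hE0, mul_one]
            _ = _ := by group
      _ = w * w * (T.E.ψ hm * T.D.L.z ^ k.val) := by rw [econ]
      _ = w * w * (T.E.ψ hm * T.D.L.z ^ k.val * (T.E.ψ hm * T.E.ψ hm)) := by rw [hE0, mul_one]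
      _ = w * w * w * T.E.ψ hm := by rw [← mul_assoc (T.E.ψ hm * T.D.L.z ^ k.val), econ, mul_assoc (w * w)]
      _ = T.E.ψ hm := by
        rw [show w * w * w = 1 by rw [hw, ← pow_add, ← pow_add, show (-k).val + (-k).val + (-k).val = 3 * (-k).val by ring, pow_mul, T.D.z3, one_pow], one_mul]
  have hjC : ∀ a b c d : ZMod 3, jmk a b c d * zm = zm * jmk a b c d := by decide +kernel
  have hχj : ∀ a b c d : ZMod 3, χ (jmk d b c a) = T.E.ψ (jmk a b c d) := fun a b c d => by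
    rw [hχC _ (hjC ..)]; exact T.agree_jmk cE' a b c d
  -- the three pieces
  let g : ℕ → (SS →* G) := fun i =>
    if i = 0 then χ.comp (leviPv.comp (tauD.comp iU))
    else if i = 1 then T.E.ψ.comp (leviPv.comp iU) else T.E.ψ.comp (leviPv.comp iL)
  have hedge : ∀ k, k + 2 < 4 → ∃ ψ : SL3' →* G, (∀ A, ψ (iU A) = g k A) ∧ ∀ A, ψ (iL A) = g (k + 1) A := by
    intro k hk
    obtain rfl | rfl : k = 0 ∨ k = 1 := by omega
    · refine ⟨χ.comp (leviPv.comp tauD), fun A => rfl, fun A => ?_⟩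
      show χ (leviPv (tauD (iL A))) = T.E.ψ (leviPv (iU A))
      rw [tauD_iL, hχC _ (iU_comm A)]; exact T.agree_iU cE' A
    · exact ⟨T.E.ψ.comp leviPv, fun A => rfl, fun A => rfl⟩
  have hfar : ∀ i j, i + 2 ≤ j → j + 1 < 4 → ∀ A B, Commute (g i A) (g j B) := by
    intro i j hij hj A B
    obtain ⟨rfl, rfl⟩ : i = 0 ∧ j = 2 := by omega
    show Commute (χ (leviPv (tauD (iU A)))) (T.E.ψ (leviPv (iL B)))
    obtain ⟨A', hA'⟩ := tauD_iU A
    rw [hA']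
    set a := χ (leviPv (iL A'))
    set b := T.E.ψ (leviPv (iL B))
    have hb : ∀ p q r s : ZMod 3, b * T.E.ψ (jmk p q r s) * b⁻¹ =
        T.E.ψ (jmk (p * B.1 1 1 - q * B.1 1 0) (-(p * B.1 0 1) + q * B.1 0 0)
          (r * B.1 1 1 - s * B.1 1 0) (-(r * B.1 0 1) + s * B.1 0 0)) := fun p q r s => by
      rw [mul_inv_eq_iff_eq_mul, ← map_mul, ← map_mul, iL_jmk]
    have ha : ∀ p q r s : ZMod 3, a * T.E.ψ (jmk p q r s) * a⁻¹ =
        T.E.ψ (jmk (-(r * A'.1 0 1) + p * A'.1 0 0) (-(s * A'.1 0 1) + q * A'.1 0 0)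
          (r * A'.1 1 1 - p * A'.1 1 0) (s * A'.1 1 1 - q * A'.1 1 0)) := fun p q r s => by
      rw [← hχj p q r s, mul_inv_eq_iff_eq_mul, ← map_mul, iL_jmk, map_mul, ← hχj]
    have hab : ∀ p q r s : ZMod 3, a * b * T.E.ψ (jmk p q r s) * (a * b)⁻¹ =
        b * a * T.E.ψ (jmk p q r s) * (b * a)⁻¹ := fun p q r s => by
      calc a * b * T.E.ψ (jmk p q r s) * (a * b)⁻¹ = a * (b * T.E.ψ (jmk p q r s) * b⁻¹) * a⁻¹ := by group
        _ = b * (a * T.E.ψ (jmk p q r s) * a⁻¹) * b⁻¹ := by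
          rw [hb, ha, ha, hb]; congr 2 <;> ring
        _ = _ := by group
    set c := (b * a)⁻¹ * (a * b) with hc
    have hcJ : ∀ p q r s : ZMod 3, Commute c (T.E.ψ (jmk p q r s)) := fun p q r s => by
      show _ = _
      calc c * T.E.ψ (jmk p q r s) = (b * a)⁻¹ * (a * b * T.E.ψ (jmk p q r s) * (a * b)⁻¹) * (a * b) := by
            rw [hc]; group
        _ = T.E.ψ (jmk p q r s) * c := by rw [hab, hc]; group
    have hch : Commute c (T.E.ψ hm) := by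
      have h1 : Commute a (T.E.ψ hm) := by
        rw [← hχh]; show _ = _; rw [← map_mul, ← map_mul, hm_iL]
      have h2 : Commute b (T.E.ψ hm) := by show _ = _; rw [← map_mul, ← map_mul, hm_iL]
      exact ((h2.mul_left h1).inv_left).mul_left (h1.mul_left h2)
    have hcz : Commute c (T.E.ψ zm) := by
      have := hcJ 0 1 0 0
      rwa [show jmk 0 1 0 0 = zm by decide +kernel] at this
    obtain ⟨j, hj⟩ := T.cE.C_le (mem_centralizer_singleton_iff.2 (show c * T.D.L.z = T.D.L.z * c by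
      rw [← T.cE.z_eq]; exact hcz.eq))
    have hcom : ∀ p : Pv, Commute c (T.E.ψ p) → j * p = p * j := fun p hp => T.E.inj (by
      rw [map_mul, map_mul, hj]; exact hp.eq)
    have hje := Matrix.ext (h_table j
      (hcom _ hcz) (hcom _ (hcJ 1 0 0 0)) (hcom _ (hcJ 0 0 1 0)) (hcom _ (hcJ 0 0 0 1)))
    have hje' : j = jmk ((j : SL4).1 0 2) ((j : SL4).1 0 3) ((j : SL4).1 1 2) ((j : SL4).1 1 3) :=
      Subtype.ext (Subtype.ext hje)
    have hj1 : j = 1 := hje'.trans ((jmk_small _ _ _ _).2.1 (hje' ▸ (hcom _ hch).symm))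
    rw [hj1, map_one] at hj
    rw [hc, eq_comm, inv_mul_eq_one] at hj
    exact hj.symm
  obtain ⟨φ, hφ⟩ := CfsgLib.An.exists_path (F := ZMod 3) g 4 (by omega) hedge hfar
  have hφ_eq : ∀ x : Pv, φ x = T.E.ψ x := by
    let H : Subgroup Pv := MonoidHom.eqLocus (φ.comp Pv.subtype) T.E.ψ
    have hlev : ∀ M, leviPv M ∈ H := by
      have hx : ∀ t : ZMod 3,
          ((leviPv (iU (up t)) : Pv) : SL4) = CfsgLib.An.xt 1 2 t ∧
          ((leviPv (iU (low t)) : Pv) : SL4) = CfsgLib.An.xt 2 1 t ∧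
          ((leviPv (iL (up t)) : Pv) : SL4) = CfsgLib.An.xt 2 3 t ∧
          ((leviPv (iL (low t)) : Pv) : SL4) = CfsgLib.An.xt 3 2 t := by decide +kernel
      have hU : (φ.comp Pv.subtype).comp (leviPv.comp iU) = T.E.ψ.comp (leviPv.comp iU) :=
        CfsgLib.En.sl2_hom_ext
          (fun t => by
            show φ ((leviPv (iU (up t)) : Pv) : SL4) = _
            rw [(hx t).1, (hφ 1 2 rfl t).1]; rfl)
          (fun t => by
            show φ ((leviPv (iU (low t)) : Pv) : SL4) = _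
            rw [(hx t).2.1, (hφ 1 2 rfl t).2]; rfl)
      have hL : (φ.comp Pv.subtype).comp (leviPv.comp iL) = T.E.ψ.comp (leviPv.comp iL) :=
        CfsgLib.En.sl2_hom_ext
          (fun t => by
            show φ ((leviPv (iL (up t)) : Pv) : SL4) = _
            rw [(hx t).2.2.1, (hφ 2 3 rfl t).1]; rfl)
          (fun t => by
            show φ ((leviPv (iL (low t)) : Pv) : SL4) = _
            rw [(hx t).2.2.2, (hφ 2 3 rfl t).2]; rfl)
      have htop : H.comap leviPv = ⊤ :=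
        SL3_gen _ (fun B => DFunLike.congr_fun hU B) (fun B => DFunLike.congr_fun hL B)
      exact fun M => (htop ▸ mem_top M : M ∈ H.comap leviPv)
    have hX : qmk 1 0 0 0 0 ∈ H := by
      show φ ((qmk 1 0 0 0 0 : Pv) : SL4) = _
      rw [show ((qmk 1 0 0 0 0 : Pv) : SL4) = CfsgLib.An.xt 0 1 1 by decide +kernel, (hφ 0 1 rfl 1).1]
      show χ (leviPv (tauD (iU (up 1)))) = _
      rw [show leviPv (tauD (iU (up (1 : ZMod 3)))) = qmk 0 0 0 0 (-1) by decide +kernel,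
        hχC _ (by decide +kernel)]
      obtain ⟨q1, q1t, q5, q5t, qc, -⟩ := qm_table.1 1
      have ht : tm⁻¹ = tm := by decide +kernel
      exact T.agree_Q cE' q1 q5 qc (by rw [ht]; exact q1t) (by rw [ht]; exact q5t)
    let P3 : SL3' := ⟨!![0, 1, 0; 0, 0, 1; 1, 0, 0], by decide +kernel⟩
    have hrow : ∀ r : V3, mkPv r 1 = qmk 1 0 0 0 0 ^ (r 0).val *
        ((leviPv P3)⁻¹ * qmk 1 0 0 0 0 * leviPv P3) ^ (r 1).val *
        ((leviPv P3 * leviPv P3)⁻¹ * qmk 1 0 0 0 0 * (leviPv P3 * leviPv P3)) ^ (r 2).val := by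
      decide +kernel
    intro x
    have hxe : x = leviPv (blk x) * mkPv (row x) 1 := by
      refine Subtype.ext (Subtype.ext ?_)
      rw [Pv_eq x]
      show _ = PointStab.blockMat 0 (blk x).1 * PointStab.blockMat (row x) (1 : SL3').1
      rw [PointStab.blockMat_mul, Matrix.zero_vecMul, add_zero, Matrix.SpecialLinearGroup.coe_one, mul_one]
      rfl
    have hxH : x ∈ H := by
      rw [hxe, hrow]
      exact mul_mem (hlev _) (mul_mem (mul_mem (pow_mem hX _)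
        (pow_mem (mul_mem (mul_mem (inv_mem (hlev _)) hX) (hlev _)) _))
        (pow_mem (mul_mem (mul_mem (inv_mem (mul_mem (hlev _) (hlev _))) hX)
          (mul_mem (hlev _) (hlev _))) _))
    exact hxH
  let m : SL4 := ⟨-1, neg_one_det'⟩
  have hm1 : φ m = 1 := by
    have hmc : ∀ p : SL4, m * p = p * m := fun p => Subtype.ext (by
      show (-1 : M4) * p.1 = p.1 * (-1)
      rw [neg_one_mul, mul_neg_one])
    have hc : ∀ p : Pv, φ m * T.E.ψ p = T.E.ψ p * φ m := fun p => by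
      rw [← hφ_eq, ← map_mul, ← map_mul, hmc]
    obtain ⟨x, hx⟩ := T.cE.C_le (mem_centralizer_singleton_iff.2 (show φ m * T.D.L.z = T.D.L.z * φ m by
      rw [← T.cE.z_eq]; exact hc zm))
    have hcp : ∀ p : Pv, x * p = p * x := fun p => T.E.inj (by rw [map_mul, map_mul, hx]; exact hc p)
    have hb : blk x = 1 := by
      have e : ∀ r : V3, x * mkPv r 1 = mkPv r 1 * x := fun r => hcp _
      have hr : ∀ r : V3, r ᵥ* (blk x).1 = r := fun r => by
        have h := congrArg row (e r)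
        rw [(blk_mul _ _).2, (blk_mul _ _).2, (mkPv_spec r 1).2, (mkPv_spec r 1).1,
          Matrix.SpecialLinearGroup.coe_one, Matrix.vecMul_one, add_comm r] at h
        exact (add_left_cancel h).symm
      refine Subtype.ext ?_
      ext i j
      have := congrFun (hr (Pi.single i 1)) j
      simpa [Matrix.one_apply, Pi.single_apply, eq_comm] using this
    have hx2 : x * x = 1 := T.E.inj (by
      rw [map_mul, hx, ← map_mul, show m * m = 1 from Subtype.ext (by show (-1 : M4) * -1 = 1; simp),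
        map_one, map_one])
    have hrow : row x = 0 := by
      have h := congrArg row hx2
      rw [(blk_mul x x).2, hb, Matrix.SpecialLinearGroup.coe_one, Matrix.vecMul_one,
        show row (1 : Pv) = 0 by decide +kernel] at h
      have h3 : ∀ v : V3, v + v = 0 → v = 0 := by decide +kernel
      exact h3 _ h
    have : x = 1 := Subtype.ext (Subtype.ext (by
      rw [Pv_eq x, show (fun i j => (x : SL4).1 i.succ j.succ) = (1 : M3) from congrArg Subtype.val hb, hrow]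
      decide +kernel))
    rw [← hx, this, map_one]
  refine ⟨⟨φ, hφ_eq, fun y => ⟨fun hy => ?_, ?_⟩⟩⟩
  · haveI : IsSimpleGroup PointStab.L4 := CfsgLib.Linear.isSimpleGroup_PSL (Or.inl (by simp))
    have hcen : center SL4 ≤ φ.ker := fun g hg => by
      obtain ⟨r, hr, hg'⟩ := PointStab.scalar_cases hg
      have hor : ∀ a : ZMod 3, a * a = 1 → a = 1 ∨ a = -1 := by decide
      rcases hor r hr with rfl | rfl
      · rw [show g = 1 from Subtype.ext (by rw [hg', one_smul]; rfl)]; exact one_mem _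
      · rw [show g = m from Subtype.ext (by rw [hg', neg_one_smul]), MonoidHom.mem_ker, hm1]
    let ψL : PointStab.L4 →* G := QuotientGroup.lift (center SL4) φ hcen
    rcases ψL.normal_ker.eq_bot_or_eq_top with h | h
    · have : PointStab.pr y = 1 := mem_bot.1 (h ▸ (show PointStab.pr y ∈ ψL.ker from hy))
      have hyc : y ∈ center SL4 := by rw [← PointStab.ker_pr]; exact this
      obtain ⟨r, hr, hy'⟩ := PointStab.scalar_cases hyc
      have hor : ∀ a : ZMod 3, a * a = 1 → a = 1 ∨ a = -1 := by decide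
      rcases hor r hr with rfl | rfl
      · exact Or.inl (by rw [hy', one_smul])
      · exact Or.inr (by rw [hy', neg_one_smul])
    · exfalso
      have h1 : φ (zm : SL4) = 1 := MonoidHom.mem_ker.1
        (show PointStab.pr (zm : SL4) ∈ ψL.ker from h ▸ mem_top _)
      rw [hφ_eq, T.cE.z_eq] at h1
      exact T.D.L.z_ne h1
  · rintro (h | h)
    · rw [show y = 1 from Subtype.ext h, map_one]
    · rw [show y = m from Subtype.ext h, hm1]

end Two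

end CfsgLib.L43
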