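import Cfsg.Agent.LFourThree.Build
import Cfsg.Agent.An.Extend

/-!
# Finite facts about the parabolic and its dual
-/

set_option autoImplicit false
set_option maxRecDepth 100000
set_option linter.style.haveILetI false
set_option linter.unusedSectionVars false
set_option maxHeartbeats 1600000

namespace CfsgLib.L43

open Subgroup CfsgLib.G23Amalgam Matrix
open CfsgLib.En (iU iL)
open CfsgLib.QP (up low)

/-- The Levi complement. -/
def leviPv : SL3' →* Pv :=
  MonoidHom.mk' (fun M => mkPv 0 M) fun M N => Subtype.ext (Subtype.ext (by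
    show _ = PointStab.blockMat 0 M.1 * PointStab.blockMat 0 N.1
    rw [PointStab.blockMat_mul, Matrix.zero_vecMul, add_zero]
    rfl))

/-- An element of the radical. -/
def qmk (a b c d e : ZMod 3) : Pv := mkPv ![a, b, c] (trm ![d, e])

/-- An element of the radical of the stabiliser of a line. -/
def jmk (a b c d : ZMod 3) : Pv :=
  mkPv ![0, a, b] ⟨!![1, c, d; 0, 1, 0; 0, 0, 1], by revert c d; decide +kernel⟩

/-- The dual of the Levi complement. -/
def revM : SL3' := ⟨!![0, 0, -1; 0, 1, 0; 1, 0, 0], by decide +kernel⟩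

/-- The automorphism of `SL(3,3)` coming from duality. -/
def tauD : SL3' →* SL3' := (MulAut.conj revM).toMonoidHom.comp PointStab.dual

/-- The involution inverting the abelian subgroup of order 81. -/
def hm : Pv := leviPv ⟨!![1, 0, 0; 0, -1, 0; 0, 0, -1], by decide +kernel⟩

theorem tauD_iL : ∀ B : SS, tauD (iL B) = iU B := by decide +kernel

theorem tauD_iU : ∀ B : SS, ∃ B' : SS, tauD (iU B) = iL B' := by decide +kernel

theorem iU_comm : ∀ B : SS, leviPv (iU B) * zm = zm * leviPv (iU B) := by decide +kernel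

theorem tm_iU : ∀ B : SS, leviPv (iU B) * tm = tm * leviPv (iU B) := by decide +kernel

theorem hm_iL : ∀ B : SS, leviPv (iL B) * hm = hm * leviPv (iL B) := by decide +kernel

theorem jmk_gen : ∀ a b c d : ZMod 3,
    jmk a b c d = jmk 1 0 0 0 ^ a.val * jmk 0 1 0 0 ^ b.val * jmk 0 0 1 0 ^ c.val * jmk 0 0 0 1 ^ d.val := by
  decide +kernel

theorem jmk_gen' : ∀ a b c d : ZMod 3,
    jmk d b c a = jmk 0 0 0 1 ^ a.val * jmk 0 1 0 0 ^ b.val * jmk 0 0 1 0 ^ c.val * jmk 1 0 0 0 ^ d.val := by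
  decide +kernel

theorem jmk_mat (a b c d : ZMod 3) :
    (jmk a b c d : SL4).1 = !![1, 0, a, b; 0, 1, c, d; 0, 0, 1, 0; 0, 0, 0, 1] := by
  ext i j; fin_cases i <;> fin_cases j <;> rfl

theorem iL_mat (B : SS) : (leviPv (iL B) : SL4).1 =
    !![1, 0, 0, 0; 0, 1, 0, 0; 0, 0, B.1 0 0, B.1 0 1; 0, 0, B.1 1 0, B.1 1 1] := by
  ext i j; fin_cases i <;> fin_cases j <;> rfl

theorem iU_mat (B : SS) : (leviPv (iU B) : SL4).1 =
    !![1, 0, 0, 0; 0, B.1 0 0, B.1 0 1, 0; 0, B.1 1 0, B.1 1 1, 0; 0, 0, 0, 1] := by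
  ext i j; fin_cases i <;> fin_cases j <;> rfl

theorem qmk_mat (a b c d e : ZMod 3) :
    (qmk a b c d e : SL4).1 = !![1, a, b, c; 0, 1, 0, d; 0, 0, 1, e; 0, 0, 0, 1] := by
  ext i j; fin_cases i <;> fin_cases j <;> rfl

theorem pv_mul_coe (x y : Pv) : ((x * y : Pv) : SL4).1 = (x : SL4).1 * (y : SL4).1 := rfl

theorem iL_jmk (B : SS) (a b c d : ZMod 3) : leviPv (iL B) * jmk a b c d =
    jmk (a * B.1 1 1 - b * B.1 1 0) (-(a * B.1 0 1) + b * B.1 0 0)
      (c * B.1 1 1 - d * B.1 1 0) (-(c * B.1 0 1) + d * B.1 0 0) * leviPv (iL B) := by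
  have hd := B.2
  rw [Matrix.det_fin_two] at hd
  refine Subtype.ext (Subtype.ext ?_)
  rw [pv_mul_coe, pv_mul_coe, iL_mat, jmk_mat, jmk_mat]
  ext i j; fin_cases i <;> fin_cases j <;> simp [Matrix.mul_apply, Fin.sum_univ_four]
  · linear_combination -a * hd
  · linear_combination -b * hd
  · linear_combination -c * hd
  · linear_combination -d * hd

theorem hm_jmk : ∀ a b c d : ZMod 3, hm * jmk a b c d * hm * jmk a b c d = 1 := by decide +kernel

theorem SL3_gen (H : Subgroup SL3') (hU : ∀ B : SS, iU B ∈ H) (hL : ∀ B : SS, iL B ∈ H) : H = ⊤ := by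
  refine eq_top_iff.2 fun x _ => ?_
  refine CfsgLib.Linear.transvection_induction (fun y => y ∈ H) ?_ (fun a b => mul_mem) x
  intro i j hij c
  have t : ∀ i j : Fin 3, ∀ c : ZMod 3, i ≠ j → ∃ B C : SS,
      (Matrix.transvection i j c = (iU B).1 ∨ Matrix.transvection i j c = (iL B).1 ∨
        Matrix.transvection i j c = (iU B * iL C * (iU B)⁻¹ * (iL C)⁻¹).1 ∨
        Matrix.transvection i j c = (iL B * iU C * (iL B)⁻¹ * (iU C)⁻¹).1) := by
    intro i j c hij
    fin_cases i <;> fin_cases j <;> simp at hij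
    · exact ⟨up c, 1, Or.inl (by revert c; decide +kernel)⟩
    · exact ⟨up c, up 1, Or.inr (Or.inr (Or.inl (by revert c; decide +kernel)))⟩
    · exact ⟨low c, 1, Or.inl (by revert c; decide +kernel)⟩
    · exact ⟨up c, 1, Or.inr (Or.inl (by revert c; decide +kernel))⟩
    · exact ⟨low c, low 1, Or.inr (Or.inr (Or.inr (by revert c; decide +kernel)))⟩
    · exact ⟨low c, 1, Or.inr (Or.inl (by revert c; decide +kernel))⟩
  obtain ⟨B, C, h | h | h | h⟩ := t i j c hij
  all_goals refine (show (_ : SL3') ∈ H from ?_)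
  · exact (Subtype.ext ((CfsgLib.Linear.transvec_coe hij c).trans h) : _ = iU B) ▸ hU B
  · exact (Subtype.ext ((CfsgLib.Linear.transvec_coe hij c).trans h) : _ = iL B) ▸ hL B
  · exact (Subtype.ext ((CfsgLib.Linear.transvec_coe hij c).trans h) :
      _ = iU B * iL C * (iU B)⁻¹ * (iL C)⁻¹) ▸ mul_mem (mul_mem (mul_mem (hU B) (hL C)) (inv_mem (hU B))) (inv_mem (hL C))
  · exact (Subtype.ext ((CfsgLib.Linear.transvec_coe hij c).trans h) :
      _ = iL B * iU C * (iL B)⁻¹ * (iU C)⁻¹) ▸ mul_mem (mul_mem (mul_mem (hL B) (hU C)) (inv_mem (hL B))) (inv_mem (hU C))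

end CfsgLib.L43
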