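import Cfsg.Agent.LFourThree.Basic

/-!
# The frame given by a fused element of order three
-/

set_option autoImplicit false
set_option maxRecDepth 100000
set_option linter.style.haveILetI false
set_option linter.unusedSectionVars false
set_option maxHeartbeats 1600000

namespace CfsgLib.L43

open Subgroup CfsgLib.G23Amalgam Matrix

universe u

theorem unip_table : ∀ g : M2, g.det = 1 → g * g * g = 1 → g ≠ 1 → ∀ n : V2, n ≠ 0 → g *ᵥ n = n →
    ∀ a : V2, (det2 n a = 0 ↔ g *ᵥ a = a) ∧ (det2 (g *ᵥ a - a) a = 0 → g *ᵥ a = a) := by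
  decide +kernel

theorem core_three_table : ∀ g : SS, g * g * g = 1 → g ≠ 1 →
    ∃ h : SS, h * g * h⁻¹ * g * (h * g * h⁻¹ * g) * (h * g * h⁻¹ * g) ≠ 1 := by decide +kernel

theorem basis_table : ∀ B : M2, B.transpose = B → B.det ≠ 0 → ∀ b : V2, b ≠ 0 →
    ∃ P : M2, P.det ≠ 0 ∧ (fun i => P i 0) = b ∧
      (P.transpose * B * P = !![0, 1; 1, 0] ∨
        ((P.transpose * B * P) 0 0 ≠ 0 ∧ (P.transpose * B * P) 0 1 = 0)) := by decide +kernel

theorem line_table : ∀ n u : V2, det2 n u ≠ 0 → ∀ w : V2,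
    (det2 n w = 0 → det2 u w = 0 → w = 0) ∧ ∃ β δ : ZMod 3, w = β • u + δ • n := by decide +kernel

theorem rank_one_table : ∀ n a : V2, n ≠ 0 → det2 n a = 0 → ∃ c : ZMod 3, a = c • n := by decide +kernel

theorem trans_table : ∀ n w : V2, n ≠ 0 → w ≠ 0 → ∃ h : SS, h.1 *ᵥ n = w := by decide +kernel

theorem val_sq : ∀ l : ZMod 3, l ≠ 0 → l.val * l.val % 3 = 1 := by decide

theorem sz_act : ∀ v : V2, sz.1 *ᵥ v = -v := by decide +kernel

namespace Loc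

variable {G : Type u} [Group G] (L : Loc G)
include L

theorem card_Q [Finite G] : 243 ≤ Nat.card L.Q := by
  let f : L.Q →* Multiplicative W4 :=
    MonoidHom.mk' (fun x => Multiplicative.ofAdd (L.π x)) fun x y => by
      rw [← ofAdd_add]; exact congrArg Multiplicative.ofAdd (L.π_mul x x.2 y y.2)
  have hs : Function.Surjective f := fun v => by
    obtain ⟨x, hx, h⟩ := L.π_surj (Multiplicative.toAdd v)
    exact ⟨⟨x, hx⟩, congrArg Multiplicative.ofAdd h⟩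
  have hk : zpowers (⟨L.z, L.z_mem⟩ : L.Q) ≤ f.ker := by
    rw [zpowers_le, MonoidHom.mem_ker]
    exact congrArg Multiplicative.ofAdd ((L.π_ker _ L.z_mem).2 (mem_zpowers _))
  have h3 : 3 ≤ Nat.card f.ker := by
    refine le_trans (le_of_eq ?_) (card_le_of_le hk)
    rw [Nat.card_zpowers, orderOf_mk, L.z_ord]
  rw [← f.ker.index_mul_card, Subgroup.index_ker, f.range_eq_top_of_surjective hs, card_top]
  have h81 : Nat.card (Multiplicative W4) = 81 := by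
    rw [Nat.card_congr Multiplicative.toAdd]; simp
  rw [h81]; omega

theorem card_centQ [Finite G] {y : G} (hy : y ∈ L.Q) :
    81 ≤ Nat.card (L.Q ⊓ centralizer ({y} : Set G) : Subgroup G) := by
  let f : L.Q →* Multiplicative (ZMod 3) :=
    MonoidHom.mk' (fun x => Multiplicative.ofAdd (form L.B (L.π y) (L.π x))) fun a b => by
      rw [← ofAdd_add]
      refine congrArg Multiplicative.ofAdd ?_
      rw [Subgroup.coe_mul, L.π_mul a a.2 b b.2, (form_lin L.B).2.1]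
  have hk : f.ker.map L.Q.subtype ≤ L.Q ⊓ centralizer ({y} : Set G) := by
    rintro _ ⟨x, hx, rfl⟩
    refine ⟨x.2, mem_centralizer_singleton_iff.2 ?_⟩
    exact ((L.comm_iff hy x.2).2 (congrArg Multiplicative.toAdd hx)).symm
  refine le_trans ?_ (card_le_of_le hk)
  rw [← Nat.card_congr (f.ker.equivMapOfInjective _ L.Q.subtype_injective).toEquiv]
  have h := f.ker.index_mul_card
  rw [Subgroup.index_ker] at h
  have h3 : Nat.card f.range ≤ 3 :=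
    (card_le_card_group _).trans (le_of_eq (by rw [Nat.card_congr Multiplicative.toAdd]; simp))
  have := L.card_Q
  nlinarith

theorem card_le_three_mul [Finite G] {H : Subgroup G} (hH : H ≤ L.C) (h3 : ∀ x ∈ H, x * x * x = 1) :
    Nat.card H ≤ 3 * Nat.card (H ⊓ L.Q : Subgroup G) := by
  haveI : Fact (Nat.Prime 3) := ⟨Nat.prime_three⟩
  let f : H →* SS := L.ρHom.comp (Subgroup.inclusion hH)
  have hp : IsPGroup 3 f.range := by
    rintro ⟨_, x, rfl⟩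
    refine ⟨1, Subtype.ext ?_⟩
    show f x ^ (3 ^ 1) = 1
    rw [← map_pow]
    refine (congrArg f (Subtype.ext ?_)).trans (map_one f)
    show (x : G) ^ (3 ^ 1) = 1
    rw [pow_one, pow_succ, pow_two]; exact h3 x x.2
  obtain ⟨k, hk⟩ := IsPGroup.iff_card.1 hp
  have h24 : Nat.card SS = 24 := by rw [Nat.card_eq_fintype_card]; decide +kernel
  have hd : 3 ^ k ∣ 24 := hk ▸ h24 ▸ card_subgroup_dvd_card _
  have hle : Nat.card f.range ≤ 3 := by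
    rw [hk]
    have : k ≤ 1 := by
      by_contra hc
      have : 3 ^ 2 ∣ 24 := (pow_dvd_pow 3 (by omega : 2 ≤ k)).trans hd
      norm_num at this
    calc 3 ^ k ≤ 3 ^ 1 := Nat.pow_le_pow_right (by norm_num) this
      _ = 3 := rfl
  have hker : Nat.card f.ker ≤ Nat.card (H ⊓ L.Q : Subgroup G) := by
    rw [Nat.card_congr (f.ker.equivMapOfInjective _ H.subtype_injective).toEquiv]
    refine card_le_of_le ?_
    rintro _ ⟨x, hx, rfl⟩
    exact ⟨x.2, (L.ρ_ker x (hH x.2)).1 hx⟩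
  rw [← f.ker.index_mul_card, Subgroup.index_ker]
  exact Nat.mul_le_mul hle hker

theorem max_iso [Finite G] {A : Subgroup G} (hA : A ≤ L.Q) (hc : ∀ a ∈ A, ∀ b ∈ A, a * b = b * a)
    (h27 : 27 ≤ Nat.card A) {x : G} (hx : x ∈ L.Q) (hxA : ∀ a ∈ A, x * a = a * x) : x ∈ A := by
  let B := closure ((A : Set G) ∪ {x})
  have hAB : A ≤ B := fun a ha => subset_closure (Or.inl ha)
  have hB : B ≤ L.Q := (closure_le _).2 (Set.union_subset hA (Set.singleton_subset_iff.2 hx))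
  have hBB : ∀ a ∈ B, ∀ b ∈ B, a * b = b * a := by
    have h0 : B ≤ centralizer ((A : Set G) ∪ {x}) := by
      refine (closure_le _).2 ?_
      rintro a (ha | ha) <;> refine mem_centralizer_iff.2 ?_ <;> rintro b (hb | hb)
      · exact hc b hb a ha
      · obtain rfl : b = x := hb
        exact hxA a ha
      · obtain rfl : a = x := ha
        exact (hxA b hb).symm
      · obtain rfl : a = x := ha
        obtain rfl : b = a := hb
        rfl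
    intro a ha b hb
    have hb' : b ∈ centralizer ((B : Set G)) := by
      rw [centralizer_closure]
      exact h0 hb
    exact mem_centralizer_iff.1 hb' a ha
  have he : A = B := eq_of_le_of_card_ge hAB ((L.card_isotropic hB hBB).trans h27)
  rw [he]
  exact subset_closure (Or.inr rfl)

/-- Whatever normalises the centre normalises `Q`. -/
theorem Q_char {s : G} (hs : s * L.z * s⁻¹ ∈ zpowers L.z) {q : G} (hq : q ∈ L.Q) :
    s * q * s⁻¹ ∈ L.Q := by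
  have hzp : ∀ {a : G}, a ∈ L.C → ∀ {w : G}, w ∈ zpowers L.z → a * w = w * a := fun {a} ha {w} hw => by
    obtain ⟨n, rfl⟩ := mem_zpowers_iff.1 hw
    exact (Commute.zpow_right (mem_centralizer_singleton_iff.1 ha) n).eq
  have hz' : L.z ∈ zpowers (s * L.z * s⁻¹) := by
    haveI : Fact (Nat.Prime 3) := ⟨Nat.prime_three⟩
    have : zpowers (s * L.z * s⁻¹) = zpowers L.z := by
      haveI : Finite (zpowers L.z) :=
        Nat.finite_of_card_ne_zero (by rw [Nat.card_zpowers, L.z_ord]; norm_num)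
      refine eq_of_le_of_card_ge (zpowers_le.2 hs) ?_
      rw [Nat.card_zpowers, Nat.card_zpowers, show s * L.z * s⁻¹ = MulAut.conj s L.z from rfl,
        MulEquiv.orderOf_eq]
    rw [this]; exact mem_zpowers _
  have hconj : ∀ {a : G}, a ∈ L.C → s * a * s⁻¹ ∈ L.C := fun {a} ha => by
    obtain ⟨n, hn⟩ := mem_zpowers_iff.1 hz'
    refine mem_centralizer_singleton_iff.2 ?_
    show _ * L.z = L.z * _
    rw [← hn, conj_zpow]
    calc s * a * s⁻¹ * (s * L.z ^ n * s⁻¹) = s * (a * L.z ^ n) * s⁻¹ := by group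
      _ = s * (L.z ^ n * a) * s⁻¹ := by rw [hzp ha (zpow_mem (mem_zpowers _) n)]
      _ = s * L.z ^ n * s⁻¹ * (s * a * s⁻¹) := by group
  have hconj' : ∀ {a : G}, a ∈ L.C → s⁻¹ * a * s ∈ L.C := fun {a} ha => by
    refine mem_centralizer_singleton_iff.2 ?_
    calc s⁻¹ * a * s * L.z = s⁻¹ * (a * (s * L.z * s⁻¹)) * s := by group
      _ = s⁻¹ * ((s * L.z * s⁻¹) * a) * s := by rw [hzp ha hs]
      _ = L.z * (s⁻¹ * a * s) := by group
  have hqC := hconj (L.Q_le hq)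
  have hcube : L.ρ (s * q * s⁻¹) * L.ρ (s * q * s⁻¹) * L.ρ (s * q * s⁻¹) = 1 := by
    rw [← L.ρ_mul _ hqC _ hqC, ← L.ρ_mul _ (mul_mem hqC hqC) _ hqC,
      show s * q * s⁻¹ * (s * q * s⁻¹) * (s * q * s⁻¹) = s * (q * q * q) * s⁻¹ by group, L.exp q hq,
      mul_one, mul_inv_cancel, L.ρ_one]
  refine (L.ρ_ker _ hqC).1 ?_
  by_contra hne
  obtain ⟨h, hh⟩ := core_three_table _ hcube hne
  obtain ⟨c, hc, rfl⟩ := L.ρ_surj h
  refine hh ?_
  let q' := s⁻¹ * c * s * q * (s⁻¹ * c * s)⁻¹ * q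
  have hq' : q' ∈ L.Q := mul_mem (L.conjQ (hconj' hc) hq) hq
  have e : s * q' * s⁻¹ = c * (s * q * s⁻¹) * c⁻¹ * (s * q * s⁻¹) := by simp only [q']; group
  have hC' := hconj (L.Q_le hq')
  have hρ : L.ρ (s * q' * s⁻¹) = L.ρ c * L.ρ (s * q * s⁻¹) * (L.ρ c)⁻¹ * L.ρ (s * q * s⁻¹) := by
    rw [e, L.ρ_mul _ (mul_mem (mul_mem hc hqC) (inv_mem hc)) _ hqC,
      L.ρ_mul _ (mul_mem hc hqC) _ (inv_mem hc), L.ρ_mul _ hc _ hqC, L.ρ_inv hc]
  rw [← hρ, ← L.ρ_mul _ hC' _ hC', ← L.ρ_mul _ (mul_mem hC' hC') _ hC',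
    show s * q' * s⁻¹ * (s * q' * s⁻¹) * (s * q' * s⁻¹) = s * (q' * q' * q') * s⁻¹ by group,
    L.exp q' hq', mul_one, mul_inv_cancel, L.ρ_one]

theorem inv_conj_mem {s : G} (hs : s * L.z * s⁻¹ ∈ zpowers L.z) : s⁻¹ * L.z * s⁻¹⁻¹ ∈ zpowers L.z := by
  haveI : Fact (Nat.Prime 3) := ⟨Nat.prime_three⟩
  have h : zpowers (s * L.z * s⁻¹) = zpowers L.z := by
    haveI : Finite (zpowers L.z) :=
      Nat.finite_of_card_ne_zero (by rw [Nat.card_zpowers, L.z_ord]; norm_num)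
    refine eq_of_le_of_card_ge (zpowers_le.2 hs) ?_
    rw [Nat.card_zpowers, Nat.card_zpowers, show s * L.z * s⁻¹ = MulAut.conj s L.z from rfl,
      MulEquiv.orderOf_eq]
  obtain ⟨n, hn⟩ := mem_zpowers_iff.1 (h ▸ mem_zpowers L.z : L.z ∈ zpowers (s * L.z * s⁻¹))
  refine ⟨n, ?_⟩
  show L.z ^ n = _
  calc L.z ^ n = s⁻¹ * (s * L.z ^ n * s⁻¹) * s := by group
    _ = s⁻¹ * L.z * s := by rw [← conj_zpow, hn]
    _ = s⁻¹ * L.z * s⁻¹⁻¹ := by rw [inv_inv]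

theorem form_surj {v : W4} (hv : v ≠ 0) (k : ZMod 3) : ∃ w, form L.B w v = k := by
  obtain ⟨w, hw⟩ := not_forall.1 fun h => hv (form_nondeg L.B_det h)
  refine ⟨(k * (form L.B w v)⁻¹) • w, ?_⟩
  haveI : Fact (Nat.Prime 3) := ⟨Nat.prime_three⟩
  have hne : form L.B w v ≠ 0 := by
    rw [(form_lin L.B).2.2.2.2.2 L.B_sym]; exact neg_ne_zero.2 hw
  rw [(form_lin L.B).2.2.1, mul_assoc, inv_mul_cancel₀ hne, mul_one]

/-- The common part of the two radicals. -/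
abbrev meet (g : G) : Subgroup G := L.Q ⊓ (L.conjBy g).Q

theorem meet_facts [Finite G] {g : G} (hy : g * L.z * g⁻¹ ∈ L.Q) (hyz : g * L.z * g⁻¹ ∉ zpowers L.z) :
    (∀ a ∈ L.meet g, ∀ b ∈ L.meet g, a * b = b * a) ∧ Nat.card (L.meet g) = 27 ∧ L.z ∈ L.meet g ∧
    g * L.z * g⁻¹ ∈ L.meet g ∧ (∃ x ∈ L.Q, x ∈ (L.conjBy g).C ∧ x ∉ L.meet g) ∧
    ∃ x ∈ (L.conjBy g).Q, x ∈ L.C ∧ x ∉ L.Q := by
  haveI : Fact (Nat.Prime 3) := ⟨Nat.prime_three⟩
  set L' := L.conjBy g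
  set A := L.meet g
  have hyL : L'.z ∈ L.Q := hy
  have hyz' : L'.z ∉ zpowers L.z := hyz
  have hc : ∀ a ∈ A, ∀ b ∈ A, a * b = b * a := by
    intro a ha b hb
    obtain ⟨k, hk⟩ : ∃ k : ZMod 3, a * b * a⁻¹ * b⁻¹ = L.z ^ k.val := ⟨_, L.comm a ha.1 b hb.1⟩
    obtain ⟨l, hl⟩ : ∃ l : ZMod 3, a * b * a⁻¹ * b⁻¹ = L'.z ^ l.val := ⟨_, L'.comm a ha.2 b hb.2⟩
    rcases eq_or_ne l 0 with rfl | hl0
    · rw [ZMod.val_zero, pow_zero, mul_inv_eq_one, mul_inv_eq_iff_eq_mul] at hl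
      exact hl
    · refine absurd ?_ hyz'
      have hm : L'.z ^ l.val ∈ zpowers L.z := by rw [← hl, hk]; exact pow_mem (mem_zpowers _) _
      have h3 : L'.z ^ 3 = 1 := by rw [pow_succ, pow_two]; exact L'.z_cube
      have hone := val_sq l hl0
      have := pow_mem hm l.val
      rw [← pow_mul, ← Nat.mod_add_div (l.val * l.val) 3, hone, pow_add, pow_one, pow_mul, h3, one_pow,
        mul_one] at this
      exact this
  let H : Subgroup G := L.Q ⊓ centralizer ({L'.z} : Set G)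
  have hH : 81 ≤ Nat.card H := L.card_centQ hyL
  have hHQ : Nat.card (H ⊓ L'.Q : Subgroup G) ≤ Nat.card A :=
    card_le_of_le (le_inf (inf_le_left.trans inf_le_left) inf_le_right)
  have hHC : Nat.card H ≤ 3 * Nat.card (H ⊓ L'.Q : Subgroup G) :=
    L'.card_le_three_mul inf_le_right fun x hx => L.exp x hx.1
  have hA : Nat.card A = 27 := le_antisymm (L.card_isotropic inf_le_left hc) (by omega)
  have hzA : L.z ∈ A := L.max_iso inf_le_left hc hA.ge L.z_mem fun a ha =>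
    (mem_centralizer_singleton_iff.1 (L.Q_le ha.1)).symm
  have hyA : L'.z ∈ A := L'.max_iso inf_le_right hc hA.ge L'.z_mem fun a ha =>
    (mem_centralizer_singleton_iff.1 (L'.Q_le ha.2)).symm
  refine ⟨hc, hA, hzA, hyA, ?_, ?_⟩
  · by_contra hne
    push Not at hne
    have := card_le_of_le (show H ≤ A from fun x hx => hne x hx.1 hx.2)
    omega
  · by_contra hne
    push Not at hne
    have h81 := L'.card_centQ hzA.2
    have := card_le_of_le (show (L'.Q ⊓ centralizer ({L.z} : Set G) : Subgroup G) ≤ A from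
      fun x hx => ⟨hne x hx.1 hx.2, hx.1⟩)
    omega

theorem unip_facts {g x : G} (hy : g * L.z * g⁻¹ ∈ L.Q) (hx : x ∈ (L.conjBy g).Q) (hxC : x ∈ L.C)
    (hxQ : x ∉ L.Q) :
    L.ρ x * L.ρ x * L.ρ x = 1 ∧ L.ρ x ≠ 1 ∧
      act (L.ρ x) (L.π (g * L.z * g⁻¹)) = L.π (g * L.z * g⁻¹) := by
  refine ⟨?_, fun h => hxQ ((L.ρ_ker x hxC).1 h), ?_⟩
  · rw [← L.ρ_mul _ hxC _ hxC, ← L.ρ_mul _ (mul_mem hxC hxC) _ hxC, (L.conjBy g).exp x hx, L.ρ_one]
  · rw [← L.conj x hxC _ hy]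
    refine congrArg L.π ?_
    rw [mul_inv_eq_iff_eq_mul]
    exact mem_centralizer_singleton_iff.1 ((L.conjBy g).Q_le hx)

theorem moved [Finite G] {g x : G} (hy : g * L.z * g⁻¹ ∈ L.Q) (hyz : g * L.z * g⁻¹ ∉ zpowers L.z)
    (hx : x ∈ (L.conjBy g).Q) (hxC : x ∈ L.C) (hxQ : x ∉ L.Q) :
    ∃ a ∈ L.meet g, act (L.ρ x) (L.π a) ≠ L.π a := by
  haveI : Fact (Nat.Prime 3) := ⟨Nat.prime_three⟩
  obtain ⟨hc, hA, hzA, hyA, -, -⟩ := L.meet_facts hy hyz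
  by_contra hne
  push Not at hne
  refine hxQ ((L.conjBy g).max_iso inf_le_right hc hA.ge hx fun a ha => ?_ : x ∈ L.meet g).1
  have hc' := L.conjQ hxC ha.1
  have h1 : a⁻¹ * (x * a * x⁻¹) ∈ zpowers L.z :=
    (L.π_eq_iff ha.1 hc').1 (by rw [L.conj x hxC a ha.1, hne a ha])
  obtain ⟨l, hl⟩ : ∃ l : ZMod 3, x * a * x⁻¹ * a⁻¹ = (L.conjBy g).z ^ l.val :=
    ⟨_, (L.conjBy g).comm x hx a ha.2⟩
  rcases eq_or_ne l 0 with rfl | hl0
  · rw [ZMod.val_zero, pow_zero, mul_inv_eq_one, mul_inv_eq_iff_eq_mul] at hl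
    exact hl
  · refine absurd ?_ hyz
    obtain ⟨k, hk⟩ := L.mem_zp h1
    have hm : x * a * x⁻¹ * a⁻¹ ∈ zpowers L.z := by
      have hz : a * L.z = L.z * a := mem_centralizer_singleton_iff.1 (L.Q_le ha.1)
      rw [show x * a * x⁻¹ * a⁻¹ = a * (a⁻¹ * (x * a * x⁻¹)) * a⁻¹ by group, hk,
        (Commute.pow_right hz k.val).eq, mul_inv_cancel_right]
      exact pow_mem (mem_zpowers _) _
    rw [hl] at hm
    have h3 : (L.conjBy g).z ^ 3 = 1 := by rw [pow_succ, pow_two]; exact (L.conjBy g).z_cube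
    have hone := val_sq l hl0
    have := pow_mem hm l.val
    rw [← pow_mul, ← Nat.mod_add_div (l.val * l.val) 3, hone, pow_add, pow_one, pow_mul, h3, one_pow,
      mul_one] at this
    exact this

/-- An element inverting `z` and fixing `y`. -/
theorem exists_inverter [Finite G] {g : G} (hy : g * L.z * g⁻¹ ∈ L.Q)
    (hyz : g * L.z * g⁻¹ ∉ zpowers L.z) :
    ∃ s ∈ (L.conjBy g).C, s * L.z * s⁻¹ = L.z⁻¹ ∧ (L.conjBy g).ρ s = sz := by
  obtain ⟨-, -, hzA, hyA, -, -⟩ := L.meet_facts hy hyz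
  set L' := L.conjBy g
  obtain ⟨s, hs, hρ⟩ := L'.ρ_surj sz
  have hz' : L.z ∈ L'.Q := hzA.2
  have hv : L'.π L.z ≠ 0 := fun h => by
    have hm : L.z ∈ zpowers L'.z := (L'.π_ker _ hz').1 h
    have : zpowers L.z = zpowers L'.z := eq_of_le_of_card_ge (zpowers_le.2 hm) (by
      rw [Nat.card_zpowers, Nat.card_zpowers, L.z_ord, L'.z_ord])
    exact hyz (this ▸ mem_zpowers _)
  have hc := L'.conjQ hs hz'
  obtain ⟨k, hk⟩ := L'.mem_zp ((L'.π_eq_iff (inv_mem hz') hc).1 (by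
    rw [L'.conj s hs _ hz', hρ, L'.π_inv hz']
    exact Prod.ext (sz_act _).symm (sz_act _).symm))
  obtain ⟨w, hw⟩ := L'.form_surj (v := L'.π L.z⁻¹) (by rw [L'.π_inv hz', neg_ne_zero]; exact hv) (-k)
  obtain ⟨q, hq, hqw⟩ := L'.π_surj w
  refine ⟨q * s, mul_mem (L'.Q_le hq) hs, ?_, ?_⟩
  · have hcm := L'.comm q hq L.z⁻¹ (inv_mem hz')
    rw [hqw, hw] at hcm
    have hyk : q * L'.z ^ k.val = L'.z ^ k.val * q :=
      (Commute.pow_right (mem_centralizer_singleton_iff.1 (L'.Q_le hq)) k.val).eq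
    have hinv : L'.z ^ (-k).val * L'.z ^ k.val = 1 := by
      rw [← pow_add]
      have h : ∀ k : ZMod 3, ((-k).val + k.val) % 3 = 0 := by decide
      rw [← Nat.mod_add_div ((-k).val + k.val) 3, h, zero_add, pow_mul,
        show L'.z ^ 3 = 1 by rw [pow_succ, pow_two]; exact L'.z_cube, one_pow]
    have hzy : Commute L.z⁻¹ (L'.z ^ k.val) :=
      (Commute.pow_right (mem_centralizer_singleton_iff.1 (L'.Q_le (inv_mem hz'))) k.val)
    calc q * s * L.z * (q * s)⁻¹ = q * L.z⁻¹ * (L.z * (s * L.z * s⁻¹)) * q⁻¹ := by group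
      _ = q * L.z⁻¹ * L'.z ^ k.val * q⁻¹ := by rw [← hk, inv_inv]
      _ = q * L'.z ^ k.val * L.z⁻¹ * q⁻¹ := by rw [mul_assoc q, hzy.eq, ← mul_assoc]
      _ = L'.z ^ k.val * (q * L.z⁻¹ * q⁻¹ * L.z⁻¹⁻¹) * L.z⁻¹ := by rw [hyk]; group
      _ = L'.z ^ k.val * L'.z ^ (-k).val * L.z⁻¹ := by rw [hcm]
      _ = L.z⁻¹ := by rw [← pow_add, add_comm, pow_add, hinv, one_mul]
  · rw [L'.ρ_mul _ (L'.Q_le hq) _ hs, (L'.ρ_ker q (L'.Q_le hq)).2 hq, one_mul, hρ]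

theorem aniso_false [Finite G] {g : G} (hy : g * L.z * g⁻¹ ∈ L.Q)
    (hyz : g * L.z * g⁻¹ ∉ zpowers L.z) {n : V2} (hn : L.π (g * L.z * g⁻¹) = (n, 0))
    (h00 : L.B 0 0 ≠ 0) (h01 : L.B 0 1 = 0) : False := by
  have h10 : L.B 1 0 = 0 := by rw [← h01]; exact congrFun (congrFun L.B_sym 0) 1
  have h11 : L.B 1 1 ≠ 0 := fun h => L.B_det (by rw [Matrix.det_fin_two, h01, h]; ring)
  obtain ⟨hc, -, hzA, hyA, -, x, hx, hxC, hxQ⟩ := L.meet_facts hy hyz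
  obtain ⟨hc3, hne, hfix⟩ := L.unip_facts hy hx hxC hxQ
  obtain ⟨a, ha, hmove⟩ := L.moved hy hyz hx hxC hxQ
  have hn0 : n ≠ 0 := fun h => hyz ((L.π_ker _ hy).1 (by rw [hn, h]; rfl))
  rw [hn] at hfix
  have hgn : (L.ρ x).1 *ᵥ n = n := congrArg Prod.fst hfix
  have T := unip_table (L.ρ x).1 (L.ρ x).2 (congrArg Subtype.val hc3)
    (fun h => hne (Subtype.ext h)) n hn0 hgn
  have e1 := (L.comm_iff hy ha.1).1 (hc _ hyA a ha)
  rw [hn] at e1
  have hd : det2 n (L.π a).1 = 0 := by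
    simpa [form, h01, h10, det2, h00] using e1
  have hf1 := (T _).1.1 hd
  have hx' : x * a * x⁻¹ ∈ L.meet g :=
    ⟨L.conjQ hxC ha.1, (L.conjBy g).Q.mul_mem ((L.conjBy g).Q.mul_mem hx ha.2) ((L.conjBy g).Q.inv_mem hx)⟩
  have e2 := (L.comm_iff hx'.1 ha.1).1 (hc _ hx' a ha)
  rw [L.conj x hxC a ha.1] at e2
  simp only [form, h01, h10, act, hf1, zero_mul, add_zero, det2, sub_self, mul_zero, zero_add,
    mul_eq_zero, h11, false_or, mul_comm ((L.π a).1 0) ((L.π a).1 1)] at e2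
  have hf2 : (L.ρ x).1 *ᵥ (L.π a).2 = (L.π a).2 := (T _).2 (by
    simp only [det2, Pi.sub_apply]; linear_combination e2)
  exact hmove (Prod.ext hf1 hf2)

theorem hyp_inter [Finite G] (hB : L.B = !![0, 1; 1, 0]) {g : G} (hy : g * L.z * g⁻¹ ∈ L.Q)
    (hyz : g * L.z * g⁻¹ ∉ zpowers L.z) (h2 : (L.π (g * L.z * g⁻¹)).2 = 0) {x : G} (hxQ0 : x ∈ L.Q) :
    x ∈ (L.conjBy g).Q ↔ (L.π x).2 = 0 := by
  obtain ⟨hc, hA, hzA, hyA, ⟨xh, hxh, hxhC, hxhA⟩, x', hx', hxC, hxQ⟩ := L.meet_facts hy hyz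
  obtain ⟨hc3, hne, hfix⟩ := L.unip_facts hy hx' hxC hxQ
  obtain ⟨a, ha, hmove⟩ := L.moved hy hyz hx' hxC hxQ
  obtain ⟨n, hn⟩ : ∃ n, L.π (g * L.z * g⁻¹) = (n, 0) := ⟨_, Prod.ext rfl h2⟩
  have hn0 : n ≠ 0 := fun h => hyz ((L.π_ker _ hy).1 (by rw [hn, h]; rfl))
  rw [hn] at hfix
  have hgn : (L.ρ x').1 *ᵥ n = n := congrArg Prod.fst hfix
  have T := unip_table (L.ρ x').1 (L.ρ x').2 (congrArg Subtype.val hc3)
    (fun h => hne (Subtype.ext h)) n hn0 hgn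
  have hform : ∀ v w : W4, form L.B v w = det2 v.1 w.2 + det2 v.2 w.1 := fun v w => by
    simp [hB, form]
  have h0 : ∀ u : V2, det2 0 u = 0 := fun u => by simp [det2]
  have hperp : ∀ b ∈ L.Q, g * L.z * g⁻¹ * b = b * (g * L.z * g⁻¹) → det2 n (L.π b).2 = 0 := by
    intro b hb hcb
    have e := (L.comm_iff hy hb).1 hcb
    rwa [hn, hform, h0, add_zero] at e
  have hperpA : ∀ b ∈ L.meet g, det2 n (L.π b).2 = 0 := fun b hb => hperp b hb.1 (hc _ hyA b hb)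
  have hu : det2 n (L.π a).1 ≠ 0 := fun h => hmove
    (Prod.ext ((T _).1.1 h) ((T _).1.1 (hperpA a ha)))
  suffices key : (L.π a).2 = 0 by
    have hall : ∀ b ∈ L.meet g, (L.π b).2 = 0 := fun b hb => by
      have e := (L.comm_iff ha.1 hb.1).1 (hc a ha b hb)
      rw [hform, key, h0, add_zero] at e
      exact (line_table n _ hu (L.π b).2).1 (hperpA b hb) e
    refine ⟨fun hx => hall x ⟨hxQ0, hx⟩, fun hx => ?_⟩
    refine (L.max_iso inf_le_left hc hA.ge hxQ0 fun b hb => (L.comm_iff hxQ0 hb.1).2 ?_).2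
    rw [hform, hx, hall b hb]
    simp [det2]
  by_contra hr
  obtain ⟨s, hsC', hsz, hρs⟩ := L.exists_inverter hy hyz
  set L' := L.conjBy g
  have hsy : s * (g * L.z * g⁻¹) * s⁻¹ = g * L.z * g⁻¹ := by
    rw [mul_inv_eq_iff_eq_mul]; exact mem_centralizer_singleton_iff.1 hsC'
  have hsz' : s * L.z * s⁻¹ ∈ zpowers L.z := hsz ▸ inv_mem (mem_zpowers _)
  have hsQ : ∀ {q : G}, q ∈ L.Q → s * q * s⁻¹ ∈ L.Q := fun hq => L.Q_char hsz' hq
  have hsQ' : ∀ {q : G}, q ∈ L'.Q → s * q * s⁻¹ ∈ L'.Q := fun hq => L'.conjQ hsC' hq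
  have hsC : ∀ {c : G}, c ∈ L.C → s * c * s⁻¹ ∈ L.C := fun {c} hcc => by
    refine mem_centralizer_singleton_iff.2 ?_
    have e : L.z = s * L.z⁻¹ * s⁻¹ := by rw [← conj_inv, hsz, inv_inv]
    have hi : c * L.z⁻¹ = L.z⁻¹ * c := (Commute.inv_right (mem_centralizer_singleton_iff.1 hcc)).eq
    calc s * c * s⁻¹ * L.z = s * c * s⁻¹ * (s * L.z⁻¹ * s⁻¹) := by rw [← e]
      _ = s * (c * L.z⁻¹) * s⁻¹ := by group
      _ = s * (L.z⁻¹ * c) * s⁻¹ := by rw [hi]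
      _ = s * L.z⁻¹ * s⁻¹ * (s * c * s⁻¹) := by group
      _ = L.z * (s * c * s⁻¹) := by rw [← e]
  have hwd : ∀ {q q' : G}, q ∈ L.Q → q' ∈ L.Q → L.π q = L.π q' →
      L.π (s * q * s⁻¹) = L.π (s * q' * s⁻¹) := fun {q q'} hq hq' e => by
    refine (L.π_eq_iff (hsQ hq) (hsQ hq')).2 ?_
    obtain ⟨k, hk⟩ := L.mem_zp ((L.π_eq_iff hq hq').1 e)
    rw [show (s * q * s⁻¹)⁻¹ * (s * q' * s⁻¹) = s * (q⁻¹ * q') * s⁻¹ by group, hk, ← conj_pow, hsz]
    exact pow_mem (inv_mem (mem_zpowers _)) _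
  choose lift hlift hliftπ using L.π_surj
  let S : W4 →+ W4 := AddMonoidHom.mk' (fun v => L.π (s * lift v * s⁻¹)) fun v w => by
    rw [← L.π_mul _ (hsQ (hlift v)) _ (hsQ (hlift w))]
    refine (hwd (hlift _) (mul_mem (hlift v) (hlift w)) ?_).trans (congrArg L.π (by group))
    rw [hliftπ, L.π_mul _ (hlift v) _ (hlift w), hliftπ, hliftπ]
  have hSπ : ∀ {q : G}, q ∈ L.Q → S (L.π q) = L.π (s * q * s⁻¹) := fun hq =>
    hwd (hlift _) hq (hliftπ _)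
  have hSn : S (n, 0) = (n, 0) := by rw [← hn, hSπ hy, hsy]
  -- the image of the first natural component
  have hS1 : ∀ w : V2, (S (w, 0)).2 = 0 := fun w => by
    by_cases hw : w = 0
    · rw [hw, show ((0 : V2), (0 : V2)) = (0 : W4) from rfl, map_zero]; rfl
    obtain ⟨h, hh⟩ := trans_table n w hn0 hw
    obtain ⟨c, hcC, rfl⟩ := L.ρ_surj h
    have e : L.π (c * (g * L.z * g⁻¹) * c⁻¹) = (w, 0) := by
      rw [L.conj c hcC _ hy, hn]; exact Prod.ext hh (Matrix.mulVec_zero (L.ρ c).1)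
    rw [← e, hSπ (L.conjQ hcC hy),
      show s * (c * (g * L.z * g⁻¹) * c⁻¹) * s⁻¹ =
        s * c * s⁻¹ * (s * (g * L.z * g⁻¹) * s⁻¹) * (s * c * s⁻¹)⁻¹ by group, hsy,
      L.conj _ (hsC hcC) _ hy, hn]
    exact Matrix.mulVec_zero (L.ρ (s * c * s⁻¹)).1
  -- the image of the fixed space
  let r := (L.π a).2
  have hS2 : det2 n (S (0, r)).1 = 0 ∧ det2 n (S (0, r)).2 = 0 := by
    obtain ⟨q, hq, hqπ⟩ := L.π_surj (0, r)
    have hf : act (L.ρ x') (L.π q) = L.π q := by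
      rw [hqπ]
      exact Prod.ext (Matrix.mulVec_zero (L.ρ x').1) ((T _).1.1 (hperpA a ha))
    have hx2 : s * x' * s⁻¹ ∈ L'.Q := hsQ' hx'
    have hx2C : s * x' * s⁻¹ ∈ L.C := hsC hxC
    have hx2Q : s * x' * s⁻¹ ∉ L.Q := fun h => hxQ (by
      have := L.Q_char (L.inv_conj_mem hsz') h
      simpa [mul_assoc] using this)
    obtain ⟨hc3', hne', hfix'⟩ := L.unip_facts hy hx2 hx2C hx2Q
    rw [hn] at hfix'
    have T' := unip_table (L.ρ (s * x' * s⁻¹)).1 (L.ρ _).2 (congrArg Subtype.val hc3')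
      (fun h => hne' (Subtype.ext h)) n hn0 (congrArg Prod.fst hfix')
    have hf' : act (L.ρ (s * x' * s⁻¹)) (S (0, r)) = S (0, r) := by
      rw [← hqπ, hSπ hq, ← L.conj _ hx2C _ (hsQ hq),
        show s * x' * s⁻¹ * (s * q * s⁻¹) * (s * x' * s⁻¹)⁻¹ = s * (x' * q * x'⁻¹) * s⁻¹ by group]
      exact hwd (L.conjQ hxC hq) hq (by rw [L.conj _ hxC _ hq, hf])
    exact ⟨(T' _).1.2 (congrArg Prod.fst hf'), (T' _).1.2 (congrArg Prod.snd hf')⟩
  -- `s` inverts the meet modulo `y`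
  obtain ⟨k, hk⟩ : ∃ k : ZMod 3, S (L.π a) = -L.π a + k • (n, 0) := by
    have hm := hsQ' ha.2
    have e : L'.π (s * a * s⁻¹) = L'.π a⁻¹ := by
      rw [L'.conj s hsC' a ha.2, hρs, L'.π_inv ha.2]
      exact Prod.ext (sz_act _) (sz_act _)
    obtain ⟨k, hk⟩ := L'.mem_zp ((L'.π_eq_iff (inv_mem ha.2) hm).1 e.symm)
    refine ⟨k, ?_⟩
    have hk' : s * a * s⁻¹ = a⁻¹ * (g * L.z * g⁻¹) ^ k.val := by
      rw [show (g * L.z * g⁻¹) ^ k.val = a⁻¹⁻¹ * (s * a * s⁻¹) from hk.symm]; group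
    rw [hSπ ha.1, hk', L.π_mul _ (inv_mem ha.1) _ (pow_mem hy _), L.π_inv ha.1, L.π_pow hy,
      ZMod.natCast_zmod_val, hn]
  obtain ⟨m, hm⟩ := rank_one_table n _ hn0 hS2.1
  have hsplit : L.π a = ((L.π a).1, 0) + (0, r) := by simp [r]
  have e1 := congrArg Prod.fst hk
  have e2 := congrArg Prod.snd hk
  rw [hsplit, map_add] at e1 e2
  simp only [Prod.fst_add, Prod.snd_add, Prod.fst_neg, Prod.snd_neg, Prod.smul_fst, Prod.smul_snd,
    hS1, zero_add, add_zero, neg_zero, smul_zero, hm] at e1 e2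
  -- decompose the extra element
  obtain ⟨β, δ, hxh1⟩ := (line_table n _ hu (L.π xh).1).2
  have hxh2d : det2 n (L.π xh).2 = 0 :=
    hperp xh hxh (mem_centralizer_singleton_iff.1 hxhC).symm
  obtain ⟨γ₁, hγ₁⟩ := rank_one_table n _ hn0 hxh2d
  obtain ⟨γ₀, hγ₀⟩ := rank_one_table n r hn0 (hperpA a ha)
  have hγ₀0 : γ₀ ≠ 0 := fun h => hr (show r = 0 by rw [hγ₀, h, zero_smul])
  haveI : Fact (Nat.Prime 3) := ⟨Nat.prime_three⟩
  have hxh2 : (L.π xh).2 = (γ₁ * γ₀⁻¹) • r := by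
    rw [hγ₁, hγ₀, smul_smul, mul_assoc, inv_mul_cancel₀ hγ₀0, mul_one]
  set γ := γ₁ * γ₀⁻¹
  have hxπ : L.π xh = β • ((L.π a).1, (0 : V2)) + δ • (n, (0 : V2)) + γ • ((0 : V2), r) :=
    Prod.ext (by simp [hxh1]) (by simp [hxh2])
  have hSx : S (L.π xh) = β • S ((L.π a).1, 0) + δ • S (n, 0) + γ • S (0, r) := by
    rw [hxπ, map_add, map_add, ZMod.map_smul, ZMod.map_smul, ZMod.map_smul]
  -- the commutator with `s` is in the meet
  have hmem : s * xh * s⁻¹ * xh⁻¹ ∈ L.meet g := by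
    refine ⟨L.Q.mul_mem (hsQ hxh) (L.Q.inv_mem hxh), ?_⟩
    have hC2 : s * xh * s⁻¹ ∈ L'.C := L'.C.mul_mem (L'.C.mul_mem hsC' hxhC) (L'.C.inv_mem hsC')
    refine (L'.ρ_ker _ (L'.C.mul_mem hC2 (L'.C.inv_mem hxhC))).1 ?_
    rw [L'.ρ_mul _ hC2 _ (L'.C.inv_mem hxhC), L'.ρ_mul _ (L'.C.mul_mem hsC' hxhC) _ (L'.C.inv_mem hsC'),
      L'.ρ_mul _ hsC' _ hxhC, L'.ρ_inv hsC', L'.ρ_inv hxhC, hρs]
    have hz : ∀ h : SS, sz * h * sz⁻¹ * h⁻¹ = 1 := by decide +kernel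
    exact hz _
  obtain ⟨e, he⟩ : ∃ e : ZMod 3, L.π (s * xh * s⁻¹ * xh⁻¹) = L.π xh + e • (n, (0 : V2)) := by
    refine ⟨β * k - β * m + γ * m - δ, ?_⟩
    have he1 : (S ((L.π a).1, 0)).1 = -(L.π a).1 + k • n - m • n := by rw [← e1]; abel
    rw [L.π_mul _ (hsQ hxh) _ (inv_mem hxh), L.π_inv hxh, ← hSπ hxh, hSx, hxπ]
    refine Prod.ext ?_ ?_
    · simp only [Prod.fst_add, Prod.fst_neg, Prod.smul_fst, he1, hm, hSn, smul_zero, add_zero]
      ext i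
      simp
      have h3 : (3 : ZMod 3) = 0 := rfl
      linear_combination (-β * (L.π a).1 i) * h3
    · simp only [Prod.snd_add, Prod.snd_neg, Prod.smul_snd, hS1, hSn, smul_zero, add_zero, zero_add, e2]
      ext i
      simp
      have h3 : (3 : ZMod 3) = 0 := rfl
      linear_combination (-γ * r i) * h3
  refine hxhA ?_
  have hq : L.π (xh * (g * L.z * g⁻¹) ^ e.val) = L.π (s * xh * s⁻¹ * xh⁻¹) := by
    rw [L.π_mul _ hxh _ (pow_mem hy _), L.π_pow hy, ZMod.natCast_zmod_val, hn, he]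
  obtain ⟨l, hl⟩ := L.mem_zp ((L.π_eq_iff (mul_mem hxh (pow_mem hy _)) hmem.1).1 hq)
  have hin : xh * (g * L.z * g⁻¹) ^ e.val ∈ L.meet g := by
    rw [show xh * (g * L.z * g⁻¹) ^ e.val = s * xh * s⁻¹ * xh⁻¹ * (L.z ^ l.val)⁻¹ by rw [← hl]; group]
    exact mul_mem hmem (inv_mem (pow_mem hzA _))
  exact (mul_mem_cancel_right (pow_mem hyA _)).1 hin

/-- A conjugate of `z` inside `Q` is a pure isotropic vector. -/
theorem pure_iso [Finite G] {g : G} (hy : g * L.z * g⁻¹ ∈ L.Q)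
    (hyz : g * L.z * g⁻¹ ∉ zpowers L.z) :
    ∃ (n b : V2), n ≠ 0 ∧ L.π (g * L.z * g⁻¹) = (b 0 • n, b 1 • n) ∧ b ≠ 0 ∧
      L.B 0 0 * b 0 * b 0 + (L.B 0 1 + L.B 1 0) * b 0 * b 1 + L.B 1 1 * b 1 * b 1 = 0 := by
  obtain ⟨-, -, -, -, -, x, hx, hxC, hxQ⟩ := L.meet_facts hy hyz
  obtain ⟨hc3, hne, hfix⟩ := L.unip_facts hy hx hxC hxQ
  have hv : L.π (g * L.z * g⁻¹) ≠ 0 := fun h => hyz ((L.π_ker _ hy).1 h)
  have hline : ∀ n : V2, n ≠ 0 → (L.ρ x).1 *ᵥ n = n → ∀ w : V2, (L.ρ x).1 *ᵥ w = w →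
      ∃ c : ZMod 3, w = c • n := fun n hn0 hn w hw => rank_one_table n w hn0
    (((unip_table (L.ρ x).1 (L.ρ x).2 (congrArg Subtype.val hc3)
      (fun h => hne (Subtype.ext h)) n hn0 hn) w).1.2 hw)
  obtain ⟨n, b, hn0, hπ, hb0⟩ : ∃ n b : V2, n ≠ 0 ∧
      L.π (g * L.z * g⁻¹) = (b 0 • n, b 1 • n) ∧ b ≠ 0 := by
    by_cases h1 : (L.π (g * L.z * g⁻¹)).1 = 0
    · refine ⟨(L.π (g * L.z * g⁻¹)).2, ![0, 1], fun h => hv (Prod.ext h1 h), ?_, by decide⟩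
      exact Prod.ext (by simp [h1]) (by simp)
    · obtain ⟨c, hc⟩ := hline _ h1 (congrArg Prod.fst hfix) _ (congrArg Prod.snd hfix)
      exact ⟨_, ![1, c], h1, Prod.ext (by simp) (by simp [hc]), fun h => one_ne_zero (congrFun h 0)⟩
  refine ⟨n, b, hn0, hπ, hb0, ?_⟩
  obtain ⟨P, hP, hPb, hcase⟩ := basis_table L.B L.B_sym L.B_det b hb0
  have e00 : (P.transpose * L.B * P) 0 0 =
      L.B 0 0 * b 0 * b 0 + (L.B 0 1 + L.B 1 0) * b 0 * b 1 + L.B 1 1 * b 1 * b 1 := by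
    rw [← hPb]; simp [Matrix.mul_apply, Fin.sum_univ_two]; ring
  rcases hcase with h | ⟨h00, h01⟩
  · rw [← e00, h]; rfl
  · refine ((L.rebase P hP).aniso_false (g := g) hy hyz (n := n) ?_ h00 h01).elim
    have hi : P⁻¹ * P = 1 := Matrix.nonsing_inv_mul _ (isUnit_iff_ne_zero.2 hP)
    have ea : (P⁻¹ * P) 0 0 = 1 := by rw [hi]; rfl
    have eb : (P⁻¹ * P) 1 0 = 0 := by rw [hi]; rfl
    simp only [Matrix.mul_apply, Fin.sum_univ_two] at ea eb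
    rw [show P 0 0 = b 0 from congrFun hPb 0, show P 1 0 = b 1 from congrFun hPb 1] at ea eb
    show (P⁻¹ 0 0 • (L.π (g * L.z * g⁻¹)).1 + P⁻¹ 0 1 • (L.π (g * L.z * g⁻¹)).2,
      P⁻¹ 1 0 • (L.π (g * L.z * g⁻¹)).1 + P⁻¹ 1 1 • (L.π (g * L.z * g⁻¹)).2) = (n, 0)
    rw [hπ, smul_smul, smul_smul, smul_smul, smul_smul, ← add_smul, ← add_smul, ea, eb, one_smul,
      zero_smul]

end Loc

end CfsgLib.L43
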