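import Cfsg.Agent.LFourThree.NotReg

/-!
# The conjugates of the central element inside the parabolic and its extension
-/

set_option autoImplicit false
set_option maxRecDepth 100000
set_option linter.style.haveILetI false
set_option linter.unusedSectionVars false

namespace CfsgLib.L43

open Subgroup FM Fus

universe u

theorem three_zmod_zero : (3 : ZMod 3) = 0 := by decide

theorem det_neg_one4 : (-1 : M4).det = 1 := by decide +kernel

/-- The scalar `-1`. -/
def negI : SL4 := ⟨-1, det_neg_one4⟩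

theorem negI_mul (h : SL4) : (negI * h).1 = -h.1 := by
  rw [Matrix.SpecialLinearGroup.coe_mul]
  exact neg_one_mul _

theorem negI_sq : negI * negI = 1 := Subtype.ext (by rw [negI_mul]; exact neg_neg _)

theorem negI_cube {h : SL4} (e : (h * h * h).1 = -1) :
    negI * h * (negI * h) * (negI * h) = 1 := by
  refine Subtype.ext ?_
  rw [Matrix.SpecialLinearGroup.coe_mul, Matrix.SpecialLinearGroup.coe_mul, negI_mul]
  rw [Matrix.SpecialLinearGroup.coe_mul, Matrix.SpecialLinearGroup.coe_mul] at e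
  rw [Matrix.SpecialLinearGroup.coe_one, neg_mul_neg, mul_neg, e, neg_neg]

variable {G : Type u} [Group G] [Finite G]

namespace Emb

variable (E : Emb G)
include E

/-- The regular element and its inverse are not conjugate to `z`. -/
theorem not_reg' {x : Pv} {g : G} (hg : g * E.z * g⁻¹ = E.ψ x) :
    x ≠ regm ∧ x ≠ regm⁻¹ := by
  refine ⟨fun e => E.not_reg g (by rw [hg, e]), fun e => E.not_reg (g * E.ψ dl) ?_⟩
  rw [E.conj_dl hg, e, map_inv, inv_inv]

/-- A unitriangular element conjugate to `z` lies in `U` or `V` up to conjugation. -/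
theorem pure_up_cases {a b c s d e : ZMod 3} (hase : a * s * e = 0) {g : G}
    (hg : g * E.z * g⁻¹ = E.ψ (up a b c s d e)) :
    ∃ p : Pv, ∃ a' b' c' d' e', p * up a b c s d e * p⁻¹ = up a' b' c' 0 d' e' ∧
      ((d' = 0 ∧ e' = 0) ∨ (a' = 0 ∧ b' = 0)) := by
  haveI : Fact (Nat.Prime 3) := ⟨Nat.prime_three⟩
  have key : ∀ p : Pv, ∀ a' b' c' d' e', p * up a b c s d e * p⁻¹ = up a' b' c' 0 d' e' →
      ((d' = 0 ∧ e' = 0) ∨ (a' = 0 ∧ b' = 0)) := by
    intro p a' b' c' d' e' hp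
    refine pure_up (c := c') (E.pure (E.ψ p * g) (up a' b' c' 0 d' e') (mem_Qm_up.2 rfl) ?_)
    rw [← hp, map_mul, map_mul, ← hg, map_inv]; group
  by_cases hs : s = 0
  · subst hs
    have hp : (1 : Pv) * up a b c 0 d e * 1⁻¹ = up a b c 0 d e := by
      rw [one_mul, inv_one, mul_one]
    exact ⟨1, a, b, c, d, e, hp, key 1 _ _ _ _ _ hp⟩
  by_cases he : e = 0
  · subst he
    obtain ⟨q, hq⟩ := exists_to_Qm (a := a) (b := b) (c := c) (d := d) hs
    exact ⟨q, _, _, _, _, _, hq, key q _ _ _ _ _ hq⟩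
  exfalso
  have ha : a = 0 := by
    rcases mul_eq_zero.1 hase with h | h
    · exact (mul_eq_zero.1 h).resolve_right hs
    · exact absurd h he
  obtain ⟨q, -, h⟩ := isReg_up (b := b) (c := c) (d := d) ha hs he
  have hn := E.not_reg' (x := q * up a b c s d e * q⁻¹) (g := E.ψ q * g) (by
    rw [map_mul, map_mul, ← hg, map_inv]; group)
  exact h.elim hn.1 hn.2

/-- **Piece B**: in the first case conjugates of `z` in the range come from the range. -/
theorem conj_range (h : E.OnlyU) {g : G} (hg : g * E.z * g⁻¹ ∈ E.ψ.range) : g ∈ E.ψ.range := by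
  haveI : Fact (Nat.Prime 3) := ⟨Nat.prime_three⟩
  haveI : Finite Pv := Finite.of_injective E.ψ E.inj
  obtain ⟨x, hx⟩ := hg
  have hz3 : E.z * E.z * E.z = 1 := by
    show E.ψ zm * E.ψ zm * E.ψ zm = 1
    rw [← map_mul, ← map_mul, zm_eq, up_mul, up_mul, ← map_one E.ψ, one_eq]
    congr 2 <;> decide
  have h3 : x * x * x = 1 := E.inj (by
    rw [map_mul, map_mul, map_one, hx,
      show g * E.z * g⁻¹ * (g * E.z * g⁻¹) * (g * E.z * g⁻¹) = g * (E.z * E.z * E.z) * g⁻¹ by group,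
      hz3, mul_one, mul_inv_cancel])
  have hmax : ∀ P : Subgroup Pv, IsPGroup 3 P → Nat.card P ≤ 729 := fun P hP => by
    have h1 := E.sylow (P.map E.ψ) (hP.map E.ψ)
    rwa [card_map_of_injective E.inj] at h1
  obtain ⟨p, hp⟩ := conj_into Sm card_Sm hmax h3
  obtain ⟨a, b, c, s, d, e, hy⟩ : ∃ a b c s d e, p * x * p⁻¹ = up a b c s d e :=
    ⟨_, _, _, _, _, _, eq_up hp⟩
  have hg' : (E.ψ p * g) * E.z * (E.ψ p * g)⁻¹ = E.ψ (up a b c s d e) := by
    rw [← hy, map_mul, map_mul, hx, map_inv]; group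
  have hase : a * s * e = 0 := by
    have hy3 : up a b c s d e * up a b c s d e * up a b c s d e = 1 := by
      rw [← hy]
      calc p * x * p⁻¹ * (p * x * p⁻¹) * (p * x * p⁻¹) = p * (x * x * x) * p⁻¹ := by group
        _ = 1 := by rw [h3, mul_one, mul_inv_cancel]
    rw [up_mul, up_mul, one_eq] at hy3
    obtain ⟨-, -, h', -⟩ := up_inj hy3
    have h30 := three_zmod_zero
    linear_combination h' - (c + a * d + b * e) * h30
  obtain ⟨q, a', b', c', d', e', hq, -⟩ := E.pure_up_cases hase hg'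
  have hq' : (E.ψ q * (E.ψ p * g)) * E.z * (E.ψ q * (E.ψ p * g))⁻¹ = E.ψ (up a' b' c' 0 d' e') := by
    rw [← hq, map_mul E.ψ, map_mul E.ψ, ← hg', map_inv]; group
  have hU := h _ _ (mem_Qm_up.2 rfl) hq'
  have hU' : d' = 0 ∧ e' = 0 := (mem_Um_up.1 (show up a' b' c' 0 d' e' ∈ Um from hU)).2
  obtain ⟨rfl, rfl⟩ := hU'
  have hne : ¬ (a' = 0 ∧ b' = 0 ∧ c' = 0) := by
    rintro ⟨rfl, rfl, rfl⟩
    have hz1 : E.z = 1 := by
      rw [← one_eq, map_one] at hq'
      calc E.z = (E.ψ q * (E.ψ p * g))⁻¹ * (E.ψ q * (E.ψ p * g) * E.z * (E.ψ q * (E.ψ p * g))⁻¹) *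
          (E.ψ q * (E.ψ p * g)) := by group
        _ = 1 := by rw [hq']; group
    have h0 : zm = 1 := E.inj (by rw [map_one]; exact hz1)
    rw [zm_eq, one_eq] at h0
    exact one_ne_zero (up_inj h0).2.2.1
  obtain ⟨r, hr⟩ := exists_moveU hne
  set k := E.ψ r * (E.ψ q * (E.ψ p * g)) with hk
  have hk' : k * E.z = E.z * k := by
    refine mul_inv_eq_iff_eq_mul.1 ?_
    calc k * E.z * k⁻¹ = E.ψ r * ((E.ψ q * (E.ψ p * g)) * E.z * (E.ψ q * (E.ψ p * g))⁻¹) * (E.ψ r)⁻¹ := by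
          rw [hk]; group
      _ = E.z := by rw [hq', ← map_inv, ← map_mul, ← map_mul, hr]
  have hkr : k ∈ E.ψ.range := E.cent (mem_centralizer_singleton_iff.2 hk')
  rw [show g = (E.ψ p)⁻¹ * ((E.ψ q)⁻¹ * ((E.ψ r)⁻¹ * k)) by rw [hk]; group]
  exact mul_mem (inv_mem ⟨p, rfl⟩) (mul_mem (inv_mem ⟨q, rfl⟩) (mul_mem (inv_mem ⟨r, rfl⟩) hkr))

end Emb

namespace Full

variable {E : Emb G} (F : Full E)
include F

/-- The scalar `-1`. -/
theorem φ_neg {n : SL4} (hn : n.1 = -1) : F.φ n = 1 := (F.ker n).2 (Or.inr hn)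

/-- **Piece B**: in the second case conjugates of `z` in the range come from the range. -/
theorem conj_range {g : G} (hg : g * E.z * g⁻¹ ∈ F.φ.range) : g ∈ F.φ.range := by
  haveI : Fact (Nat.Prime 3) := ⟨Nat.prime_three⟩
  obtain ⟨h₀, hh₀⟩ := hg
  have hz3 : E.z * E.z * E.z = 1 := by
    show E.ψ zm * E.ψ zm * E.ψ zm = 1
    rw [← map_mul, ← map_mul, zm_eq, up_mul, up_mul, ← map_one E.ψ, one_eq]
    congr 2 <;> decide
  have hk : F.φ (h₀ * h₀ * h₀) = 1 := by
    rw [map_mul, map_mul, hh₀,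
      show g * E.z * g⁻¹ * (g * E.z * g⁻¹) * (g * E.z * g⁻¹) = g * (E.z * E.z * E.z) * g⁻¹ by group,
      hz3, mul_one, mul_inv_cancel]
  obtain ⟨h, hh, h3⟩ : ∃ h : SL4, F.φ h = g * E.z * g⁻¹ ∧ h * h * h = 1 := by
    rcases (F.ker _).1 hk with e | e
    · exact ⟨h₀, hh₀, Subtype.ext e⟩
    · exact ⟨negI * h₀, by rw [map_mul, F.φ_neg (n := negI) rfl, one_mul, hh₀], negI_cube e⟩
  have hmax : ∀ P : Subgroup SL4, IsPGroup 3 P → Nat.card P ≤ 729 := fun P hP => by
    have h1 := E.sylow (P.map F.φ) (hP.map F.φ)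
    have hinj : Function.Injective (F.φ.subgroupMap P) := by
      rw [injective_iff_map_eq_one]
      intro x hx
      have hx' : F.φ (x : SL4) = 1 := congrArg Subtype.val hx
      rcases (F.ker _).1 hx' with e1 | e1
      · exact Subtype.ext (Subtype.ext e1)
      · have h2 : x ^ 2 = 1 := by
          refine Subtype.ext ?_
          rw [pow_two, Subgroup.coe_mul, Subgroup.coe_one,
            show (x : SL4) = negI from Subtype.ext e1, negI_sq]
        obtain ⟨m, hm⟩ := hP x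
        exact orderOf_eq_one_iff.1 (Nat.eq_one_of_dvd_coprimes
          (Nat.Coprime.pow_right m (by norm_num : Nat.Coprime 2 3))
          (orderOf_dvd_of_pow_eq_one h2) (orderOf_dvd_of_pow_eq_one hm))
    exact le_trans (Nat.card_le_card_of_injective _ hinj) h1
  have h729 : Nat.card (Sm.map Pv.subtype) = 729 := by
    rw [card_map_of_injective Pv.subtype_injective, card_Sm]
  obtain ⟨k, hkS⟩ := conj_into _ h729 hmax h3
  obtain ⟨y, hy, hye⟩ := hkS
  obtain ⟨a, b, c, s, d, e, hy'⟩ : ∃ a b c s d e, y = up a b c s d e :=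
    ⟨_, _, _, _, _, _, eq_up hy⟩
  have hyk : (up a b c s d e : SL4) = k * h * k⁻¹ := by rw [← hy']; exact hye
  have hase : a * s * e = 0 := by
    have hy3 : up a b c s d e * up a b c s d e * up a b c s d e = 1 := by
      refine Subtype.ext ?_
      rw [Subgroup.coe_mul, Subgroup.coe_mul, Subgroup.coe_one, hyk,
        show k * h * k⁻¹ * (k * h * k⁻¹) * (k * h * k⁻¹) = k * (h * h * h) * k⁻¹ by group, h3,
        mul_one, mul_inv_cancel]
    rw [up_mul, up_mul, one_eq] at hy3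
    obtain ⟨-, -, h', -⟩ := up_inj hy3
    have h30 := three_zmod_zero
    linear_combination h' - (c + a * d + b * e) * h30
  have hg' : (F.φ k * g) * E.z * (F.φ k * g)⁻¹ = E.ψ (up a b c s d e) := by
    rw [← F.φ_eq, hyk, map_mul, map_mul, map_inv, hh]; group
  obtain ⟨q, a', b', c', d', e', hq, hcase⟩ := E.pure_up_cases hase hg'
  have hq' : (E.ψ q * (F.φ k * g)) * E.z * (E.ψ q * (F.φ k * g))⁻¹ = E.ψ (up a' b' c' 0 d' e') := by
    rw [← hq, map_mul E.ψ, map_mul E.ψ, ← hg', map_inv]; group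
  have hne : ¬ (a' = 0 ∧ b' = 0 ∧ c' = 0 ∧ d' = 0 ∧ e' = 0) := by
    rintro ⟨rfl, rfl, rfl, rfl, rfl⟩
    have hz1 : E.z = 1 := by
      rw [← one_eq, map_one] at hq'
      calc E.z = (E.ψ q * (F.φ k * g))⁻¹ * (E.ψ q * (F.φ k * g) * E.z * (E.ψ q * (F.φ k * g))⁻¹) *
          (E.ψ q * (F.φ k * g)) := by group
        _ = 1 := by rw [hq']; group
    have h0 : zm = 1 := E.inj (by rw [map_one]; exact hz1)
    rw [zm_eq, one_eq] at h0
    exact one_ne_zero (up_inj h0).2.2.1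
  obtain ⟨r, hr⟩ : ∃ r : SL4, r * (up a' b' c' 0 d' e' : SL4) * r⁻¹ = (zm : SL4) := by
    rcases hcase with ⟨rfl, rfl⟩ | ⟨rfl, rfl⟩
    · obtain ⟨r, hr⟩ := exists_moveU (a := a') (b := b') (c := c') (fun e => hne ⟨e.1, e.2.1, e.2.2, rfl, rfl⟩)
      exact ⟨r, by rw [← hr, Subgroup.coe_mul, Subgroup.coe_mul, Subgroup.coe_inv]⟩
    · exact exists_moveV fun e => hne ⟨rfl, rfl, e.1, e.2.1, e.2.2⟩
  set w := F.φ r * (E.ψ q * (F.φ k * g)) with hw
  have hw' : w * E.z = E.z * w := by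
    refine mul_inv_eq_iff_eq_mul.1 ?_
    calc w * E.z * w⁻¹ = F.φ r * ((E.ψ q * (F.φ k * g)) * E.z * (E.ψ q * (F.φ k * g))⁻¹) * (F.φ r)⁻¹ := by
          rw [hw]; group
      _ = E.z := by
          rw [hq', ← F.φ_eq, ← map_inv, ← map_mul, ← map_mul, hr, F.φ_eq]
  have hwr : w ∈ F.φ.range := by
    obtain ⟨p, hp⟩ := E.cent (mem_centralizer_singleton_iff.2 hw')
    exact ⟨p, by rw [F.φ_eq, hp]⟩
  rw [show g = (F.φ k)⁻¹ * ((E.ψ q)⁻¹ * ((F.φ r)⁻¹ * w)) by rw [hw]; group]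
  exact mul_mem (inv_mem ⟨k, rfl⟩) (mul_mem (inv_mem ⟨q, F.φ_eq q⟩) (mul_mem (inv_mem ⟨r, rfl⟩) hwr))

end Full

end CfsgLib.L43
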