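import Cfsg.Agent.LFourThree.Affine

/-!
# Coordinates in the Sylow three-subgroup of the parabolic
-/

set_option autoImplicit false
set_option maxRecDepth 100000
set_option linter.style.haveILetI false
set_option linter.unusedSimpArgs false
set_option linter.unusedTactic false
set_option linter.unreachableTactic false

namespace CfsgLib.L43.FM

open Matrix Subgroup

/-- Unitriangular matrices in coordinates. -/
def upM (a b c s d e : ZMod 3) : M4 := !![1, a, b, c; 0, 1, s, d; 0, 0, 1, e; 0, 0, 0, 1]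

theorem det_upM (a b c s d e : ZMod 3) : (upM a b c s d e).det = 1 := by
  simp [upM, Matrix.det_succ_row_zero, Fin.sum_univ_succ]

theorem upM_col (a b c s d e : ZMod 3) (i : Fin 4) :
    upM a b c s d e i 0 = if i = 0 then 1 else 0 := by fin_cases i <;> simp [upM]

/-- Unitriangular elements of the parabolic. -/
def up (a b c s d e : ZMod 3) : Pv :=
  ⟨⟨upM a b c s d e, det_upM a b c s d e⟩, mem_Pv.2 (upM_col a b c s d e)⟩

@[simp] theorem up_val (a b c s d e : ZMod 3) : (up a b c s d e : SL4).1 = upM a b c s d e := rfl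

theorem pv_ext {g h : Pv} (e : (g : SL4).1 = (h : SL4).1) : g = h := Subtype.ext (Subtype.ext e)

theorem upM_mul (a b c s d e a' b' c' s' d' e' : ZMod 3) :
    upM a b c s d e * upM a' b' c' s' d' e' =
      upM (a + a') (b + b' + a * s') (c + c' + a * d' + b * e') (s + s') (d + d' + s * e') (e + e') := by
  ext i j
  fin_cases i <;> fin_cases j <;> simp [upM, Matrix.mul_apply, Fin.sum_univ_four] <;> ring

theorem up_mul (a b c s d e a' b' c' s' d' e' : ZMod 3) :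
    up a b c s d e * up a' b' c' s' d' e' =
      up (a + a') (b + b' + a * s') (c + c' + a * d' + b * e') (s + s') (d + d' + s * e') (e + e') :=
  pv_ext (upM_mul a b c s d e a' b' c' s' d' e')

theorem up_inj {a b c s d e a' b' c' s' d' e' : ZMod 3}
    (h : up a b c s d e = up a' b' c' s' d' e') :
    a = a' ∧ b = b' ∧ c = c' ∧ s = s' ∧ d = d' ∧ e = e' := by
  have h' : upM a b c s d e = upM a' b' c' s' d' e' := congrArg (fun g : Pv => (g : SL4).1) h
  exact ⟨by simpa [upM] using congrFun (congrFun h' 0) 1,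
    by simpa [upM] using congrFun (congrFun h' 0) 2,
    by simpa [upM] using congrFun (congrFun h' 0) 3,
    by simpa [upM] using congrFun (congrFun h' 1) 2,
    by simpa [upM] using congrFun (congrFun h' 1) 3,
    by simpa [upM] using congrFun (congrFun h' 2) 3⟩

theorem zm_eq : zm = up 0 0 1 0 0 0 := pv_ext (by decide +kernel)
theorem fm_eq : fm = up 0 0 0 0 1 0 := pv_ext (by decide +kernel)
theorem um_eq : um = up 0 0 0 1 0 0 := pv_ext (by decide +kernel)
theorem regm_eq : regm = up 0 0 0 1 1 1 := pv_ext (by decide +kernel)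
theorem one_eq : (1 : Pv) = up 0 0 0 0 0 0 := pv_ext (by decide +kernel)

theorem wm_eq (c : ZMod 3) : wm c = up 0 1 0 0 c 0 :=
  pv_ext (by revert c; decide +kernel)

theorem regm_inv : regm⁻¹ = up 0 0 0 (-1) 0 (-1) := by
  rw [inv_eq_iff_mul_eq_one, regm_eq, one_eq, up_mul]
  congr 1 <;> decide

theorem mem_Sm_up (a b c s d e : ZMod 3) : up a b c s d e ∈ Sm := by
  show InS (upM a b c s d e)
  refine ⟨?_, ?_, ?_, ?_, ?_, ?_, ?_, ?_, ?_, ?_⟩ <;> simp [upM]

theorem eq_up {g : Pv} (hg : g ∈ Sm) : g = up ((g : SL4).1 0 1) ((g : SL4).1 0 2) ((g : SL4).1 0 3)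
    ((g : SL4).1 1 2) ((g : SL4).1 1 3) ((g : SL4).1 2 3) := by
  obtain ⟨a0, a1, a2, a3, a4, a5, a6, a7, a8, a9⟩ := (hg : InS (g : SL4).1)
  refine pv_ext ?_
  ext i j
  fin_cases i <;> fin_cases j <;> simp [upM, a0, a1, a2, a3, a4, a5, a6, a7, a8, a9]

theorem card_Sm : Nat.card Sm = 729 := by
  let f : ZMod 3 × ZMod 3 × ZMod 3 × ZMod 3 × ZMod 3 × ZMod 3 → Sm := fun v =>
    ⟨up v.1 v.2.1 v.2.2.1 v.2.2.2.1 v.2.2.2.2.1 v.2.2.2.2.2, mem_Sm_up _ _ _ _ _ _⟩
  have hf : Function.Bijective f := by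
    refine ⟨fun v w h => ?_, fun g => ⟨((g.1 : SL4).1 0 1, (g.1 : SL4).1 0 2, (g.1 : SL4).1 0 3,
      (g.1 : SL4).1 1 2, (g.1 : SL4).1 1 3, (g.1 : SL4).1 2 3), Subtype.ext (eq_up g.2).symm⟩⟩
    obtain ⟨h1, h2, h3, h4, h5, h6⟩ := up_inj (congrArg Subtype.val h)
    exact Prod.ext h1 (Prod.ext h2 (Prod.ext h3 (Prod.ext h4 (Prod.ext h5 h6))))
  rw [← Nat.card_congr (Equiv.ofBijective f hf)]
  simp [Nat.card_prod, Nat.card_zmod]

/-- The centraliser of `zm` in the parabolic. -/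
abbrev C0 : Subgroup Pv := centralizer ({zm} : Set Pv)

theorem col0 (g : Pv) (i : Fin 4) : (g : SL4).1 i 0 = if i = 0 then 1 else 0 := mem_Pv.1 g.2 i

theorem mem_C0 {g : Pv} : g ∈ C0 ↔
    (g : SL4).1 3 1 = 0 ∧ (g : SL4).1 3 2 = 0 ∧ (g : SL4).1 3 3 = 1 := by
  have h00 := col0 g 0
  have h10 := col0 g 1
  have h20 := col0 g 2
  have h30 := col0 g 3
  simp only [Fin.reduceEq, if_true, if_false, one_ne_zero] at h00 h10 h20 h30
  rw [mem_centralizer_singleton_iff]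
  constructor
  · intro h
    have h' : (g : SL4).1 * upM 0 0 1 0 0 0 = upM 0 0 1 0 0 0 * (g : SL4).1 := by
      have := congrArg (fun x : Pv => (x : SL4).1) h
      simpa [zm_eq] using this
    have e1 := congrFun (congrFun h' 0) 1
    have e2 := congrFun (congrFun h' 0) 2
    have e3 := congrFun (congrFun h' 0) 3
    simp [upM, Matrix.mul_apply, Fin.sum_univ_four, h00] at e1 e2 e3
    refine ⟨e1, e2, ?_⟩
    linear_combination -e3
  · rintro ⟨a1, a2, a3⟩
    refine pv_ext ?_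
    rw [zm_eq]
    show (g : SL4).1 * upM 0 0 1 0 0 0 = upM 0 0 1 0 0 0 * (g : SL4).1
    ext i j
    fin_cases i <;> fin_cases j <;>
      simp [upM, Matrix.mul_apply, Fin.sum_univ_four, h00, h10, h20, h30, a1, a2, a3] <;> ring

theorem up_mem_C0 (a b c s d e : ZMod 3) : up a b c s d e ∈ C0 :=
  mem_C0.2 ⟨by simp [upM], by simp [upM], by simp [upM]⟩

theorem Sm_le_C0 : Sm ≤ C0 := fun g hg => eq_up hg ▸ up_mem_C0 _ _ _ _ _ _

theorem tm_mem_C0 : tm ∈ C0 := mem_C0.2 (by decide +kernel)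

theorem tm_conj (a b c s d e : ZMod 3) :
    tm * up a b c s d e * tm⁻¹ = up (-a) (-b) c s (-d) (-e) := by
  rw [mul_inv_eq_iff_eq_mul]
  refine pv_ext ?_
  show Matrix.diagonal ![1, -1, -1, 1] * upM a b c s d e =
    upM (-a) (-b) c s (-d) (-e) * Matrix.diagonal ![1, -1, -1, 1]
  ext i j
  rw [Matrix.diagonal_mul, Matrix.mul_diagonal]
  fin_cases i <;> fin_cases j <;> simp [upM]

/-- An involution inverting `zm`. -/
def dl : Pv := ⟨⟨Matrix.diagonal ![1, -1, 1, -1], by decide +kernel⟩, mem_Pv.2 (by decide +kernel)⟩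

theorem dl_sq : dl * dl = 1 := pv_ext (by decide +kernel)

theorem dl_conj (a b c s d e : ZMod 3) :
    dl * up a b c s d e * dl⁻¹ = up (-a) b (-c) (-s) d (-e) := by
  rw [mul_inv_eq_iff_eq_mul]
  refine pv_ext ?_
  show Matrix.diagonal ![1, -1, 1, -1] * upM a b c s d e =
    upM (-a) b (-c) (-s) d (-e) * Matrix.diagonal ![1, -1, 1, -1]
  ext i j
  rw [Matrix.diagonal_mul, Matrix.mul_diagonal]
  fin_cases i <;> fin_cases j <;> simp [upM]

theorem dl_zm : dl * zm * dl⁻¹ = zm⁻¹ := by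
  rw [eq_inv_iff_mul_eq_one, zm_eq, dl_conj, one_eq, up_mul]
  congr 1 <;> decide

theorem dl_not_mem_C0 : dl ∉ C0 := fun h => absurd (mem_C0.1 h).2.2 (by decide +kernel)

theorem card_C0 : 5832 ≤ Nat.card C0 := by
  classical
  let B := {v : ZMod 3 × ZMod 3 × ZMod 3 × ZMod 3 // v.1 * v.2.2.2 - v.2.1 * v.2.2.1 = 1}
  let M : (ZMod 3 × ZMod 3 × ZMod 3 × ZMod 3 × ZMod 3) × B → M4 := fun v =>
    !![1, v.1.1, v.1.2.1, v.1.2.2.1; 0, v.2.1.1, v.2.1.2.1, v.1.2.2.2.1;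
      0, v.2.1.2.2.1, v.2.1.2.2.2, v.1.2.2.2.2; 0, 0, 0, 1]
  have hdet : ∀ v, (M v).det = 1 := fun v => by
    simp [M, Matrix.det_succ_row_zero, Fin.sum_univ_succ]
    linear_combination v.2.2
  have hcol : ∀ v i, M v i 0 = if i = 0 then 1 else 0 := fun v i => by
    fin_cases i <;> simp [M]
  let f : (ZMod 3 × ZMod 3 × ZMod 3 × ZMod 3 × ZMod 3) × B → C0 := fun v =>
    ⟨⟨⟨M v, hdet v⟩, mem_Pv.2 (hcol v)⟩, mem_C0.2 ⟨by simp [M], by simp [M], by simp [M]⟩⟩
  have hf : Function.Injective f := fun v w h => by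
    have h' : M v = M w := congrArg (fun g : C0 => (g.1 : SL4).1) h
    have e : ∀ i j, M v i j = M w i j := fun i j => by rw [h']
    exact Prod.ext
      (Prod.ext (by simpa [M] using e 0 1) (Prod.ext (by simpa [M] using e 0 2)
        (Prod.ext (by simpa [M] using e 0 3) (Prod.ext (by simpa [M] using e 1 3)
          (by simpa [M] using e 2 3)))))
      (Subtype.ext (Prod.ext (by simpa [M] using e 1 1) (Prod.ext (by simpa [M] using e 1 2)
        (Prod.ext (by simpa [M] using e 2 1) (by simpa [M] using e 2 2)))))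
  have hB : Nat.card B = 24 := by rw [Nat.card_eq_fintype_card]; decide +kernel
  have h := Nat.card_le_card_of_injective f hf
  simp only [Nat.card_prod, Nat.card_zmod, hB] at h
  omega

/-- Conjugate inside `C0` to the regular element or its inverse. -/
def IsReg (x : Pv) : Prop := ∃ g ∈ C0, g * x * g⁻¹ = regm ∨ g * x * g⁻¹ = regm⁻¹

theorem reg_choice : ∀ b c s d e : ZMod 3, s ≠ 0 → e ≠ 0 → ∃ p q t : ZMod 3,
    b + p * s = 0 ∧ c + p * d + q * e = 0 ∧
      d + t * e = if s = 1 then (if e = 1 then 1 else -1) else 0 := by decide +kernel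

theorem reg_cases : ∀ s e : ZMod 3, s ≠ 0 → e ≠ 0 →
    (s = 1 ∧ e = 1) ∨ (s = 1 ∧ e = -1) ∨ (s = -1 ∧ e = 1) ∨ (s = -1 ∧ e = -1) := by decide +kernel

theorem isReg_up {a b c s d e : ZMod 3} (ha : a = 0) (hs : s ≠ 0) (he : e ≠ 0) :
    IsReg (up a b c s d e) := by
  subst ha
  obtain ⟨p, q, t, h1, h2, h3⟩ := reg_choice b c s d e hs he
  have hk : up p q 0 t 0 0 * up 0 b c s d e * (up p q 0 t 0 0)⁻¹ = up 0 0 0 s (d + t * e) e := by
    rw [mul_inv_eq_iff_eq_mul, up_mul, up_mul]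
    congr 1
    · ring
    · linear_combination h1
    · linear_combination h2
    · ring
    · ring
    · ring
  have hC : up p q 0 t 0 0 ∈ C0 := up_mem_C0 _ _ _ _ _ _
  have htC := mul_mem tm_mem_C0 hC
  have hflip : (tm * up p q 0 t 0 0) * up 0 b c s d e * (tm * up p q 0 t 0 0)⁻¹ =
      up 0 0 0 s (-(d + t * e)) (-e) := by
    calc (tm * up p q 0 t 0 0) * up 0 b c s d e * (tm * up p q 0 t 0 0)⁻¹
        = tm * (up p q 0 t 0 0 * up 0 b c s d e * (up p q 0 t 0 0)⁻¹) * tm⁻¹ := by group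
      _ = _ := by rw [hk, tm_conj, neg_zero]
  rcases reg_cases s e hs he with ⟨rfl, rfl⟩ | ⟨rfl, rfl⟩ | ⟨rfl, rfl⟩ | ⟨rfl, rfl⟩
  · exact ⟨_, hC, Or.inl (by rw [hk, h3, regm_eq]; rfl)⟩
  · exact ⟨_, htC, Or.inl (by rw [hflip, h3, regm_eq]; rfl)⟩
  · exact ⟨_, htC, Or.inr (by rw [hflip, h3, regm_inv]; rfl)⟩
  · exact ⟨_, hC, Or.inr (by rw [hk, h3, regm_inv]; rfl)⟩

/-- The elements of the centraliser of `zm` and `regm`. -/
abbrev tel (i j k : ZMod 3) : Pv := up 0 0 i j k j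

theorem cent_regm {g : Pv} (hg : g ∈ C0) (h : g * regm = regm * g) :
    ∃ i j k, g = tel i j k := by
  have h00 := col0 g 0
  have h10 := col0 g 1
  have h20 := col0 g 2
  have h30 := col0 g 3
  simp only [Fin.reduceEq, if_true, if_false, one_ne_zero] at h00 h10 h20 h30
  obtain ⟨a1, a2, a3⟩ := mem_C0.1 hg
  have h' : (g : SL4).1 * upM 0 0 0 1 1 1 = upM 0 0 0 1 1 1 * (g : SL4).1 := by
    have := congrArg (fun x : Pv => (x : SL4).1) h
    simpa [regm_eq] using this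
  set A := (g : SL4).1 with hA
  have e02 := congrFun (congrFun h' 0) 2
  have e03 := congrFun (congrFun h' 0) 3
  have e11 := congrFun (congrFun h' 1) 1
  have e12 := congrFun (congrFun h' 1) 2
  have e13 := congrFun (congrFun h' 1) 3
  have e22 := congrFun (congrFun h' 2) 2
  have e23 := congrFun (congrFun h' 2) 3
  simp [upM, Matrix.mul_apply, Fin.sum_univ_four, h10, h20, h30, a1, a2, a3] at e02 e03 e11 e12 e13 e22 e23
  have a21 : A 2 1 = 0 := e22
  have a22 : A 2 2 = 1 := by linear_combination e23 - a21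
  have a11 : A 1 1 = 1 := by linear_combination e12 + a22
  refine ⟨A 0 3, A 1 2, A 1 3, pv_ext ?_⟩
  ext i j
  fin_cases i <;> fin_cases j <;>
    simp [upM, ← hA, h00, h10, h20, h30, a1, a2, a3, a11, a21, a22, e02]
  · linear_combination e03 - e02
  · linear_combination -e13 + a11

theorem j_choice : ∀ j p r : ZMod 3, p * r = 1 → p = j * r → r = j → j = 1 := by decide +kernel

/-- Elements of `C0` moving the regular element inside `tel` fix `fm`. -/
theorem norm_regm {g : Pv} (hg : g ∈ C0) {i j k : ZMod 3} (h : g * regm = tel i j k * g) :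
    j = 1 ∧ g * fm = fm * g := by
  have h00 := col0 g 0
  have h10 := col0 g 1
  have h20 := col0 g 2
  have h30 := col0 g 3
  simp only [Fin.reduceEq, if_true, if_false, one_ne_zero] at h00 h10 h20 h30
  obtain ⟨a1, a2, a3⟩ := mem_C0.1 hg
  have h' : (g : SL4).1 * upM 0 0 0 1 1 1 = upM 0 0 i j k j * (g : SL4).1 := by
    have := congrArg (fun x : Pv => (x : SL4).1) h
    simpa [regm_eq] using this
  have hdet := (g : SL4).2
  set A := (g : SL4).1 with hA
  have e02 := congrFun (congrFun h' 0) 2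
  have e12 := congrFun (congrFun h' 1) 2
  have e22 := congrFun (congrFun h' 2) 2
  have e23 := congrFun (congrFun h' 2) 3
  simp [upM, Matrix.mul_apply, Fin.sum_univ_four, h10, h20, h30, a1, a2, a3] at e02 e12 e22 e23
  have a21 : A 2 1 = 0 := e22
  have a22 : A 2 2 = j := by linear_combination e23 - a21
  have a11 : A 1 1 = j * A 2 2 := by linear_combination e12
  have hprod : A 1 1 * A 2 2 = 1 := by
    rw [← hdet]
    simp [Matrix.det_succ_row_zero, Fin.sum_univ_succ, h00, h10, h20, h30, a1, a2, a3, a21]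
  have hj := j_choice j _ _ hprod a11 a22
  refine ⟨hj, pv_ext ?_⟩
  show A * (fm : SL4).1 = (fm : SL4).1 * A
  rw [fm_eq, up_val]
  rw [a22, hj, mul_one] at a11
  ext r c
  fin_cases r <;> fin_cases c <;>
    simp [upM, Matrix.mul_apply, Fin.sum_univ_four, h00, h10, h20, h30, a1, a2, a3, a11, a21, e02] <;>
    ring

/-- A translation moving `regm` inside `tel`. -/
def tau : Pv := up 0 1 0 0 0 0

theorem tau_tel (i j k : ZMod 3) : tau * tel i j k = tel (i + j) j k * tau := by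
  rw [tau, up_mul, up_mul]
  congr 1 <;> ring

theorem tau_tel_fixed {i j k : ZMod 3} (h : tau * tel i j k = tel i j k * tau) : j = 0 := by
  rw [tau_tel] at h
  obtain ⟨-, -, h3, -⟩ := up_inj (mul_right_cancel h)
  linear_combination h3

/-- A translation moving `fm`. -/
theorem trans_fm (p i : ZMod 3) :
    up p 0 0 0 0 0 * tel i 0 1 * (up p 0 0 0 0 0)⁻¹ = tel (i + p) 0 1 := by
  rw [mul_inv_eq_iff_eq_mul, up_mul, up_mul]
  congr 1 <;> ring

theorem tel_inj {i j k i' j' k' : ZMod 3} (h : tel i j k = tel i' j' k') :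
    i = i' ∧ j = j' ∧ k = k' := by
  obtain ⟨-, -, h1, h2, h3, -⟩ := up_inj h
  exact ⟨h1, h2, h3⟩

theorem mem_Qm_up {a b c s d e : ZMod 3} : up a b c s d e ∈ Qm ↔ s = 0 := by
  show InQ (upM a b c s d e) ↔ _
  simp [InQ, upM]

theorem pure_up {a b c d e : ZMod 3} (h : Pure (up a b c 0 d e : SL4).1) :
    (d = 0 ∧ e = 0) ∨ (a = 0 ∧ b = 0) := by
  rcases h with ⟨-, h1, h2⟩ | ⟨-, h1, h2⟩
  · exact Or.inl ⟨by simpa [upM] using h1, by simpa [upM] using h2⟩
  · exact Or.inr ⟨by simpa [upM] using h1, by simpa [upM] using h2⟩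

theorem sq_one : ∀ s : ZMod 3, s ≠ 0 → s * s = 1 := by decide +kernel

/-- An element with trivial last off-diagonal entry is conjugate into the radical. -/
theorem exists_to_Qm {a b c s d : ZMod 3} (hs : s ≠ 0) :
    ∃ g : Pv, g * up a b c s d 0 * g⁻¹ = up a (b * d - c * s) (b * s) 0 1 0 := by
  have h2 := sq_one s hs
  let W : M4 := !![1, 0, 0, 0; 0, 1, 0, 0; 0, 0, d, s; 0, 0, -s, 0]
  have hdet : W.det = 1 := by
    simp [W, Matrix.det_succ_row_zero, Fin.sum_univ_succ]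
    linear_combination h2
  let w : Pv := ⟨⟨W, hdet⟩, mem_Pv.2 (fun i => by fin_cases i <;> simp [W])⟩
  have hw : up a b c s d 0 * w = w * up a (b * d - c * s) (b * s) 0 1 0 := by
    refine pv_ext ?_
    show upM a b c s d 0 * W = W * upM a (b * d - c * s) (b * s) 0 1 0
    ext i j
    fin_cases i <;> fin_cases j <;> simp [W, upM, Matrix.mul_apply, Fin.sum_univ_four] <;>
      first | ring1 | linear_combination h2
  refine ⟨w⁻¹, ?_⟩
  rw [inv_inv, mul_assoc, hw, inv_mul_cancel_left]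

/-- A matrix moving a vector of `U` to the last coordinate. -/
def moveUM (a b c : ZMod 3) : M4 := if c ≠ 0 then !![1, 0, 0, 0; 0, 1, 0, 0; 0, 0, c, 0; 0, a, b, c]
      else if b ≠ 0 then !![1, 0, 0, 0; 0, 1, 0, 0; 0, 0, 0, -b; 0, a, b, 0]
      else !![1, 0, 0, 0; 0, 0, 1, 0; 0, 0, 0, a; 0, a, 0, 0]

theorem moveU_choice : ∀ a b c : ZMod 3, ¬ (a = 0 ∧ b = 0 ∧ c = 0) →
    (moveUM a b c).det = 1 ∧ (∀ i, moveUM a b c i 0 = if i = 0 then 1 else 0) ∧
      moveUM a b c * upM a b c 0 0 0 = upM 0 0 1 0 0 0 * moveUM a b c := by decide +kernel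

/-- The parabolic is transitive on `U`. -/
theorem exists_moveU {a b c : ZMod 3} (h : ¬ (a = 0 ∧ b = 0 ∧ c = 0)) :
    ∃ g : Pv, g * up a b c 0 0 0 * g⁻¹ = zm := by
  obtain ⟨h1, h2, h3⟩ := moveU_choice a b c h
  refine ⟨⟨⟨_, h1⟩, mem_Pv.2 h2⟩, ?_⟩
  rw [mul_inv_eq_iff_eq_mul, zm_eq]
  exact pv_ext h3

/-- A matrix moving a transvection with the given axis to `zm`. -/
def moveVM (c d e : ZMod 3) : M4 := if c ≠ 0 then !![c, 0, 0, 0; -d, c, 0, 0; -e * c, 0, 1, 0; 0, 0, 0, 1]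
      else if d ≠ 0 then !![0, d, 0, 0; -d, 0, 0, 0; 0, -e * d, 1, 0; 0, 0, 0, 1]
      else !![0, 0, e, 0; e, 0, 0, 0; 0, 1, 0, 0; 0, 0, 0, 1]

theorem moveV_choice : ∀ c d e : ZMod 3, ¬ (c = 0 ∧ d = 0 ∧ e = 0) →
    (moveVM c d e).det = 1 ∧ moveVM c d e * upM 0 0 c 0 d e = upM 0 0 1 0 0 0 * moveVM c d e := by
  decide +kernel

/-- `SL(4,3)` moves the transvections with the given axis to `zm`. -/
theorem exists_moveV {c d e : ZMod 3} (h : ¬ (c = 0 ∧ d = 0 ∧ e = 0)) :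
    ∃ g : SL4, g * (up 0 0 c 0 d e : SL4) * g⁻¹ = (zm : SL4) := by
  obtain ⟨h1, h2⟩ := moveV_choice c d e h
  let g : SL4 := ⟨moveVM c d e, h1⟩
  have hg : g * (up 0 0 c 0 d e : SL4) = (zm : SL4) * g := by
    apply Subtype.ext
    rw [zm_eq, Matrix.SpecialLinearGroup.coe_mul, Matrix.SpecialLinearGroup.coe_mul]
    exact h2
  exact ⟨g, by rw [hg, mul_inv_cancel_right]⟩

theorem orth_choice : ∀ a b : ZMod 3, ∃ d e : ZMod 3, ¬ (d = 0 ∧ e = 0) ∧ a * d + b * e = 0 := by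
  decide +kernel

/-- The centraliser in `C0` has more than `27` elements. -/
def BigCent (x : Pv) : Prop :=
  ∃ S : Finset Pv, 27 < S.card ∧ ∀ p ∈ S, p ∈ C0 ∧ p * x = x * p

theorem bigCent_conj {x g : Pv} (hg : g ∈ C0) (h : BigCent (g * x * g⁻¹)) : BigCent x := by
  classical
  obtain ⟨S, hS, hp⟩ := h
  refine ⟨S.image (fun p => g⁻¹ * p * g), ?_, fun p hp' => ?_⟩
  · rwa [Finset.card_image_of_injective _ fun p q h => mul_left_cancel (mul_right_cancel h)]
  · obtain ⟨q, hq, rfl⟩ := Finset.mem_image.1 hp'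
    refine ⟨mul_mem (mul_mem (inv_mem hg) (hp q hq).1) hg, ?_⟩
    calc g⁻¹ * q * g * x = g⁻¹ * (q * (g * x * g⁻¹)) * g := by group
      _ = g⁻¹ * ((g * x * g⁻¹) * q) * g := by rw [(hp q hq).2]
      _ = x * (g⁻¹ * q * g) := by group

theorem bigCent_J (b c s d : ZMod 3) : BigCent (up 0 b c s d 0) := by
  classical
  refine ⟨(Finset.univ : Finset (ZMod 3 × ZMod 3 × ZMod 3 × ZMod 3)).image
    (fun v => up 0 v.1 v.2.1 v.2.2.1 v.2.2.2 0), ?_, fun p hp => ?_⟩
  · rw [Finset.card_image_of_injective]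
    · simp
    · intro v w h
      obtain ⟨-, h1, h2, h3, h4, -⟩ := up_inj h
      exact Prod.ext h1 (Prod.ext h2 (Prod.ext h3 h4))
  · obtain ⟨v, -, rfl⟩ := Finset.mem_image.1 hp
    refine ⟨up_mem_C0 _ _ _ _ _ _, ?_⟩
    rw [up_mul, up_mul]
    congr 1 <;> ring

theorem bigCent_U (a b c : ZMod 3) : BigCent (up a b c 0 0 0) := by
  classical
  obtain ⟨d, e, hde, h⟩ := orth_choice a b
  refine ⟨insert (up 0 0 0 0 d e) ((Finset.univ : Finset (ZMod 3 × ZMod 3 × ZMod 3)).image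
    (fun v => up v.1 v.2.1 v.2.2 0 0 0)), ?_, fun p hp => ?_⟩
  · rw [Finset.card_insert_of_notMem, Finset.card_image_of_injective]
    · simp
    · intro v w h'
      obtain ⟨h1, h2, h3, -⟩ := up_inj h'
      exact Prod.ext h1 (Prod.ext h2 h3)
    · intro hm
      obtain ⟨v, -, hv⟩ := Finset.mem_image.1 hm
      obtain ⟨-, -, -, -, h5, h6⟩ := up_inj hv
      exact hde ⟨h5.symm, h6.symm⟩
  · rcases Finset.mem_insert.1 hp with rfl | hp
    · refine ⟨up_mem_C0 _ _ _ _ _ _, ?_⟩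
      rw [up_mul, up_mul]
      congr 1 <;> first | ring1 | linear_combination h | linear_combination -h
    · obtain ⟨v, -, rfl⟩ := Finset.mem_image.1 hp
      refine ⟨up_mem_C0 _ _ _ _ _ _, ?_⟩
      rw [up_mul, up_mul]
      congr 1 <;> ring

theorem bigCent_V (c d e : ZMod 3) : BigCent (up 0 0 c 0 d e) := by
  classical
  obtain ⟨a, b, hab, h⟩ := orth_choice d e
  refine ⟨insert (up a b 0 0 0 0) ((Finset.univ : Finset (ZMod 3 × ZMod 3 × ZMod 3)).image
    (fun v => up 0 0 v.1 0 v.2.1 v.2.2)), ?_, fun p hp => ?_⟩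
  · rw [Finset.card_insert_of_notMem, Finset.card_image_of_injective]
    · simp
    · intro v w h'
      obtain ⟨-, -, h1, -, h2, h3⟩ := up_inj h'
      exact Prod.ext h1 (Prod.ext h2 h3)
    · intro hm
      obtain ⟨v, -, hv⟩ := Finset.mem_image.1 hm
      obtain ⟨h1, h2, -⟩ := up_inj hv
      exact hab ⟨h1.symm, h2.symm⟩
  · rcases Finset.mem_insert.1 hp with rfl | hp
    · refine ⟨up_mem_C0 _ _ _ _ _ _, ?_⟩
      rw [up_mul, up_mul]
      congr 1 <;> first | ring1 | linear_combination h | linear_combination -h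
    · obtain ⟨v, -, rfl⟩ := Finset.mem_image.1 hp
      refine ⟨up_mem_C0 _ _ _ _ _ _, ?_⟩
      rw [up_mul, up_mul]
      congr 1 <;> ring

theorem mem_Um_up {a b c s d e : ZMod 3} : up a b c s d e ∈ Um ↔ s = 0 ∧ d = 0 ∧ e = 0 := by
  show InU (upM a b c s d e) ↔ _
  simp [InU, InQ, upM]

theorem mem_Vm_up {a b c s d e : ZMod 3} : up a b c s d e ∈ Vm ↔ s = 0 ∧ a = 0 ∧ b = 0 := by
  show InV (upM a b c s d e) ↔ _
  simp [InV, InQ, upM]

theorem Um_le_Sm : Um ≤ Sm := fun _ hg => InQ.inS hg.1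

theorem Vm_le_Sm : Vm ≤ Sm := fun _ hg => InQ.inS hg.1

theorem eq_up_U {g : Pv} (hg : g ∈ Um) : ∃ a b c, g = up a b c 0 0 0 := by
  have h := eq_up (Um_le_Sm hg)
  rw [h, mem_Um_up] at hg
  exact ⟨_, _, _, by rw [h, hg.1, hg.2.1, hg.2.2]⟩

theorem eq_up_V {g : Pv} (hg : g ∈ Vm) : ∃ c d e, g = up 0 0 c 0 d e := by
  have h := eq_up (Vm_le_Sm hg)
  rw [h, mem_Vm_up] at hg
  exact ⟨_, _, _, by rw [h, hg.1, hg.2.1, hg.2.2]⟩

theorem conj_val (g x : Pv) :
    ((g * x * g⁻¹ : Pv) : SL4).1 =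
      1 + (g : SL4).1 * ((x : SL4).1 - 1) * ((g⁻¹ : Pv) : SL4).1 := by
  have h : (g : SL4).1 * ((g⁻¹ : Pv) : SL4).1 = 1 := by
    rw [← Matrix.SpecialLinearGroup.coe_mul, ← Subgroup.coe_mul, mul_inv_cancel, Subgroup.coe_one,
      Matrix.SpecialLinearGroup.coe_one]
  rw [mul_sub, sub_mul, mul_one, h, add_sub_cancel, Subgroup.coe_mul,
    Matrix.SpecialLinearGroup.coe_mul, Subgroup.coe_mul, Matrix.SpecialLinearGroup.coe_mul]

theorem Um_normal : Um.Normal := by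
  refine ⟨fun x hx g => ?_⟩
  obtain ⟨a, b, c, rfl⟩ := eq_up_U hx
  show InU _
  have h := conj_val g (up a b c 0 0 0)
  have hi : ∀ r, ((g⁻¹ : Pv) : SL4).1 r 0 = if r = 0 then 1 else 0 := col0 g⁻¹
  rw [h]
  generalize ((g⁻¹ : Pv) : SL4).1 = B at hi
  simp [InU, InQ, upM, Matrix.mul_apply, Fin.sum_univ_four, col0 g, hi, Matrix.one_apply]

theorem Vm_conj {g : Pv} (h31 : (g : SL4).1 3 1 = 0) (h32 : (g : SL4).1 3 2 = 0)
    (hi1 : ((g⁻¹ : Pv) : SL4).1 3 1 = 0) (hi2 : ((g⁻¹ : Pv) : SL4).1 3 2 = 0)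
    {x : Pv} (hx : x ∈ Vm) : g * x * g⁻¹ ∈ Vm := by
  obtain ⟨c, d, e, rfl⟩ := eq_up_V hx
  show InV _
  rw [conj_val g (up 0 0 c 0 d e)]
  have hi := col0 g⁻¹
  generalize ((g⁻¹ : Pv) : SL4).1 = B at hi hi1 hi2
  simp [InV, InQ, upM, Matrix.mul_apply, Fin.sum_univ_four, col0 g, hi, h31, h32, hi1, hi2,
    Matrix.one_apply]

theorem Vm_normalized : C0 ⊔ zpowers dl ≤ normalizer (Vm : Set Pv) := by
  have key : ∀ g : Pv, ((g : SL4).1 3 1 = 0 ∧ (g : SL4).1 3 2 = 0) →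
      (((g⁻¹ : Pv) : SL4).1 3 1 = 0 ∧ ((g⁻¹ : Pv) : SL4).1 3 2 = 0) →
      g ∈ normalizer (Vm : Set Pv) := by
    intro g hg hgi
    rw [mem_normalizer_iff]
    refine fun x => ⟨fun hx => Vm_conj hg.1 hg.2 hgi.1 hgi.2 hx, fun hx => ?_⟩
    have := Vm_conj (g := g⁻¹) hgi.1 hgi.2 (by rw [inv_inv]; exact hg.1) (by rw [inv_inv]; exact hg.2) hx
    simpa [mul_assoc] using this
  refine sup_le (fun g hg => key g ⟨(mem_C0.1 hg).1, (mem_C0.1 hg).2.1⟩
    ⟨(mem_C0.1 (inv_mem hg)).1, (mem_C0.1 (inv_mem hg)).2.1⟩) (zpowers_le.2 (key dl ?_ ?_))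
  · decide +kernel
  · rw [inv_eq_of_mul_eq_one_right dl_sq]
    decide +kernel

theorem card_Um : Nat.card Um = 27 := by
  let f : ZMod 3 × ZMod 3 × ZMod 3 → Um := fun v => ⟨up v.1 v.2.1 v.2.2 0 0 0,
    mem_Um_up.2 ⟨rfl, rfl, rfl⟩⟩
  have hf : Function.Bijective f := by
    refine ⟨fun v w h => ?_, fun g => ?_⟩
    · obtain ⟨h1, h2, h3, -⟩ := up_inj (congrArg Subtype.val h)
      exact Prod.ext h1 (Prod.ext h2 h3)
    · obtain ⟨a, b, c, h⟩ := eq_up_U g.2
      exact ⟨(a, b, c), Subtype.ext h.symm⟩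
  rw [← Nat.card_congr (Equiv.ofBijective f hf)]
  simp [Nat.card_prod, Nat.card_zmod]

theorem card_Vm : Nat.card Vm = 27 := by
  let f : ZMod 3 × ZMod 3 × ZMod 3 → Vm := fun v => ⟨up 0 0 v.1 0 v.2.1 v.2.2,
    mem_Vm_up.2 ⟨rfl, rfl, rfl⟩⟩
  have hf : Function.Bijective f := by
    refine ⟨fun v w h => ?_, fun g => ?_⟩
    · obtain ⟨-, -, h1, -, h2, h3⟩ := up_inj (congrArg Subtype.val h)
      exact Prod.ext h1 (Prod.ext h2 h3)
    · obtain ⟨c, d, e, h⟩ := eq_up_V g.2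
      exact ⟨(c, d, e), Subtype.ext h.symm⟩
  rw [← Nat.card_congr (Equiv.ofBijective f hf)]
  simp [Nat.card_prod, Nat.card_zmod]

end CfsgLib.L43.FM
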