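import Cfsg.Agent.LFourThree.Coords
import Cfsg.Agent.LFourThree.PointStab
import Cfsg.Agent.Solvable.Gaschutz
import Mathlib.GroupTheory.PGroup

/-!
# A complement to `U` in its normalizer
-/

set_option autoImplicit false
set_option maxRecDepth 100000
set_option linter.style.haveILetI false
set_option linter.unusedSectionVars false
set_option maxHeartbeats 1600000

namespace CfsgLib.L43

open Subgroup CfsgLib.G23Amalgam Matrix

universe u

/-- The image of the involution. -/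
def d3 : SL3' := ⟨!![-1, 0, 0; 0, -1, 0; 0, 0, 1], by decide +kernel⟩

/-- A translation. -/
def trm (f : V2) : SL3' := ⟨!![1, 0, f 0; 0, 1, f 1; 0, 0, 1], by revert f; decide +kernel⟩

theorem trm_add : ∀ f f' : V2, trm (f + f') = trm f * trm f' := by decide +kernel

/-- A monomial matrix. -/
def perM : SL3' := ⟨!![0, 0, -1; 1, 0, 0; 0, -1, 0], by decide +kernel⟩

/-- The action of a lift of `su`. -/
def suA : SL3' := ⟨!![1, 0, 0; -1, 1, 0; 0, 0, 1], by decide +kernel⟩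

theorem su_conj_table : perM * trm ![1, 0] = suA * perM := by decide +kernel

theorem su_inv : (su⁻¹ : SS).1 = !![1, -1; 0, 1] := by decide +kernel

namespace Stg

variable {G : Type u} [Group G] (D : Stg G)

theorem A_t : D.A ⟨D.t, D.C_le D.t_mem⟩ = d3.1 := D.A_ext fun r => by
  show _ = D.t⁻¹ * D.cU r * D.t
  have hneg : ∀ {x : G}, x ^ 3 = 1 → ∀ a : ZMod 3, x ^ (-a).val = (x ^ a.val)⁻¹ := fun {x} hx a => by
    refine eq_inv_of_mul_eq_one_left ?_
    rw [← pow_val_add hx, neg_add_cancel, ZMod.val_zero, pow_zero]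
  have h3 : ∀ a, D.tl (a, 0) ^ 3 = 1 := fun a => by
    rw [pow_succ, pow_two]; exact D.L.exp _ (D.tl_spec _).1
  have hc : ∀ v (k : ℕ), D.t * D.tl v ^ k * D.t⁻¹ = (D.tl v ^ k)⁻¹ := fun v k => by
    rw [← conj_pow, (D.tl_spec v).2.2, inv_pow]
  have e : r ᵥ* d3.1 = ![-r 0, -r 1, r 2] := by
    ext j; fin_cases j <;> simp [d3, Matrix.vecMul, dotProduct, Fin.sum_univ_three]
  rw [e, D.t_inv]
  simp only [cU, Matrix.cons_val_zero, Matrix.cons_val_one, Matrix.cons_val, hneg (h3 _)]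
  rw [← hc, ← hc]
  set a := D.tl (![1, 0], 0) ^ (r 0).val
  set b := D.tl (![0, 1], 0) ^ (r 1).val
  set c := D.L.z ^ (r 2).val
  have hcz : D.t * c = c * D.t := D.zk_comm D.t_mem _
  rw [D.t_inv]
  calc D.t * a * D.t * (D.t * b * D.t) * c = D.t * a * (D.t * D.t) * b * (D.t * c) := by group
    _ = D.t * a * b * (c * D.t) := by rw [D.t_sq, hcz, mul_one]
    _ = D.t * (a * b * c) * D.t := by group

theorem cent_cover (h : SS) : ∃ c ∈ D.L.C, D.t * c = c * D.t ∧ D.L.ρ c = h := by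
  obtain ⟨c, hc, hρ⟩ := D.L.ρ_surj h
  have hC1 : c * D.t * c⁻¹ ∈ D.L.C := mul_mem (mul_mem hc D.t_mem) (inv_mem hc)
  obtain ⟨q, hqQ, e⟩ : ∃ q ∈ D.L.Q, c * D.t * c⁻¹ = D.t * q := by
    refine ⟨D.t⁻¹ * (c * D.t * c⁻¹), (D.L.ρ_ker _ (mul_mem (inv_mem D.t_mem) hC1)).1 ?_, by group⟩
    rw [D.L.ρ_mul _ (inv_mem D.t_mem) _ hC1, D.L.ρ_mul _ (mul_mem hc D.t_mem) _ (inv_mem hc),
      D.L.ρ_mul _ hc _ D.t_mem, D.L.ρ_inv D.t_mem, D.L.ρ_inv hc, D.t_ρ, hρ]
    have : ∀ h : SS, sz⁻¹ * (h * sz * h⁻¹) = 1 := by decide +kernel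
    exact this h
  refine ⟨q⁻¹ * c, mul_mem (inv_mem (D.L.Q_le hqQ)) hc, ?_, ?_⟩
  · have hsq : D.t * q * (D.t * q) = 1 := by
      rw [← e]
      calc c * D.t * c⁻¹ * (c * D.t * c⁻¹) = c * (D.t * D.t) * c⁻¹ := by group
        _ = 1 := by rw [D.t_sq]; group
    have hq2 : q * q = q⁻¹ := eq_inv_of_mul_eq_one_left (D.L.exp q hqQ)
    have hinv : D.t * q * D.t = q⁻¹ := eq_inv_of_mul_eq_one_left (by rw [mul_assoc]; exact hsq)
    have hinv' : D.t * q⁻¹ * D.t = q := by rw [← hinv]; exact D.t_conj q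
    have h1 : D.t * (q⁻¹ * c) = q * D.t * c := by
      conv_rhs => rw [← hinv']
      rw [mul_assoc (D.t * q⁻¹), D.t_sq, mul_one]; group
    have h2 : q⁻¹ * c * D.t = q * D.t * c := by
      calc q⁻¹ * c * D.t = q⁻¹ * (c * D.t * c⁻¹) * c := by group
        _ = q⁻¹ * (D.t * q) * c := by rw [e]
        _ = q⁻¹ * (D.t * q * D.t) * D.t * c := by
          rw [show q⁻¹ * (D.t * q * D.t) * D.t = q⁻¹ * (D.t * q) * (D.t * D.t) by group, D.t_sq, mul_one]
        _ = q⁻¹ * q⁻¹ * D.t * c := by rw [hinv]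
        _ = q * D.t * c := by rw [← mul_inv_rev q q, hq2, inv_inv]
    rw [h1, h2]
  · rw [D.L.ρ_mul _ (inv_mem (D.L.Q_le hqQ)) _ hc, D.L.ρ_inv (D.L.Q_le hqQ),
      (D.L.ρ_ker q (D.L.Q_le hqQ)).2 hqQ, inv_one, one_mul, hρ]

theorem exists_order_three [Finite G] :
    ∃ c ∈ D.L.C, D.t * c = c * D.t ∧ D.L.ρ c = su ∧ c * c * c = 1 := by
  obtain ⟨c, hc, hct, hρ⟩ := D.cent_cover su
  refine ⟨c, hc, hct, hρ, ?_⟩
  have hA : D.A ⟨c, D.C_le hc⟩ = !![1, 0, 0; -1, 1, 0; 0, 0, 1] := by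
    set n : D.N := ⟨c, D.C_le hc⟩
    have he := D.A_e2 (n := n) hc
    have b0 := D.A_block (n := n) hc ![1, 0, 0]
    have b1 := D.A_block (n := n) hc ![0, 1, 0]
    rw [show D.L.ρ (n : G) = su from hρ, su_inv] at b0 b1
    have hcm : D.A n * d3.1 = d3.1 * D.A n := by
      rw [← D.A_t, ← D.A_mul, ← D.A_mul]; exact congrArg D.A (Subtype.ext hct.symm)
    have a00 := congrFun b0 0
    have a01 := congrFun b0 1
    have a10 := congrFun b1 0
    have a11 := congrFun b1 1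
    have a02 := congrFun (congrFun hcm 0) 2
    have a12 := congrFun (congrFun hcm 1) 2
    have a20 := congrFun he 0
    have a21 := congrFun he 1
    have a22 := congrFun he 2
    simp [e2, d3, Matrix.vecMul, Matrix.mulVec, Matrix.mul_apply, dotProduct, Fin.sum_univ_three,
      Fin.sum_univ_two, Matrix.SpecialLinearGroup.coe_inv] at a00 a01 a10 a11 a02 a12 a20 a21 a22
    have hz : ∀ x : ZMod 3, x = -x → x = 0 := by decide
    ext i j; fin_cases i <;> fin_cases j <;> simp [a00, a01, a10, a11, a20, a21, a22]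
    · exact hz _ a02
    · exact hz _ a12
  obtain ⟨q, hq, hqA⟩ := D.exists_translation ![1, 0]
  obtain ⟨n, hn⟩ := D.α_surj perM
  have hk : D.α (q⁻¹ * (n⁻¹ * ⟨c, D.C_le hc⟩ * n)) = 1 := by
    have e : D.α q = trm ![1, 0] := Subtype.ext hqA
    have e' : D.α ⟨c, D.C_le hc⟩ = suA :=
      Subtype.ext hA
    rw [map_mul, map_mul, map_mul, map_inv, map_inv, hn, e, e', inv_mul_eq_one, mul_assoc,
      eq_inv_mul_iff_mul_eq]
    exact su_conj_table
  have hQ : (n : G)⁻¹ * c * n ∈ D.L.Q := by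
    have hu := (D.α_ker.1 hk).1
    have := mul_mem hq hu
    simpa using this
  have h3 := D.L.exp _ hQ
  calc c * c * c = n * ((n : G)⁻¹ * c * n * ((n : G)⁻¹ * c * n) * ((n : G)⁻¹ * c * n)) * (n : G)⁻¹ := by
        group
    _ = 1 := by rw [h3]; group

theorem card_U : Nat.card D.U = 27 := by
  rw [← Nat.card_eq_of_bijective (fun r : V3 => (⟨D.cU r, D.cU_mem r⟩ : D.U))
    ⟨fun a b h => D.cU_inj (congrArg Subtype.val h),
      fun x => (D.cU_surj x.2).imp fun r h => Subtype.ext h⟩]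
  simp

/-- The part of the second component inverted by `t`. -/
def R0 : Subgroup G where
  carrier := {x | x ∈ D.L.Q ∧ (D.L.π x).1 = 0 ∧ D.t * x * D.t⁻¹ = x⁻¹}
  one_mem' := ⟨one_mem _, by rw [D.L.π_one]; rfl, by group⟩
  mul_mem' := by
    rintro a b ⟨ha, ha', hat⟩ ⟨hb, hb', hbt⟩
    have hab : b * a = a * b := (D.L.comm_iff hb ha).2 (by rw [D.form_eq, hb', ha']; simp [det2])
    refine ⟨mul_mem ha hb, by rw [D.L.π_mul a ha b hb, Prod.fst_add, ha', hb', add_zero], ?_⟩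
    rw [← hab, show D.t * (b * a) * D.t⁻¹ = D.t * b * D.t⁻¹ * (D.t * a * D.t⁻¹) by group, hat, hbt,
      ← _root_.mul_inv_rev, hab]
  inv_mem' := by
    rintro a ⟨ha, ha', hat⟩
    refine ⟨inv_mem ha, by rw [D.L.π_inv ha, Prod.fst_neg, ha', neg_zero], ?_⟩
    rw [← conj_inv, hat]

theorem exists_complement_N [Finite G] :
    ∃ H : Subgroup D.N, IsComplement' (D.U.subgroupOf D.N) H := by
  haveI : Fact (Nat.Prime 3) := ⟨Nat.prime_three⟩
  obtain ⟨c, hc, hct, hρ, hc3⟩ := D.exists_order_three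
  have hco : orderOf c = 3 := orderOf_eq_prime (by rw [pow_succ, pow_two]; exact hc3)
    (fun h => by rw [h, D.L.ρ_one] at hρ; exact absurd hρ (by decide +kernel))
  let R : Subgroup G := zpowers c ⊔ D.R0
  have hnorm : zpowers c ≤ normalizer (D.R0 : Set G) := zpowers_le.2 (by
    have key : ∀ a ∈ D.L.C, D.t * a = a * D.t → ∀ x ∈ D.R0, a * x * a⁻¹ ∈ D.R0 := by
      rintro a ha hat x ⟨hx, hx1, hxt⟩
      refine ⟨D.L.conjQ ha hx, by
        rw [D.L.conj a ha x hx]; show _ *ᵥ (D.L.π x).1 = 0; rw [hx1, Matrix.mulVec_zero], ?_⟩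
      calc D.t * (a * x * a⁻¹) * D.t⁻¹ = (D.t * a) * x * (D.t * a)⁻¹ := by group
        _ = a * (D.t * x * D.t⁻¹) * a⁻¹ := by rw [hat]; group
        _ = (a * x * a⁻¹)⁻¹ := by rw [hxt]; group
    refine mem_normalizer_iff.2 fun x => ⟨key c hc hct x, fun h => ?_⟩
    have hi : D.t * c⁻¹ = c⁻¹ * D.t := (Commute.inv_right hct).eq
    simpa [mul_assoc] using key c⁻¹ (inv_mem hc) hi _ h)
  have hR0C : D.R0 ≤ D.N := fun x hx => D.C_le (D.L.Q_le hx.1)
  have hRN : R ≤ D.N := sup_le (zpowers_le.2 (D.C_le hc)) hR0C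
  have hR3 : IsPGroup 3 R := by
    refine IsPGroup.to_sup_of_normal_right' (IsPGroup.of_card (n := 1) (by rw [Nat.card_zpowers, hco, pow_one]))
      (fun x => ⟨1, Subtype.ext ?_⟩) hnorm
    show (x : G) ^ (3 ^ 1) = 1
    rw [pow_one, pow_succ, pow_two]; exact D.L.exp x x.2.1
  have hdis : R ⊓ D.U = ⊥ := by
    refine eq_bot_iff.2 fun x hx => ?_
    obtain ⟨hxR, hxU⟩ := hx
    have hset : x ∈ ((zpowers c ⊔ D.R0 : Subgroup G) : Set G) := hxR
    rw [coe_mul_of_left_le_normalizer_right _ _ hnorm] at hset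
    obtain ⟨a, ha, b, hb, rfl⟩ := hset
    have haQ : a ∈ D.L.Q := (mul_mem_cancel_right hb.1).1 hxU.1
    have ha1 : a = 1 := by
      by_contra h
      have : zpowers a = zpowers c := eq_of_le_of_card_ge (zpowers_le.2 ha) (by
        rw [Nat.card_zpowers, Nat.card_zpowers, hco]
        exact (orderOf_eq_prime (by rw [pow_succ, pow_two]; exact D.L.exp a haQ) h).ge)
      have hcQ : c ∈ D.L.Q := zpowers_le.2 haQ (this ▸ mem_zpowers c)
      rw [(D.L.ρ_ker c hc).2 hcQ] at hρ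
      exact absurd hρ (by decide +kernel)
    subst ha1
    have hb2 : (D.L.π b).2 = 0 := by simpa using hxU.2
    exact mem_bot.2 (by
      show (1 : G) * b = 1
      rw [one_mul]
      exact D.tinv_unique hb.1 (one_mem _) (by rw [D.L.π_one]; exact Prod.ext hb.2.1 hb2) hb.2.2 (by group))
  let K : Subgroup D.N := D.U.subgroupOf D.N
  let R' : Subgroup D.N := R.subgroupOf D.N
  haveI : IsMulCommutative K := ⟨⟨fun a b => Subtype.ext (Subtype.ext (D.U_comm a.2 b.2))⟩⟩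
  have hK3 : IsPGroup 3 K := fun x => ⟨1, Subtype.ext (Subtype.ext (by
    show ((x : D.N) : G) ^ (3 ^ 1) = 1
    rw [pow_one, pow_succ, pow_two]; exact D.L.exp _ x.2.1))⟩
  have hP3 : IsPGroup 3 (K ⊔ R' : Subgroup D.N) :=
    hK3.to_sup_of_normal_left (hR3.comap_subtype)
  obtain ⟨k, hk⟩ := IsPGroup.iff_card.1 hP3
  have hQP : ∀ q (hq : q ∈ D.L.Q), (⟨q, D.C_le (D.L.Q_le hq)⟩ : D.N) ∈ K ⊔ R' := by
    intro q hq
    have hr : D.tl (0, (D.L.π q).2) ∈ D.R0 :=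
      ⟨(D.tl_spec _).1, by rw [(D.tl_spec _).2.1], (D.tl_spec _).2.2⟩
    have hu : q * (D.tl (0, (D.L.π q).2))⁻¹ ∈ D.U := ⟨mul_mem hq (inv_mem hr.1), by
      rw [D.L.π_mul _ hq _ (inv_mem hr.1), D.L.π_inv hr.1, (D.tl_spec _).2.1]; simp⟩
    rw [show (⟨q, D.C_le (D.L.Q_le hq)⟩ : D.N) =
        ⟨q * (D.tl (0, (D.L.π q).2))⁻¹, D.C_le (D.L.Q_le hu.1)⟩ * ⟨D.tl (0, (D.L.π q).2), hR0C hr⟩ from
      Subtype.ext (show q = q * (D.tl (0, (D.L.π q).2))⁻¹ * D.tl (0, (D.L.π q).2) by group)]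
    exact mul_mem (mem_sup_left hu) (mem_sup_right (show D.tl (0, (D.L.π q).2) ∈ R from
      le_sup_right (a := zpowers c) hr))
  let Pm : Subgroup G := (K ⊔ R').map D.N.subtype
  have hPm : Nat.card Pm = 3 ^ k := by
    rw [← Nat.card_congr ((K ⊔ R').equivMapOfInjective _ D.N.subtype_injective).toEquiv, hk]
  have hlt : Nat.card D.L.Q < Nat.card Pm := by
    have hle : D.L.Q ≤ Pm := fun q hq => ⟨_, hQP q hq, rfl⟩
    rcases (card_le_of_le hle).lt_or_eq with h | h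
    · exact h
    have hcP : c ∈ Pm := ⟨⟨c, D.C_le hc⟩, mem_sup_right (show c ∈ R from
      le_sup_left (b := D.R0) (mem_zpowers c)), rfl⟩
    rw [← eq_of_le_of_card_ge hle h.ge] at hcP
    rw [(D.L.ρ_ker c hc).2 hcP] at hρ
    exact absurd hρ (by decide +kernel)
  have hle729 := D.L.sylow Pm (hP3.map D.N.subtype)
  have hk6 : 3 ^ k = 729 := by
    have := D.L.card_Q
    rw [hPm] at hlt hle729
    have h1 : 5 < k := (Nat.pow_lt_pow_iff_right (by norm_num : 1 < 3)).1 (by omega)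
    have h2 : k ≤ 6 := (Nat.pow_le_pow_iff_right (by norm_num : 1 < 3)).1 (by simpa using hle729)
    rw [show k = 6 by omega]; norm_num
  have hNcard : Nat.card D.N = 27 * 5616 := by
    have hker : D.α.ker = K := by
      ext x; exact D.α_ker
    rw [← D.α.ker.index_mul_card, Subgroup.index_ker, D.α.range_eq_top_of_surjective D.α_surj,
      card_top, hker, Nat.card_congr (subgroupOfEquivOfLe (H := D.U) (K := D.N) le_normalizer).toEquiv,
      D.card_U, show Nat.card SL3' = 5616 from PointStab.card_S3]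
  have hidx : (K ⊔ R').index = 208 := by
    have := (K ⊔ R').index_mul_card
    rw [hk, hk6, hNcard] at this
    omega
  refine CfsgLib.Gaschutz.exists_complement (le_sup_left : K ≤ K ⊔ R') ?_ R' le_sup_right ?_ rfl
  · rw [hidx, Nat.card_congr (subgroupOfEquivOfLe (H := D.U) (K := D.N) le_normalizer).toEquiv, D.card_U]
    decide
  · refine eq_bot_iff.2 fun x hx => mem_bot.2 (Subtype.ext ?_)
    exact mem_bot.1 (hdis ▸ (⟨hx.1, hx.2⟩ : (x : G) ∈ R ⊓ D.U))

theorem exists_levi [Finite G] : ∃ κ : SL3' →* G, κ d3 = D.t ∧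
    ∀ M, ∃ h : κ M ∈ D.N, D.A ⟨κ M, h⟩ = M.1 := by
  obtain ⟨H, hH⟩ := D.exists_complement_N
  have hinj : Function.Injective (D.α.comp H.subtype) := by
    refine (injective_iff_map_eq_one _).2 fun x hx => ?_
    have : (x : D.N) ∈ D.U.subgroupOf D.N := D.α_ker.1 hx
    exact Subtype.ext (mem_bot.1 (hH.disjoint.le_bot ⟨this, x.2⟩))
  have hsurj : Function.Surjective (D.α.comp H.subtype) := by
    intro M
    obtain ⟨n, hn⟩ := D.α_surj M
    obtain ⟨⟨⟨a, ha⟩, ⟨b, hb⟩⟩, hab⟩ := hH.2 n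
    refine ⟨⟨b, hb⟩, ?_⟩
    show D.α b = M
    rw [← hn, ← hab]
    show D.α b = D.α (a * b)
    rw [map_mul, D.α_ker.2 ha, one_mul]
  let e := MulEquiv.ofBijective _ ⟨hinj, hsurj⟩
  let κ0 : SL3' →* D.N := H.subtype.comp e.symm.toMonoidHom
  have hκ0 : ∀ M, D.α (κ0 M) = M := e.apply_symm_apply
  set t' : D.N := κ0 d3
  let tN : D.N := ⟨D.t, D.C_le D.t_mem⟩
  have ha : ((tN⁻¹ * t' : D.N) : G) ∈ D.U := D.α_ker.1 (by
    rw [map_mul, map_inv, hκ0, show D.α tN = d3 from Subtype.ext D.A_t, inv_mul_cancel])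
  set a : G := ((tN⁻¹ * t' : D.N) : G) with hadef
  have ht' : (t' : G) = D.t * a := by simp [hadef, tN]
  have ht2 : (t' : G) * t' = 1 := by
    rw [← Subgroup.coe_mul, ← map_mul, show d3 * d3 = 1 by decide +kernel, map_one]; rfl
  have htat : D.t * a * D.t = a⁻¹ := eq_inv_of_mul_eq_one_left (by
    rw [mul_assoc]; rw [ht'] at ht2; exact ht2)
  have haN : a⁻¹ ∈ D.N := inv_mem (le_normalizer ha)
  let κ : SL3' →* G := (MulAut.conj a⁻¹).toMonoidHom.comp (D.N.subtype.comp κ0)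
  have hκ : ∀ M, κ M = a⁻¹ * (κ0 M : G) * a := fun M => by
    show a⁻¹ * (κ0 M : G) * a⁻¹⁻¹ = _
    rw [inv_inv]
  refine ⟨κ, ?_, fun M => ⟨?_, ?_⟩⟩
  · have h3 : a * a = a⁻¹ := eq_inv_of_mul_eq_one_left (D.L.exp a ha.1)
    rw [hκ, show (κ0 d3 : G) = D.t * a from ht', mul_assoc, mul_assoc, h3, ← htat]
    calc D.t * a * D.t * (D.t * (D.t * a * D.t)) = D.t * a * (D.t * D.t) * (D.t * a * D.t) := by group
      _ = D.t * a * (D.t * a * D.t) := by rw [D.t_sq, mul_one]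
      _ = D.t * a * a⁻¹ := by rw [htat]
      _ = D.t := by group
  · rw [hκ]; exact mul_mem (mul_mem haN (κ0 M).2) (le_normalizer ha)
  · have hu : D.α ⟨a, le_normalizer ha⟩ = 1 := D.α_ker.2 ha
    have e : (⟨κ M, by rw [hκ]; exact mul_mem (mul_mem haN (κ0 M).2) (le_normalizer ha)⟩ : D.N) =
        ⟨a, le_normalizer ha⟩⁻¹ * κ0 M * ⟨a, le_normalizer ha⟩ := Subtype.ext (show κ M = a⁻¹ * (κ0 M : G) * a from hκ M)
    refine congrArg Subtype.val (show D.α _ = M from ?_)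
    rw [e, map_mul, map_mul, map_inv, hu, inv_one, one_mul, mul_one, hκ0]

end Stg

end CfsgLib.L43
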