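import Cfsg.Agent.LFourThree.Tensor

/-!
# Coordinates on the centralizer of the central element of order three
-/

set_option autoImplicit false
set_option linter.style.haveILetI false

namespace CfsgLib.L43

open Subgroup CfsgLib.G23Amalgam

universe u

/-- Coordinates on `C(z)`: the quotient `SL(2,3)` and the two natural sections. -/
structure Loc (G : Type u) [Group G] where
  z : G
  Q : Subgroup G
  π : G → W4
  ρ : G → SS
  B : M2
  z_ne : z ≠ 1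
  z_cube : z * z * z = 1
  z_mem : z ∈ Q
  Q_le : Q ≤ centralizer ({z} : Set G)
  Q_normal : centralizer ({z} : Set G) ≤ normalizer (Q : Set G)
  exp : ∀ x ∈ Q, x * x * x = 1
  π_mul : ∀ x ∈ Q, ∀ y ∈ Q, π (x * y) = π x + π y
  π_ker : ∀ x ∈ Q, π x = 0 ↔ x ∈ zpowers z
  π_surj : ∀ v, ∃ x ∈ Q, π x = v
  ρ_mul : ∀ a ∈ centralizer ({z} : Set G), ∀ b ∈ centralizer ({z} : Set G), ρ (a * b) = ρ a * ρ b
  ρ_ker : ∀ a ∈ centralizer ({z} : Set G), ρ a = 1 ↔ a ∈ Q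
  ρ_surj : ∀ g, ∃ a ∈ centralizer ({z} : Set G), ρ a = g
  conj : ∀ a ∈ centralizer ({z} : Set G), ∀ x ∈ Q, π (a * x * a⁻¹) = act (ρ a) (π x)
  B_sym : B.transpose = B
  B_det : B.det ≠ 0
  comm : ∀ x ∈ Q, ∀ y ∈ Q, x * y * x⁻¹ * y⁻¹ = z ^ (form B (π x) (π y)).val
  fused : ∃ g : G, g * z * g⁻¹ ∈ Q ∧ g * z * g⁻¹ ∉ zpowers z
  sylow : ∀ P : Subgroup G, IsPGroup 3 P → Nat.card P ≤ 729

end CfsgLib.L43
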