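import Cfsg.Agent.LFourThree.Setup
import Cfsg.Agent.LFourThree.Dual
import Cfsg.Agent.LFourThree.Finish
import Cfsg.Agent.LFourThree.Fusion
import Cfsg.Agent.LFourThree.CentFm
import Cfsg.Agent.LFourThree.Aniso
import Cfsg.Agent.LFourThree.CentT
import Cfsg.Agent.LFourThree.CentTFull

/-!
# Assembling the recognition of `PSL(4,3)`
-/

set_option autoImplicit false
set_option maxRecDepth 100000
set_option linter.style.haveILetI false
set_option linter.unusedSectionVars false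

namespace CfsgLib.L43

open Subgroup CfsgLib.G23Amalgam Matrix

universe u

theorem Loc.exists_stg {G : Type u} [Group G] [Finite G] (L : Loc G) : Nonempty (Stg G) := by
  obtain ⟨g, hy, hyz⟩ := L.fused
  obtain ⟨n, b, hn0, hπ, hb0, hiso⟩ := L.pure_iso hy hyz
  obtain ⟨P, hP, hPb, hcase⟩ := basis_table L.B L.B_sym L.B_det b hb0
  have e00 : (P.transpose * L.B * P) 0 0 =
      L.B 0 0 * b 0 * b 0 + (L.B 0 1 + L.B 1 0) * b 0 * b 1 + L.B 1 1 * b 1 * b 1 := by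
    rw [← hPb]; simp [Matrix.mul_apply, Fin.sum_univ_two]; ring
  obtain h | ⟨h00, -⟩ := hcase
  swap
  · exact absurd (e00.trans hiso) h00
  obtain ⟨t, ht, ht2, htρ⟩ := (L.rebase P hP).exists_t
  refine ⟨⟨L.rebase P hP, h, g, hy, hyz, ?_, t, ht, ht2, htρ⟩⟩
  show P⁻¹ 1 0 • (L.π (g * L.z * g⁻¹)).1 + P⁻¹ 1 1 • (L.π (g * L.z * g⁻¹)).2 = 0
  have hi : P⁻¹ * P = 1 := Matrix.nonsing_inv_mul _ (isUnit_iff_ne_zero.2 hP)
  have eb : (P⁻¹ * P) 1 0 = 0 := by rw [hi]; rfl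
  simp only [Matrix.mul_apply, Fin.sum_univ_two] at eb
  rw [show P 0 0 = b 0 from congrFun hPb 0, show P 1 0 = b 1 from congrFun hPb 1] at eb
  rw [hπ, smul_smul, smul_smul, ← add_smul, eb, zero_smul]

namespace Emb

variable {G : Type u} [Group G] (E : Emb G)

theorem zm_mem_Jm : zm ∈ Jm := show InJ (zm : SL4).1 from by decide +kernel

theorem norm_J_le {H : Subgroup G} (hH : E.ψ.range ≤ H) (hz : ∀ g, g * E.z * g⁻¹ ∈ H → g ∈ H) :
    normalizer (E.J : Set G) ≤ H := fun g hg => hz g (by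
  obtain ⟨x, -, hx⟩ := (mem_normalizer_iff.1 hg E.z).1 ⟨zm, zm_mem_Jm, rfl⟩
  exact hH ⟨x, hx⟩)

theorem cent_wm_le {H : Subgroup G} (hH : E.ψ.range ≤ H) (hz : ∀ g, g * E.z * g⁻¹ ∈ H → g ∈ H)
    {c : ZMod 3} (hn : normalizer ((zpowers (E.ψ (wm c)) : Subgroup G) : Set G) ≤ normalizer (E.J : Set G)) :
    centralizer ({E.ψ (wm c)} : Set G) ≤ H := fun g hg => by
  refine E.norm_J_le hH hz (hn (centralizer_le_normalizer _ ?_))
  rw [← centralizer_closure ({E.ψ (wm c)} : Set G)] at hg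
  rw [zpowers_eq_closure]; exact hg

end Emb

/-- The two conclusions, from the coordinates. -/
theorem conclusion_of_loc {G : Type u} [Group G] [Finite G] (L : Loc G) :
    Nonempty (G ≃* Matrix.ProjectiveSpecialLinearGroup (Fin 4) (ZMod 3)) ∨
    ∃ (P : Subgroup (Matrix.ProjectiveSpecialLinearGroup (Fin 4) (ZMod 3))),
      IsCoatom P ∧ Nat.card (Cfsg.pCore 3 P) = 27 ∧
      Nonempty (P ⧸ Cfsg.pCore 3 P ≃* Matrix.SpecialLinearGroup (Fin 3) (ZMod 3)) ∧
      Nonempty (G ≃* P) := by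
  obtain ⟨D⟩ := L.exists_stg
  obtain ⟨E, cE⟩ := D.exists_emb
  by_cases h : E.OnlyU
  · right
    have hz : ∀ g, g * E.z * g⁻¹ ∈ E.ψ.range → g ∈ E.ψ.range := fun g hg => E.conj_range h hg
    have hw : ∀ c : ZMod 3, c ≠ 0 → centralizer ({E.ψ (wm c)} : Set G) ≤ E.ψ.range :=
      fun c hc => E.cent_wm_le le_rfl hz (E.norm_wm c hc)
    have hf : centralizer ({E.ψ fm} : Set G) ≤ E.ψ.range := E.cent_fm h (fun _ => E.J_free)
    exact Emb.conclusion (E.top hz hw hf (E.cent_tm hz hw hf))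
  · left
    unfold Emb.OnlyU at h
    push Not at h
    obtain ⟨g, x, hx, hgx, hnU⟩ := h
    have hV : InV (x : SL4).1 := (E.pure g x hx hgx).resolve_left hnU
    have hgx' : g * D.L.z * g⁻¹ = E.ψ x := by rw [← cE.z_eq]; exact hgx
    have hy : g * D.L.z * g⁻¹ ∈ D.L.Q := by rw [hgx']; exact (cE.mem_iff x).1 hx
    have h1 : (D.L.π (g * D.L.z * g⁻¹)).1 = 0 := by
      rw [hgx', cE.π_eq x hx]
      simp [qcoord, hV.2.1, hV.2.2]
    have hyz : g * D.L.z * g⁻¹ ∉ zpowers D.L.z := fun hm => hnU (by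
      have h0 := (D.L.π_ker _ hy).2 hm
      rw [hgx', cE.π_eq x hx] at h0
      have h2 := congrArg Prod.snd h0
      exact ⟨hx, by simpa [qcoord] using congrFun h2 1, by simpa [qcoord] using congrFun h2 0⟩)
    obtain ⟨F⟩ := (⟨D, g, hy, hyz, h1, E, cE⟩ : Two G).exists_full
    have hz : ∀ g, g * E.z * g⁻¹ ∈ F.φ.range → g ∈ F.φ.range := fun g hg => F.conj_range hg
    have hw : ∀ c : ZMod 3, c ≠ 0 → centralizer ({F.φ (wm c : SL4)} : Set G) ≤ F.φ.range := by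
      intro c hc
      rw [F.φ_eq]
      exact E.cent_wm_le F.range_le hz (E.norm_wm c hc)
    exact F.conclusion (F.top hz hw (F.cent_tm hz hw))

end CfsgLib.L43
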