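import Cfsg.Agent.LFourThree.Emb
import Cfsg.Agent.LFourThree.FusionModel

/-!
# The regular unipotent element is not conjugate to the central element
-/

set_option autoImplicit false
set_option maxRecDepth 100000
set_option linter.style.haveILetI false
set_option linter.unusedSectionVars false

namespace CfsgLib.L43

open Subgroup FM

universe u

namespace Fus

variable {G : Type u} [Group G]

/-- The joint centraliser of two elements. -/
def cp (a b : G) : Subgroup G := centralizer {a} ⊓ centralizer {b}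

theorem mem_cp {a b g : G} : g ∈ cp a b ↔ g * a = a * g ∧ g * b = b * g := by
  rw [cp, mem_inf, mem_centralizer_singleton_iff, mem_centralizer_singleton_iff]

theorem cp_comm (a b : G) : cp a b = cp b a := inf_comm _ _

theorem cp_inv (a b : G) : cp a b⁻¹ = cp a b := by
  ext g
  rw [mem_cp, mem_cp]
  exact and_congr_right fun _ => Commute.inv_right_iff

theorem cp_conj (a b k : G) :
    (cp a b).map (MulAut.conj k).toMonoidHom = cp (k * a * k⁻¹) (k * b * k⁻¹) := by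
  ext g
  rw [mem_map_equiv, MulAut.conj_symm_apply, mem_cp, mem_cp]
  have key : ∀ w : G, k⁻¹ * g * k * w = w * (k⁻¹ * g * k) ↔
      g * (k * w * k⁻¹) = k * w * k⁻¹ * g := by
    intro w
    constructor
    · intro h
      calc g * (k * w * k⁻¹) = k * (k⁻¹ * g * k * w) * k⁻¹ := by group
        _ = k * (w * (k⁻¹ * g * k)) * k⁻¹ := by rw [h]
        _ = k * w * k⁻¹ * g := by group
    · intro h
      calc k⁻¹ * g * k * w = k⁻¹ * (g * (k * w * k⁻¹)) * k := by group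
        _ = k⁻¹ * (k * w * k⁻¹ * g) * k := by rw [h]
        _ = w * (k⁻¹ * g * k) := by group
  rw [key, key]

theorem map_conj_mul (H : Subgroup G) (a b : G) :
    H.map (MulAut.conj (a * b)).toMonoidHom =
      (H.map (MulAut.conj b).toMonoidHom).map (MulAut.conj a).toMonoidHom := by
  rw [Subgroup.map_map]
  refine congrArg (fun f => H.map f) (MonoidHom.ext fun x => ?_)
  show a * b * x * (a * b)⁻¹ = a * (b * x * b⁻¹) * a⁻¹
  group

theorem map_conj_one (H : Subgroup G) : H.map (MulAut.conj (1 : G)).toMonoidHom = H := by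
  rw [map_one]
  exact Subgroup.map_id H

theorem card_map_conj (H : Subgroup G) (a : G) :
    Nat.card (H.map (MulAut.conj a).toMonoidHom) = Nat.card H :=
  card_map_of_injective (MulAut.conj a).injective

variable [Finite G]

/-- The orbit of `a` under conjugation by `H`. -/
theorem card_orbit (H : Subgroup G) (a : G) :
    Nat.card {x : G // ∃ h ∈ H, h * a * h⁻¹ = x} = (centralizer {a}).relIndex H := by
  let K := (centralizer ({a} : Set G)).subgroupOf H
  let f : H → {x : G // ∃ h ∈ H, h * a * h⁻¹ = x} := fun h => ⟨(h : G) * a * (h : G)⁻¹, h, h.2, rfl⟩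
  have hf : ∀ h k : H, f h = f k ↔ QuotientGroup.leftRel K h k := fun h k => by
    rw [QuotientGroup.leftRel_apply, mem_subgroupOf, mem_centralizer_singleton_iff, Subtype.ext_iff,
      Subgroup.coe_mul, Subgroup.coe_inv]
    show (h : G) * a * (h : G)⁻¹ = (k : G) * a * (k : G)⁻¹ ↔ _
    constructor
    · intro e
      calc (h : G)⁻¹ * k * a = (h : G)⁻¹ * ((k : G) * a * (k : G)⁻¹) * k := by group
        _ = (h : G)⁻¹ * ((h : G) * a * (h : G)⁻¹) * k := by rw [e]
        _ = a * ((h : G)⁻¹ * k) := by group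
    · intro e
      calc (h : G) * a * (h : G)⁻¹ = (h : G) * (a * ((h : G)⁻¹ * k)) * (k : G)⁻¹ := by group
        _ = (h : G) * ((h : G)⁻¹ * k * a) * (k : G)⁻¹ := by rw [← e]
        _ = (k : G) * a * (k : G)⁻¹ := by group
  let F : H ⧸ K → {x : G // ∃ h ∈ H, h * a * h⁻¹ = x} :=
    Quotient.lift f fun h k e => (hf h k).2 e
  have hF : Function.Bijective F := by
    refine ⟨fun p q e => ?_, fun ⟨x, h, hh, e⟩ =>
      ⟨Quotient.mk _ ⟨h, hh⟩, Subtype.ext e⟩⟩
    induction p using Quotient.ind with | _ p =>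
    induction q using Quotient.ind with | _ q =>
    exact Quotient.sound ((hf p q).1 e)
  rw [← Nat.card_congr (Equiv.ofBijective F hF), relIndex, index_eq_card]

/-- An element conjugate into a subgroup of largest three-power order. -/
theorem conj_into {H : Type*} [Group H] [Finite H] (S : Subgroup H) (hS : Nat.card S = 729)
    (hmax : ∀ P : Subgroup H, IsPGroup 3 P → Nat.card P ≤ 729) {x : H} (hx : x * x * x = 1) :
    ∃ g : H, g * x * g⁻¹ ∈ S := by
  haveI : Fact (Nat.Prime 3) := ⟨Nat.prime_three⟩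
  obtain ⟨Q, hQ⟩ := (IsPGroup.of_card (n := 6) (by rw [hS]; norm_num) :
    IsPGroup 3 S).exists_le_sylow
  have hSQ : S = (Q : Subgroup H) := eq_of_le_of_card_ge hQ (by rw [hS]; exact hmax _ Q.2)
  have hz : IsPGroup 3 (zpowers x) := by
    have h1 : orderOf x ∣ 3 ^ 1 := orderOf_dvd_of_pow_eq_one (by rw [pow_one, pow_three', hx])
    obtain ⟨m, -, hm⟩ := (Nat.dvd_prime_pow Nat.prime_three).1 h1
    exact IsPGroup.of_card (n := m) (by rw [Nat.card_zpowers, hm])
  obtain ⟨P, hP⟩ := hz.exists_le_sylow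
  obtain ⟨g, hg⟩ := MulAction.exists_smul_eq H P Q
  refine ⟨g, ?_⟩
  rw [hSQ, ← hg, Sylow.coe_subgroup_smul]
  exact ⟨x, hP (mem_zpowers x), rfl⟩

theorem bf_count : ∀ p : ZMod 3 → Bool,
    let b : ZMod 3 → ZMod 3 → Bool := fun i k =>
      if k = 0 then decide (i ≠ 0) else if k = 1 then p i else p (-i)
    let m := (Finset.univ.filter fun v : ZMod 3 × ZMod 3 => b v.1 v.2).card
    let t := (Finset.univ.filter fun v : ZMod 3 × ZMod 3 × ZMod 3 =>
      decide (v.2.1 ≠ 0) || b v.1 v.2.2).card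
    m ∣ t → t = 20 ∨ (t = 24 ∧ (∃ i, p i = false) ∧ ∃ i, p i = true) := by decide +kernel

theorem tel_decomp : ∀ i k : ZMod 3, tel i 0 k = tel 1 0 0 ^ i.val * tel 0 0 1 ^ k.val := by
  intro i k
  apply pv_ext
  revert i k
  decide +kernel

theorem three_cases : ∀ k : ZMod 3, k = 0 ∨ k = 1 ∨ k = -1 := by decide

end Fus

namespace Emb

open Fus

variable {G : Type u} [Group G] (E : Emb G)

include E

theorem z_dl : E.ψ dl * E.z * (E.ψ dl)⁻¹ = E.z⁻¹ := by
  show E.ψ dl * E.ψ zm * (E.ψ dl)⁻¹ = (E.ψ zm)⁻¹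
  rw [← map_inv E.ψ dl, ← map_mul, ← map_mul, dl_zm, map_inv]

theorem comm_z {x : Pv} (hx : x ∈ C0) : E.ψ x * E.z = E.z * E.ψ x := by
  show E.ψ x * E.ψ zm = E.ψ zm * E.ψ x
  rw [← map_mul, ← map_mul, mem_centralizer_singleton_iff.1 hx]

theorem exists_C0 {g : G} (h : g * E.z = E.z * g) : ∃ p ∈ C0, E.ψ p = g := by
  obtain ⟨p, rfl⟩ := E.cent (mem_centralizer_singleton_iff.2 h)
  refine ⟨p, mem_centralizer_singleton_iff.2 (E.inj ?_), rfl⟩
  rw [map_mul, map_mul]
  exact h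

theorem conj_dl {x g : G} (h : g * E.z * g⁻¹ = x) :
    (g * E.ψ dl) * E.z * (g * E.ψ dl)⁻¹ = x⁻¹ := by
  rw [← h, show (g * E.ψ dl) * E.z * (g * E.ψ dl)⁻¹ = g * (E.ψ dl * E.z * (E.ψ dl)⁻¹) * g⁻¹ by group,
    z_dl]
  group

/-- The group of order `27` around the regular element. -/
def Tg : Subgroup G := cp E.z (E.ψ regm)

theorem mem_Tg {g : G} : g ∈ E.Tg ↔ ∃ i j k, E.ψ (tel i j k) = g := by
  rw [Tg, mem_cp]
  constructor
  · rintro ⟨h1, h2⟩
    obtain ⟨p, hp, rfl⟩ := E.exists_C0 h1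
    obtain ⟨i, j, k, rfl⟩ := cent_regm hp (E.inj (by rw [map_mul, map_mul]; exact h2))
    exact ⟨i, j, k, rfl⟩
  · rintro ⟨i, j, k, rfl⟩
    refine ⟨E.comm_z (up_mem_C0 _ _ _ _ _ _), ?_⟩
    rw [← map_mul, ← map_mul]
    refine congrArg E.ψ ?_
    rw [regm_eq, up_mul, up_mul]
    congr 1 <;> ring

theorem tel_mem (i j k : ZMod 3) : E.ψ (tel i j k) ∈ E.Tg := E.mem_Tg.2 ⟨i, j, k, rfl⟩

theorem z_eq : E.z = E.ψ (tel 1 0 0) := congrArg E.ψ zm_eq

theorem z_mem : E.z ∈ E.Tg := E.z_eq ▸ E.tel_mem 1 0 0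

theorem Tg_comm {a b : G} (ha : a ∈ E.Tg) (hb : b ∈ E.Tg) : a * b = b * a := by
  obtain ⟨i, j, k, rfl⟩ := E.mem_Tg.1 ha
  obtain ⟨i', j', k', rfl⟩ := E.mem_Tg.1 hb
  rw [← map_mul, ← map_mul]
  refine congrArg E.ψ ?_
  rw [up_mul, up_mul]
  congr 1 <;> ring

theorem card_Tg : Nat.card E.Tg = 27 := by
  let f : ZMod 3 × ZMod 3 × ZMod 3 → E.Tg := fun v => ⟨E.ψ (tel v.1 v.2.1 v.2.2), E.tel_mem _ _ _⟩
  have hf : Function.Bijective f := by
    refine ⟨fun v w h => ?_, fun g => ?_⟩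
    · obtain ⟨h1, h2, h3⟩ := tel_inj (E.inj (congrArg Subtype.val h))
      exact Prod.ext h1 (Prod.ext h2 h3)
    · obtain ⟨i, j, k, h⟩ := E.mem_Tg.1 g.2
      exact ⟨(i, j, k), Subtype.ext h⟩
  rw [← Nat.card_congr (Equiv.ofBijective f hf)]
  simp [Nat.card_zmod]

theorem exists_cp_reg {x : Pv} (h : IsReg x) : ∃ k : G, k * E.z = E.z * k ∧
    cp E.z (E.ψ x) = E.Tg.map (MulAut.conj k).toMonoidHom := by
  obtain ⟨c, hc, h⟩ := h
  have hk := E.comm_z hc
  refine ⟨(E.ψ c)⁻¹, ((show Commute (E.ψ c) E.z from hk).inv_left).eq, ?_⟩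
  have hb : (E.ψ c)⁻¹ * E.z * (E.ψ c)⁻¹⁻¹ = E.z := by
    rw [inv_inv, mul_assoc, ← hk, inv_mul_cancel_left]
  have hx : E.ψ x = (E.ψ c)⁻¹ * E.ψ (c * x * c⁻¹) * (E.ψ c)⁻¹⁻¹ := by
    rw [map_mul, map_mul, map_inv]; group
  rw [Tg, cp_conj, hb, hx]
  rcases h with h | h <;> rw [h]
  rw [map_inv, ← cp_inv E.z ((E.ψ c)⁻¹ * E.ψ regm * (E.ψ c)⁻¹⁻¹)]
  group

theorem cp_tel [Finite G] {i j k : ZMod 3} (hj : j ≠ 0) : cp E.z (E.ψ (tel i j k)) = E.Tg := by
  obtain ⟨c, -, hc⟩ := E.exists_cp_reg (isReg_up (a := 0) (b := 0) (c := i) (d := k) rfl hj hj)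
  refine (eq_of_le_of_card_ge (fun g hg => ?_) ?_).symm
  · exact mem_cp.2 ⟨E.Tg_comm hg E.z_mem, E.Tg_comm hg (E.tel_mem i j k)⟩
  · rw [show tel i j k = up 0 0 i j k j from rfl, hc, card_map_conj]

variable [Finite G]

theorem conj_Sm {x : Pv} (hx : x ∈ C0) (h3 : x * x * x = 1) :
    ∃ p ∈ C0, ∃ a b c s d e, p * x * p⁻¹ = up a b c s d e ∧ a * s * e = 0 := by
  haveI : Finite Pv := Finite.of_injective E.ψ E.inj
  have h729 : Nat.card (Sm.subgroupOf C0) = 729 :=
    (Nat.card_congr (subgroupOfEquivOfLe Sm_le_C0).toEquiv).trans card_Sm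
  have hmax : ∀ P : Subgroup C0, IsPGroup 3 P → Nat.card P ≤ 729 := fun P hP => by
    have h1 := E.sylow ((P.map C0.subtype).map E.ψ) ((hP.map C0.subtype).map E.ψ)
    rwa [card_map_of_injective E.inj, card_map_of_injective C0.subtype_injective] at h1
  obtain ⟨⟨p, hp⟩, hps⟩ := conj_into (Sm.subgroupOf C0) h729 hmax (x := ⟨x, hx⟩)
    (Subtype.ext (by rw [Subgroup.coe_mul, Subgroup.coe_mul, Subgroup.coe_one]; exact h3))
  have hps' : p * x * p⁻¹ ∈ Sm := by
    rw [mem_subgroupOf, Subgroup.coe_mul, Subgroup.coe_mul, Subgroup.coe_inv] at hps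
    exact hps
  obtain ⟨a, b, c, s, d, e, hy⟩ : ∃ a b c s d e, p * x * p⁻¹ = up a b c s d e :=
    ⟨_, _, _, _, _, _, eq_up hps'⟩
  refine ⟨p, hp, a, b, c, s, d, e, hy, ?_⟩
  have hy3 : up a b c s d e * up a b c s d e * up a b c s d e = 1 := by
    rw [← hy]
    calc p * x * p⁻¹ * (p * x * p⁻¹) * (p * x * p⁻¹) = p * (x * x * x) * p⁻¹ := by group
      _ = 1 := by rw [h3, mul_one, mul_inv_cancel]
  rw [up_mul, up_mul, one_eq] at hy3
  obtain ⟨-, -, h, -⟩ := up_inj hy3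
  have h30 : (3 : ZMod 3) = 0 := by decide
  linear_combination h - (c + a * d + b * e) * h30

/-- Elements outside the radical with trivial last entry which are conjugate to `z`. -/
theorem pure_J {a b c s d : ZMod 3} (hs : s ≠ 0) {g : G}
    (hg : g * E.z * g⁻¹ = E.ψ (up a b c s d 0)) : a = 0 ∧ b * d - c * s = 0 := by
  obtain ⟨q, hq⟩ := exists_to_Qm (a := a) (b := b) (c := c) (d := d) hs
  have h := E.pure (E.ψ q * g) (up a (b * d - c * s) (b * s) 0 1 0) (mem_Qm_up.2 rfl) (by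
    rw [← hq, map_mul, map_mul, ← hg, map_inv]; group)
  rcases pure_up h with ⟨h1, -⟩ | h1
  · exact absurd h1 one_ne_zero
  · exact h1

theorem shape {x : Pv} (hx : x ∈ C0) {g : G} (hg : g * E.z * g⁻¹ = E.ψ x) (hr : ¬ IsReg x) :
    ∃ p ∈ C0, ∃ a b c s d e, p * x * p⁻¹ = up a b c s d e ∧
      ((s = 0 ∧ d = 0 ∧ e = 0) ∨ (s = 0 ∧ a = 0 ∧ b = 0) ∨ (s ≠ 0 ∧ e = 0 ∧ a = 0)) := by
  have h3 : x * x * x = 1 := E.inj (by
    rw [map_mul, map_mul, map_one, ← hg,
      show g * E.z * g⁻¹ * (g * E.z * g⁻¹) * (g * E.z * g⁻¹) = g * (E.z * E.z * E.z) * g⁻¹ by group,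
      show E.z * E.z * E.z = 1 by
        show E.ψ zm * E.ψ zm * E.ψ zm = 1
        rw [← map_mul, ← map_mul, zm_eq, up_mul, up_mul, ← map_one E.ψ, one_eq]
        congr 2 <;> decide,
      mul_one, mul_inv_cancel])
  obtain ⟨p, hp, a, b, c, s, d, e, hy, hase⟩ := E.conj_Sm hx h3
  have hy' : (E.ψ p * g) * E.z * (E.ψ p * g)⁻¹ = E.ψ (up a b c s d e) := by
    rw [← hy, map_mul, map_mul, ← hg, map_inv]; group
  refine ⟨p, hp, a, b, c, s, d, e, hy, ?_⟩
  by_cases hs : s = 0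
  · subst hs
    rcases pure_up (E.pure _ _ (mem_Qm_up.2 rfl) hy') with h | h
    · exact Or.inl ⟨rfl, h⟩
    · exact Or.inr (Or.inl ⟨rfl, h⟩)
  by_cases he : e = 0
  · subst he
    exact Or.inr (Or.inr ⟨hs, rfl, (E.pure_J hs hy').1⟩)
  exfalso
  have ha : a = 0 := by
    rcases mul_eq_zero.1 hase with h | h
    · exact (mul_eq_zero.1 h).resolve_right hs
    · exact absurd h he
  haveI : Fact (Nat.Prime 3) := ⟨Nat.prime_three⟩
  obtain ⟨q, hq, h⟩ := isReg_up (b := b) (c := c) (d := d) ha hs he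
  refine hr ⟨q * p, mul_mem hq hp, ?_⟩
  rw [show q * p * x * (q * p)⁻¹ = q * (p * x * p⁻¹) * q⁻¹ by group, hy]
  exact h

theorem card_cp_big {x : Pv} (hx : x ∈ C0) {g : G} (hg : g * E.z * g⁻¹ = E.ψ x) (hr : ¬ IsReg x) :
    27 < Nat.card (cp E.z (E.ψ x)) := by
  classical
  obtain ⟨p, hp, a, b, c, s, d, e, hy, h⟩ := E.shape hx hg hr
  obtain ⟨S, hS, hSp⟩ : BigCent x := by
    refine bigCent_conj hp ?_
    rw [hy]
    rcases h with ⟨rfl, rfl, rfl⟩ | ⟨rfl, rfl, rfl⟩ | ⟨-, rfl, rfl⟩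
    exacts [bigCent_U _ _ _, bigCent_V _ _ _, bigCent_J _ _ _ _]
  let f : S → cp E.z (E.ψ x) := fun q => ⟨E.ψ q, mem_cp.2 ⟨E.comm_z (hSp q q.2).1, by
    rw [← map_mul, ← map_mul, (hSp q q.2).2]⟩⟩
  have hf : Function.Injective f := fun q r h =>
    Subtype.ext (E.inj (congrArg Subtype.val h))
  have h' := Nat.card_le_card_of_injective f hf
  rw [Nat.card_eq_finsetCard] at h'
  omega

/-- A conjugate `w` of `z` with joint centraliser `Tg` is fused to `z` in the normaliser. -/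
theorem exists_norm {g w : G} (hw : g * E.z * g⁻¹ = w) (hcp : cp E.z w = E.Tg) :
    ∃ n ∈ normalizer (E.Tg : Set G), n * E.z * n⁻¹ = w := by
  have hwT : w ∈ E.Tg := by
    rw [← hcp, mem_cp]
    refine ⟨?_, rfl⟩
    obtain ⟨h1, h2⟩ := mem_cp.1 (hcp.symm ▸ E.z_mem : E.z ∈ cp E.z w)
    exact h2.symm
  have hcomm : g⁻¹ * E.z * g * E.z = E.z * (g⁻¹ * E.z * g) := by
    calc g⁻¹ * E.z * g * E.z = g⁻¹ * (E.z * (g * E.z * g⁻¹)) * g := by group
      _ = g⁻¹ * ((g * E.z * g⁻¹) * E.z) * g := by rw [hw, E.Tg_comm E.z_mem hwT]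
      _ = E.z * (g⁻¹ * E.z * g) := by group
  obtain ⟨x, hx, hxe⟩ := E.exists_C0 hcomm
  have hmap : (cp E.z (E.ψ x)).map (MulAut.conj g).toMonoidHom = E.Tg := by
    rw [cp_conj, hw, hxe, show g * (g⁻¹ * E.z * g) * g⁻¹ = E.z by group, cp_comm, hcp]
  have hreg : IsReg x := by
    by_contra hr
    have h1 := E.card_cp_big hx (g := g⁻¹) (by rw [hxe, inv_inv]) hr
    have h2 := card_map_conj (cp E.z (E.ψ x)) g
    rw [hmap, E.card_Tg] at h2
    omega
  obtain ⟨k, hk, hke⟩ := E.exists_cp_reg hreg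
  refine ⟨g * k, ?_, ?_⟩
  · rw [mem_normalizer_iff_map_conj_eq]
    change E.Tg.map (MulAut.conj (g * k)).toMonoidHom = E.Tg
    rw [map_conj_mul, ← hke, hmap]
  · rw [← hw]
    calc g * k * E.z * (g * k)⁻¹ = g * (k * E.z) * k⁻¹ * g⁻¹ := by group
      _ = g * E.z * g⁻¹ := by rw [hk]; group

/-- **Piece B**: the regular element is not conjugate to `z`. -/
theorem not_reg : ∀ g : G, g * E.z * g⁻¹ ≠ E.ψ regm := by
  classical
  intro g₀ hg₀
  haveI : Fact (Nat.Prime 3) := ⟨Nat.prime_three⟩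
  haveI : Fact (Nat.Prime 5) := ⟨by norm_num⟩
  set T := E.Tg with hT
  set N := normalizer (T : Set G) with hN
  let inO : G → Prop := fun x => ∃ n ∈ N, n * E.z * n⁻¹ = x
  -- conjugates of `z` in `T`
  have htel : ∀ i j k : ZMod 3, j ≠ 0 → inO (E.ψ (tel i j k)) := by
    intro i j k hj
    obtain ⟨c, hc, h⟩ := isReg_up (a := 0) (b := 0) (c := i) (d := k) rfl hj hj
    have hcz := E.comm_z hc
    obtain ⟨g₁, hg₁⟩ : ∃ g₁ : G, g₁ * E.z * g₁⁻¹ = E.ψ (c * tel i j k * c⁻¹) := by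
      rcases h with h | h <;> rw [h]
      · exact ⟨g₀, hg₀⟩
      · exact ⟨g₀ * E.ψ dl, by rw [E.conj_dl hg₀, map_inv]⟩
    refine E.exists_norm (g := (E.ψ c)⁻¹ * g₁) ?_ (E.cp_tel hj)
    rw [show (E.ψ c)⁻¹ * g₁ * E.z * ((E.ψ c)⁻¹ * g₁)⁻¹ = (E.ψ c)⁻¹ * (g₁ * E.z * g₁⁻¹) * E.ψ c by
      group, hg₁, map_mul, map_mul, map_inv]
    group
  have hdlN : E.ψ dl ∈ N := by
    rw [hN, mem_normalizer_iff_map_conj_eq]
    refine eq_of_le_of_card_ge ?_ (le_of_eq (card_map_conj T _).symm)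
    rintro _ ⟨x, hx, rfl⟩
    obtain ⟨i, j, k, rfl⟩ := E.mem_Tg.1 hx
    refine E.mem_Tg.2 ⟨-i, -j, k, ?_⟩
    show _ = E.ψ dl * E.ψ (tel i j k) * (E.ψ dl)⁻¹
    rw [← map_inv, ← map_mul, ← map_mul, dl_conj, neg_zero]
  have hinv : ∀ x, inO x → inO x⁻¹ := fun x ⟨n, hn, hx⟩ =>
    ⟨n * E.ψ dl, mul_mem hn hdlN, E.conj_dl hx⟩
  have hz1 : inO (E.ψ (tel 1 0 0)) := ⟨1, one_mem _, by rw [one_mul, inv_one, mul_one, ← E.z_eq]⟩
  have hOT : ∀ x, inO x → ∃ i j k, (i, j, k) ≠ (0, 0, 0) ∧ E.ψ (tel i j k) = x := by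
    rintro x ⟨n, hn, rfl⟩
    obtain ⟨i, j, k, h⟩ := E.mem_Tg.1 ((mem_normalizer_iff.1 hn _).1 E.z_mem)
    refine ⟨i, j, k, fun e => ?_, h⟩
    simp only [Prod.mk.injEq] at e
    obtain ⟨rfl, rfl, rfl⟩ := e
    rw [show tel 0 0 0 = 1 from one_eq.symm, map_one] at h
    have h1 : E.ψ (tel 1 0 0) = E.ψ (tel 0 0 0) := by
      rw [← E.z_eq, show tel 0 0 0 = 1 from one_eq.symm, map_one]
      calc E.z = n⁻¹ * (n * E.z * n⁻¹) * n := by group
        _ = 1 := by rw [← h]; group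
    exact one_ne_zero (tel_inj (E.inj h1)).1
  let p : ZMod 3 → Bool := fun i => decide (inO (E.ψ (tel i 0 1)))
  let b : ZMod 3 → ZMod 3 → Bool := fun i k =>
    if k = 0 then decide (i ≠ 0) else if k = 1 then p i else p (-i)
  have htinv : ∀ i j k : ZMod 3, (E.ψ (tel i j k))⁻¹ = E.ψ (tel (-i) (-j) (j * j - k)) := by
    intro i j k
    rw [← map_inv]
    refine congrArg E.ψ (inv_eq_of_mul_eq_one_right ?_)
    rw [up_mul, one_eq]
    congr 1 <;> ring
  have hb : ∀ i k, inO (E.ψ (tel i 0 k)) ↔ b i k = true := by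
    intro i k
    obtain rfl | rfl | rfl := three_cases k
    · show _ ↔ decide (i ≠ 0) = true
      rw [decide_eq_true_iff]
      obtain rfl | rfl | rfl := three_cases i
      · refine iff_of_false (fun h => ?_) (fun h => h rfl)
        obtain ⟨i', j', k', hne, he⟩ := hOT _ h
        obtain ⟨rfl, rfl, rfl⟩ := tel_inj (E.inj he)
        exact hne rfl
      · exact iff_of_true hz1 one_ne_zero
      · refine iff_of_true ?_ (neg_ne_zero.2 one_ne_zero)
        have := hinv _ hz1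
        rwa [htinv, show (-0 : ZMod 3) = 0 from neg_zero, show (0 * 0 - 0 : ZMod 3) = 0 by ring] at this
    · show _ ↔ p i = true
      exact (decide_eq_true_iff).symm
    · show _ ↔ p (-i) = true
      rw [show p (-i) = decide (inO (E.ψ (tel (-i) 0 1))) from rfl, decide_eq_true_iff]
      constructor <;> intro h <;> have := hinv _ h <;>
        simpa [htinv] using this
  -- the point stabiliser
  set St := N ⊓ centralizer ({E.z} : Set G) with hSt
  have hStfix : ∀ s ∈ St, ∀ i k : ZMod 3, s * E.ψ (tel i 0 k) = E.ψ (tel i 0 k) * s := by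
    rintro s ⟨hs, hsz⟩ i k
    obtain ⟨c, hc, rfl⟩ := E.exists_C0 (mem_centralizer_singleton_iff.1 hsz)
    obtain ⟨i', j', k', he⟩ := E.mem_Tg.1 ((mem_normalizer_iff.1 hs _).1 (mem_cp.2
      ⟨E.comm_z (regm_eq ▸ up_mem_C0 _ _ _ _ _ _), rfl⟩ : E.ψ regm ∈ T))
    have he' : c * regm = tel i' j' k' * c := by
      refine E.inj ?_
      rw [map_mul, map_mul, he]
      group
    obtain ⟨-, hf⟩ := norm_regm hc he'
    have h1 : Commute c (tel 1 0 0) := by
      rw [show tel 1 0 0 = zm from zm_eq.symm]; exact mem_centralizer_singleton_iff.1 hc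
    have h2 : Commute c (tel 0 0 1) := by rw [show tel 0 0 1 = fm from fm_eq.symm]; exact hf
    rw [← map_mul, ← map_mul, tel_decomp i k]
    exact congrArg E.ψ ((h1.pow_right _).mul_right (h2.pow_right _)).eq
  have htau : E.ψ tau ∈ St := by
    refine ⟨?_, mem_centralizer_singleton_iff.2 (E.comm_z (up_mem_C0 _ _ _ _ _ _))⟩
    show E.ψ tau ∈ N
    rw [hN, mem_normalizer_iff_map_conj_eq]
    refine eq_of_le_of_card_ge ?_ (le_of_eq (card_map_conj T _).symm)
    rintro _ ⟨x, hx, rfl⟩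
    obtain ⟨i, j, k, rfl⟩ := E.mem_Tg.1 hx
    refine E.mem_Tg.2 ⟨i + j, j, k, ?_⟩
    show _ = E.ψ tau * E.ψ (tel i j k) * (E.ψ tau)⁻¹
    rw [← map_mul, tau_tel, map_mul, mul_inv_cancel_right]
  have hStcard : Nat.card St ≤ 243 := by
    have h1 := (centralizer ({E.ψ regm} : Set G)).subgroupOf St |>.card_mul_index
    have h2 : Nat.card ((centralizer ({E.ψ regm} : Set G)).subgroupOf St) ≤ 27 := by
      rw [← E.card_Tg]
      refine Nat.card_le_card_of_injective
        (fun s => ⟨((s : St) : G), mem_cp.2 ⟨mem_centralizer_singleton_iff.1 (s : St).2.2,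
          mem_centralizer_singleton_iff.1 (mem_subgroupOf.1 s.2)⟩⟩) fun s t h => ?_
      exact Subtype.ext (Subtype.ext (congrArg (fun x : E.Tg => (x : G)) h))
    have h3 : ((centralizer ({E.ψ regm} : Set G)).subgroupOf St).index ≤ 9 := by
      show (centralizer ({E.ψ regm} : Set G)).relIndex St ≤ 9
      rw [← card_orbit]
      have hmem : ∀ x : {x : G // ∃ h ∈ St, h * E.ψ regm * h⁻¹ = x},
          ∃ v : ZMod 3 × ZMod 3, (x : G) = E.ψ (tel v.1 1 v.2) := by
        rintro ⟨x, h, ⟨hN', hz⟩, rfl⟩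
        obtain ⟨c, hc, rfl⟩ := E.exists_C0 (mem_centralizer_singleton_iff.1 hz)
        obtain ⟨i', j', k', he⟩ := E.mem_Tg.1 ((mem_normalizer_iff.1 hN' _).1 (mem_cp.2
          ⟨E.comm_z (regm_eq ▸ up_mem_C0 _ _ _ _ _ _), rfl⟩ : E.ψ regm ∈ T))
        obtain ⟨rfl, -⟩ := norm_regm hc (i := i') (j := j') (k := k') (E.inj (by
          rw [map_mul, map_mul, he]; group))
        exact ⟨(i', k'), he.symm⟩
      choose v hv using hmem
      have := Nat.card_le_card_of_injective v fun x y h =>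
        Subtype.ext ((hv x).trans ((congrArg (fun w : ZMod 3 × ZMod 3 => E.ψ (tel w.1 1 w.2)) h).trans
          (hv y).symm))
      simpa [Nat.card_zmod] using this
    rw [← h1]
    calc _ ≤ 27 * 9 := Nat.mul_le_mul h2 h3
      _ = 243 := by norm_num
  -- the orbit and the block
  have hnT : ∀ n ∈ N, ∀ x, x ∈ T → n * x * n⁻¹ ∈ T := fun n hn x hx => (mem_normalizer_iff.1 hn x).1 hx
  set M := N ⊓ normalizer (St : Set G) with hM
  have hblock : ∀ x, (∃ n ∈ M, n * E.z * n⁻¹ = x) ↔ ∃ i k, b i k = true ∧ E.ψ (tel i 0 k) = x := by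
    intro x
    constructor
    · rintro ⟨n, ⟨hn, hnS⟩, rfl⟩
      obtain ⟨i, j, k, -, he⟩ := hOT _ ⟨n, hn, rfl⟩
      have htn : (n⁻¹ * E.ψ tau * n) * E.z = E.z * (n⁻¹ * E.ψ tau * n) := by
        have := (mem_normalizer_iff.1 hnS (n⁻¹ * E.ψ tau * n)).2 (by simpa [mul_assoc] using htau)
        exact mem_centralizer_singleton_iff.1 this.2
      have hj : j = 0 := by
        refine tau_tel_fixed (i := i) (k := k) (E.inj ?_)
        rw [map_mul, map_mul, he]
        calc E.ψ tau * (n * E.z * n⁻¹) = n * ((n⁻¹ * E.ψ tau * n) * E.z) * n⁻¹ := by group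
          _ = n * (E.z * (n⁻¹ * E.ψ tau * n)) * n⁻¹ := by rw [htn]
          _ = n * E.z * n⁻¹ * E.ψ tau := by group
      subst hj
      exact ⟨i, k, (hb i k).1 ⟨n, hn, he.symm⟩, he⟩
    · rintro ⟨i, k, hik, rfl⟩
      obtain ⟨n, hn, he⟩ := (hb i k).2 hik
      refine ⟨n, ⟨hn, ?_⟩, he⟩
      show n ∈ normalizer (St : Set G)
      rw [mem_normalizer_iff_map_conj_eq]
      refine (eq_of_le_of_card_ge ?_ (le_of_eq (card_map_conj St n))).symm
      intro s hs
      refine ⟨n⁻¹ * s * n, ⟨N.mul_mem (N.mul_mem (N.inv_mem hn) hs.1) hn,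
        mem_centralizer_singleton_iff.2 ?_⟩, by show n * (n⁻¹ * s * n) * n⁻¹ = s; group⟩
      calc n⁻¹ * s * n * E.z = n⁻¹ * (s * (n * E.z * n⁻¹)) * n := by group
        _ = n⁻¹ * ((n * E.z * n⁻¹) * s) * n := by rw [he, hStfix s hs i k]
        _ = E.z * (n⁻¹ * s * n) := by group
  have hm : (centralizer ({E.z} : Set G)).relIndex M =
      (Finset.univ.filter fun v : ZMod 3 × ZMod 3 => b v.1 v.2).card := by
    rw [← card_orbit, ← Nat.card_eq_finsetCard]
    refine (Nat.card_congr (Equiv.ofBijective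
      (fun v : (Finset.univ.filter fun v : ZMod 3 × ZMod 3 => b v.1 v.2) =>
        (⟨E.ψ (tel v.1.1 0 v.1.2), (hblock _).2 ⟨_, _, (Finset.mem_filter.1 v.2).2, rfl⟩⟩ :
          {x : G // ∃ n ∈ M, n * E.z * n⁻¹ = x})) ⟨fun v w h => ?_, fun x => ?_⟩)).symm
    · obtain ⟨h1, -, h2⟩ := tel_inj (E.inj (congrArg Subtype.val h))
      exact Subtype.ext (Prod.ext h1 h2)
    · obtain ⟨i, k, h1, h2⟩ := (hblock _).1 x.2
      exact ⟨⟨(i, k), Finset.mem_filter.2 ⟨Finset.mem_univ _, h1⟩⟩, Subtype.ext h2⟩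
  have hb' : ∀ i j k : ZMod 3, inO (E.ψ (tel i j k)) ↔ (decide (j ≠ 0) || b i k) = true := by
    intro i j k
    rcases eq_or_ne j 0 with rfl | hj
    · simpa using hb i k
    · simpa [hj] using htel i j k hj
  have ht : (centralizer ({E.z} : Set G)).relIndex N =
      (Finset.univ.filter fun v : ZMod 3 × ZMod 3 × ZMod 3 =>
        decide (v.2.1 ≠ 0) || b v.1 v.2.2).card := by
    rw [← card_orbit, ← Nat.card_eq_finsetCard]
    refine (Nat.card_congr (Equiv.ofBijective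
      (fun v : (Finset.univ.filter fun v : ZMod 3 × ZMod 3 × ZMod 3 =>
          decide (v.2.1 ≠ 0) || b v.1 v.2.2) =>
        (⟨E.ψ (tel v.1.1 v.1.2.1 v.1.2.2), (hb' _ _ _).2 (Finset.mem_filter.1 v.2).2⟩ :
          {x : G // inO x})) ⟨fun v w h => ?_, fun x => ?_⟩)).symm
    · obtain ⟨h1, h2, h3⟩ := tel_inj (E.inj (congrArg Subtype.val h))
      exact Subtype.ext (Prod.ext h1 (Prod.ext h2 h3))
    · obtain ⟨i, j, k, -, h2⟩ := hOT _ x.2
      exact ⟨⟨(i, j, k), Finset.mem_filter.2 ⟨Finset.mem_univ _, (hb' i j k).1 (h2 ▸ x.2)⟩⟩,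
        Subtype.ext h2⟩
  have hStM : St ≤ M := le_inf inf_le_left le_normalizer
  have hSN : ∀ H : Subgroup G, H ≤ N → St.relIndex H = (centralizer ({E.z} : Set G)).relIndex H := by
    intro H hH
    show (St.subgroupOf H).index = ((centralizer ({E.z} : Set G)).subgroupOf H).index
    congr 1
    ext ⟨x, hx⟩
    rw [mem_subgroupOf, mem_subgroupOf, hSt, mem_inf]
    exact and_iff_right (hH hx)
  have hdvd := Dvd.intro (M.relIndex N)
    (relIndex_mul_relIndex St M N hStM inf_le_left)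
  rw [hSN M inf_le_left, hSN N le_rfl, hm, ht] at hdvd
  have hNcard : Nat.card N = Nat.card St * (centralizer ({E.z} : Set G)).relIndex N := by
    rw [← hSN N le_rfl, relIndex, ← Nat.card_congr (subgroupOfEquivOfLe (inf_le_left : St ≤ N)).toEquiv,
      card_mul_index]
  rw [ht] at hNcard
  rcases bf_count p hdvd with h20 | ⟨h24, ⟨i₀, hi₀⟩, ⟨i₁, hi₁⟩⟩
  · -- an element of order five
    obtain ⟨⟨s, hsN⟩, hs⟩ := exists_prime_orderOf_dvd_card' (G := N) 5
      (by rw [hNcard]; exact Dvd.dvd.mul_left (by rw [h20]; norm_num) _)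
    rw [Subgroup.orderOf_mk] at hs
    letI : MulAction (zpowers s) T :=
      { smul := fun a x => ⟨(a : G) * x * (a : G)⁻¹, hnT _ (zpowers_le.2 hsN a.2) _ x.2⟩
        one_smul := fun x => Subtype.ext (show (1 : G) * x * (1 : G)⁻¹ = x by group)
        mul_smul := fun a c x => Subtype.ext (show ((a * c : zpowers s) : G) * x * ((a * c : zpowers s) : G)⁻¹ =
          (a : G) * ((c : G) * x * (c : G)⁻¹) * (a : G)⁻¹ by simp [mul_assoc]) }
    have h5 : IsPGroup 5 (zpowers s) := IsPGroup.of_card (n := 1) (by rw [Nat.card_zpowers, hs, pow_one])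
    have hmod := h5.card_modEq_card_fixedPoints T
    let F : Subgroup T := (centralizer ({s} : Set G)).subgroupOf T
    have hfix : Nat.card (MulAction.fixedPoints (zpowers s) T) = Nat.card F := by
      refine Nat.card_congr (Equiv.subtypeEquivRight fun x => ?_)
      rw [MulAction.mem_fixedPoints]
      constructor
      · intro h
        have h' : s * x * s⁻¹ = x := congrArg Subtype.val (h ⟨s, mem_zpowers s⟩)
        exact mem_centralizer_singleton_iff.2 (mul_inv_eq_iff_eq_mul.1 h').symm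
      · rintro h ⟨a, ha⟩
        obtain ⟨m, rfl⟩ := mem_zpowers_iff.1 ha
        refine Subtype.ext ?_
        show s ^ m * (x : G) * (s ^ m)⁻¹ = x
        have hc : Commute (x : G) s := mem_centralizer_singleton_iff.1 h
        rw [← (hc.zpow_right m).eq, mul_inv_cancel_right]
    have hd := card_subgroup_dvd_card F
    rw [hfix, E.card_Tg] at hmod
    rw [E.card_Tg] at hd
    have hF : Nat.card F = 27 := by
      obtain ⟨m, hm, he⟩ := (Nat.dvd_prime_pow Nat.prime_three).1 (show Nat.card F ∣ 3 ^ 3 from hd)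
      rw [he] at hmod ⊢
      interval_cases m <;> simp [Nat.ModEq] at hmod ⊢
    have hFtop : F = ⊤ := eq_top_of_card_eq _ (by rw [hF, E.card_Tg])
    have hsT : s ∈ T := by
      have hc : ∀ x ∈ T, s * x = x * s := fun x hx => (mem_centralizer_singleton_iff.1
        (show (⟨x, hx⟩ : T) ∈ F from hFtop ▸ mem_top _)).symm
      refine mem_cp.2 ⟨hc _ E.z_mem, hc _ (mem_cp.2 ⟨E.comm_z (regm_eq ▸ up_mem_C0 _ _ _ _ _ _), rfl⟩)⟩
    have := orderOf_dvd_natCard (⟨s, hsT⟩ : T)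
    rw [Subgroup.orderOf_mk, hs, E.card_Tg] at this
    norm_num at this
  · -- the line omitted by the orbit
    have hfmz : ∀ i : ZMod 3, ∃ g : G, g * E.z * g⁻¹ = E.ψ (tel i 0 1) := by
      intro i
      obtain ⟨n, -, hn⟩ := (decide_eq_true_iff (p := inO (E.ψ (tel i₁ 0 1)))).1 hi₁
      refine ⟨E.ψ (up (i - i₁) 0 0 0 0 0) * n, ?_⟩
      rw [show E.ψ (up (i - i₁) 0 0 0 0 0) * n * E.z * (E.ψ (up (i - i₁) 0 0 0 0 0) * n)⁻¹ =
        E.ψ (up (i - i₁) 0 0 0 0 0) * (n * E.z * n⁻¹) * (E.ψ (up (i - i₁) 0 0 0 0 0))⁻¹ by group,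
        hn, ← map_inv, ← map_mul, ← map_mul, trans_fm, add_sub_cancel]
    have hall : ∀ x ∈ T, x ≠ 1 → ∃ g : G, g * E.z * g⁻¹ = x := by
      intro x hx hx1
      obtain ⟨i, j, k, rfl⟩ := E.mem_Tg.1 hx
      rcases eq_or_ne j 0 with rfl | hj
      · obtain rfl | rfl | rfl := three_cases k
        · have hi : b i 0 = true := by
            show decide (i ≠ 0) = true
            rw [decide_eq_true_iff]
            rintro rfl
            exact hx1 (by rw [show tel 0 0 0 = 1 from one_eq.symm, map_one])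
          obtain ⟨n, -, hn⟩ := (hb i 0).2 hi
          exact ⟨n, hn⟩
        · exact hfmz i
        · obtain ⟨g, hg⟩ := hfmz (-i)
          refine ⟨g * E.ψ dl, ?_⟩
          rw [E.conj_dl hg, htinv]
          norm_num
      · obtain ⟨n, -, hn⟩ := htel i j k hj
        exact ⟨n, hn⟩
    have hx₀ : ¬ inO (E.ψ (tel i₀ 0 1)) := fun h => by
      have : p i₀ = true := decide_eq_true h
      rw [hi₀] at this
      exact Bool.noConfusion this
    obtain ⟨h, hh⟩ := hfmz i₀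
    set T' := T.map (MulAut.conj h⁻¹).toMonoidHom with hT'
    have hzT' : E.z ∈ T' := by
      refine ⟨E.ψ (tel i₀ 0 1), E.tel_mem _ _ _, ?_⟩
      show h⁻¹ * E.ψ (tel i₀ 0 1) * h⁻¹⁻¹ = E.z
      rw [← hh]; group
    have hT'comm : ∀ a ∈ T', ∀ c ∈ T', a * c = c * a := by
      rintro _ ⟨a, ha, rfl⟩ _ ⟨c, hc, rfl⟩
      rw [← map_mul, ← map_mul, E.Tg_comm ha hc]
    have hT'C : ∀ a ∈ T', ∃ x ∈ C0, E.ψ x = a := fun a ha => E.exists_C0 (hT'comm a ha _ hzT')
    have hT'zc : ∀ a ∈ T', a ≠ 1 → ∃ g : G, g * E.z * g⁻¹ = a := by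
      rintro _ ⟨a, ha, rfl⟩ ha1
      obtain ⟨g, hg⟩ := hall a ha (fun e => ha1 (by rw [e, map_one]))
      refine ⟨h⁻¹ * g, ?_⟩
      show _ = h⁻¹ * a * h⁻¹⁻¹
      rw [← hg]; group
    have hnreg : ∀ x : Pv, E.ψ x ∈ T' → ¬ IsReg x := by
      intro x hx hr
      obtain ⟨k, hk, hke⟩ := E.exists_cp_reg hr
      have hle : T' = cp E.z (E.ψ x) := eq_of_le_of_card_ge
        (fun a ha => mem_cp.2 ⟨hT'comm a ha _ hzT', hT'comm a ha _ hx⟩)
        (by rw [hke, card_map_conj, hT', card_map_conj])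
      refine hx₀ ⟨h * k, ?_, ?_⟩
      · rw [hN, mem_normalizer_iff_map_conj_eq]
        show T.map (MulAut.conj (h * k)).toMonoidHom = T
        rw [map_conj_mul, ← hke, ← hle, hT', ← map_conj_mul, mul_inv_cancel, map_conj_one]
      · rw [← hh]
        calc h * k * E.z * (h * k)⁻¹ = h * (k * E.z) * k⁻¹ * h⁻¹ := by group
          _ = h * E.z * h⁻¹ := by rw [hk]; group
    haveI := Um_normal
    have hUV : ∀ x : Pv, E.ψ x ∈ T' → x ∈ Um ∨ x ∈ Vm := by
      intro x hx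
      by_cases hx1 : x = 1
      · exact Or.inl (hx1 ▸ one_mem _)
      have hxC : x ∈ C0 := by
        obtain ⟨y, hy, hye⟩ := hT'C _ hx
        exact E.inj hye ▸ hy
      obtain ⟨g, hg⟩ := hT'zc _ hx (fun e => hx1 (E.inj (by rw [e, map_one])))
      obtain ⟨q, hq, a, b', c, s, d, e, hy, hcase⟩ := E.shape hxC hg (hnreg x hx)
      have hback : x = q⁻¹ * up a b' c s d e * q := by rw [← hy]; group
      rcases hcase with ⟨rfl, rfl, rfl⟩ | ⟨rfl, rfl, rfl⟩ | ⟨hs, rfl, rfl⟩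
      · left
        rw [hback]
        simpa using Um_normal.conj_mem _ (mem_Um_up.2 ⟨rfl, rfl, rfl⟩) q⁻¹
      · right
        rw [hback]
        have hn := Vm_normalized (mem_sup_left (inv_mem hq))
        simpa using (mem_normalizer_iff.1 hn _).1 (mem_Vm_up.2 ⟨rfl, rfl, rfl⟩ : up 0 0 c 0 d e ∈ Vm)
      · exfalso
        have hy' : (E.ψ q * g) * E.z * (E.ψ q * g)⁻¹ = E.ψ (up 0 b' c s d 0) := by
          rw [← hy, map_mul, map_mul, ← hg, map_inv]; group
        have h1 := (E.pure_J hs hy').2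
        have hxz : E.ψ (x * zm) ∈ T' := by rw [map_mul]; exact mul_mem hx hzT'
        have hxz1 : x * zm ≠ 1 := by
          intro e
          have hq' := mem_centralizer_singleton_iff.1 hq
          have e' : up 0 b' c s d 0 = zm⁻¹ := by
            rw [← hy, eq_inv_of_mul_eq_one_left e]
            rw [mul_inv_eq_iff_eq_mul]
            exact (Commute.inv_right (show Commute q zm from hq')).eq
          rw [eq_inv_iff_mul_eq_one, zm_eq, up_mul, one_eq] at e'
          exact hs (by simpa using (up_inj e').2.2.2.1)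
        obtain ⟨g', hg'⟩ := hT'zc _ hxz (fun e => hxz1 (E.inj (by rw [e, map_one])))
        have hy'' : (E.ψ q * g') * E.z * (E.ψ q * g')⁻¹ = E.ψ (up 0 b' (c + 1) s d 0) := by
          have e2 : up 0 b' (c + 1) s d 0 = q * (x * zm) * q⁻¹ := by
            rw [show q * (x * zm) * q⁻¹ = (q * x * q⁻¹) * (q * zm * q⁻¹) by group,
              mem_centralizer_singleton_iff.1 hq, mul_inv_cancel_right, hy, zm_eq, up_mul]
            congr 1 <;> ring
          rw [e2, map_mul E.ψ (q * (x * zm)), map_mul, map_inv, ← hg']; group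
        have h2 := (E.pure_J hs hy'').2
        exact hs (by linear_combination h1 - h2)
    -- `T'` is one of the two radicals
    obtain ⟨W, hW27, hWn, hTW⟩ : ∃ W : Subgroup Pv, Nat.card W = 27 ∧
        C0 ⊔ zpowers dl ≤ normalizer (W : Set Pv) ∧ T' ≤ W.map E.ψ := by
      by_cases hU : T' ≤ Um.map E.ψ
      · exact ⟨Um, card_Um, by rw [normalizer_eq_top_iff.2 Um_normal]; exact le_top, hU⟩
      refine ⟨Vm, card_Vm, Vm_normalized, fun a ha => ?_⟩
      obtain ⟨a', ha', haU⟩ := SetLike.not_le_iff_exists.1 hU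
      obtain ⟨x, -, rfl⟩ := hT'C a ha
      obtain ⟨x', -, rfl⟩ := hT'C a' ha'
      have hx'V : x' ∈ Vm := (hUV x' ha').resolve_left fun h => haU ⟨x', h, rfl⟩
      rcases hUV x ha with hxU | hxV
      · rcases hUV (x * x') (by rw [map_mul]; exact mul_mem ha ha') with h | h
        · exact absurd ⟨x', by simpa using mul_mem (inv_mem hxU) h, rfl⟩ haU
        · exact ⟨x, by simpa using mul_mem h (inv_mem hx'V), rfl⟩
      · exact ⟨x, hxV, rfl⟩
    have hTW' : T' = W.map E.ψ := eq_of_le_of_card_ge hTW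
      (by rw [card_map_of_injective E.inj, hW27, hT', card_map_conj, E.card_Tg])
    haveI : Finite Pv := Finite.of_injective E.ψ E.inj
    have hLN : ((C0 ⊔ zpowers dl).map E.ψ).map (MulAut.conj h).toMonoidHom ≤ N := by
      rintro _ ⟨_, ⟨l, hl, rfl⟩, rfl⟩
      rw [hN, mem_normalizer_iff_map_conj_eq]
      show T.map (MulAut.conj (h * E.ψ l * h⁻¹)).toMonoidHom = T
      rw [map_conj_mul, ← hT', hTW', map_conj_mul]
      have h1 := mem_normalizer_iff_map_conj_eq.1 (hWn hl)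
      have h2 : (W.map E.ψ).map (MulAut.conj (E.ψ l)).toMonoidHom = W.map E.ψ := by
        conv_rhs => rw [← h1]
        rw [Subgroup.map_map W, Subgroup.map_map W]
        refine congrArg (fun f => W.map f) (MonoidHom.ext fun x => ?_)
        show E.ψ l * E.ψ x * (E.ψ l)⁻¹ = E.ψ (l * x * l⁻¹)
        rw [map_mul, map_mul, map_inv]
      rw [h2, ← hTW', hT', ← map_conj_mul, mul_inv_cancel, map_conj_one]
    have hL : 5832 < Nat.card (C0 ⊔ zpowers dl : Subgroup Pv) := by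
      refine lt_of_le_of_lt card_C0 (lt_of_le_of_ne (card_le_of_le le_sup_left) fun e => ?_)
      have := eq_of_le_of_card_ge (le_sup_left : C0 ≤ C0 ⊔ zpowers dl) e.ge
      exact dl_not_mem_C0 (by rw [this]; exact mem_sup_right (mem_zpowers dl))
    have h1 := card_le_of_le hLN
    rw [card_map_conj, card_map_of_injective E.inj, hNcard, h24] at h1
    omega

end Emb

end CfsgLib.L43
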