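import Cfsg.Agent.LFourThree.Loc
import Cfsg.Agent.LFourThree.Chain
import Cfsg.Agent.FGSA.Extraspecial
import Cfsg.Agent.Solvable.Basics

/-!
# The coordinates exist
-/

set_option autoImplicit false
set_option maxRecDepth 100000
set_option linter.style.haveILetI false
set_option linter.unusedSectionVars false
set_option maxHeartbeats 1600000

namespace CfsgLib.L43

open Subgroup CfsgLib.G23Amalgam
open scoped commutatorElement

universe u

variable {G : Type u} [Group G]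

theorem su_odd : su * su * su = 1 ∧ sv * sv * sv = 1 := by decide +kernel

theorem exists_loc [Finite G] (S : Sylow 3 G) (Z : Subgroup G)
    (hZ : Z = (S : Subgroup G) ⊓ centralizer ((S : Subgroup G) : Set G))
    (C : Subgroup G) (hCZ : C = centralizer (Z : Set G))
    (Q : Subgroup G) (hQ : Q = (Cfsg.pCore 3 C).map C.subtype)
    (hQex : Cfsg.IsExtraspecial 3 Q) (hQcard : Nat.card Q = 3 ^ 5) (hQexp : ∀ a ∈ Q, a ^ 3 = 1)
    (hCQ : centralizer (Q : Set G) ≤ Q)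
    (hZQ : ∃ x : G, Z.map (MulAut.conj x).toMonoidHom ≤ Q ∧ Z.map (MulAut.conj x).toMonoidHom ≠ Z)
    (K : Subgroup G) (hK : K = ((Cfsg.pResidual 2 (C ⧸ Cfsg.pCore 3 C)).comap
      (QuotientGroup.mk' (Cfsg.pCore 3 C))).map C.subtype)
    (r : ℕ) (A : Fin (r + 1) → Subgroup G) (hA0 : A 0 = Z) (hAr : A (Fin.last r) = Q)
    (hmono : ∀ i : Fin r, A i.castSucc < A i.succ)
    (hinv : ∀ i : Fin (r + 1), ∀ k ∈ K, ∀ a ∈ A i, k * a * k⁻¹ ∈ A i)
    (hmax : ∀ i : Fin r, ∀ B : Subgroup G, A i.castSucc < B → B < A i.succ →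
      ∃ k ∈ K, ∃ b ∈ B, k * b * k⁻¹ ∉ B)
    (e : C ⧸ Cfsg.pCore 3 C ≃* SS)
    (htwo : ∃ i j : Fin r, i ≠ j ∧
      (∃ k ∈ K, ∃ a ∈ A i.succ, k * a * k⁻¹ * a⁻¹ ∉ A i.castSucc) ∧
      (∃ k ∈ K, ∃ a ∈ A j.succ, k * a * k⁻¹ * a⁻¹ ∉ A j.castSucc)) :
    ∃ L : Loc G, zpowers L.z = Z ∧ centralizer ({L.z} : Set G) = C ∧ L.Q = Q := by
  classical
  haveI : Fact (Nat.Prime 3) := ⟨Nat.prime_three⟩
  -- `K = C`
  have hKC : K = C := by
    have htop : Cfsg.pResidual 2 (C ⧸ Cfsg.pCore 3 C) = ⊤ := by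
      refine eq_top_iff.2 fun x _ => ?_
      have hgen : ∀ g : SS, g * g * g = 1 → e.symm g ∈ Cfsg.pResidual 2 (C ⧸ Cfsg.pCore 3 C) := by
        intro g hg
        refine Subgroup.subset_closure ?_
        show Nat.Coprime _ 2
        have h3 : (e.symm g) ^ 3 = 1 := by rw [← map_pow, pow_succ, pow_two, hg, map_one]
        exact Nat.Coprime.coprime_dvd_left (orderOf_dvd_of_pow_eq_one h3) (by norm_num)
      obtain ⟨a, b, c, d, hx⟩ := ss_word (e x)
      rw [← e.symm_apply_apply x, hx, map_mul, map_mul, map_mul, map_pow, map_pow, map_pow, map_pow]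
      exact mul_mem (mul_mem (mul_mem (pow_mem (hgen _ su_odd.1) _) (pow_mem (hgen _ su_odd.2) _))
        (pow_mem (hgen _ su_odd.1) _)) (pow_mem (hgen _ su_odd.2) _)
    rw [hK, htop, comap_top, ← MonoidHom.range_eq_map, range_subtype]
  subst hKC
  haveI : (Cfsg.pCore 3 K).Normal := CfsgLib.Solvable.pCore_normal 3
  have hQK : Q ≤ K := hQ ▸ map_subtype_le _
  have hQp : IsPGroup 3 Q := hQ ▸ (CfsgLib.Solvable.isPGroup_pCore 3).map _
  -- the centre
  have hSK : (S : Subgroup G) ≤ K := by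
    intro x hx
    rw [hCZ]
    exact mem_centralizer_iff.2 fun y hy => ((mem_centralizer_iff.1 (hZ ▸ hy :
      y ∈ (S : Subgroup G) ⊓ centralizer ((S : Subgroup G) : Set G)).2) x hx).symm
  have hQnK : K ≤ normalizer (Q : Set G) := by
    intro a ha
    refine mem_normalizer_iff.2 fun x => ⟨?_, fun hx => ?_⟩
    · rw [hQ]
      rintro ⟨y, hy, rfl⟩
      exact ⟨⟨a, ha⟩ * y * ⟨a, ha⟩⁻¹, (inferInstance : (Cfsg.pCore 3 K).Normal).conj_mem y hy _, rfl⟩
    · rw [hQ] at hx ⊢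
      obtain ⟨y, hy, hyx⟩ := hx
      refine ⟨⟨a, ha⟩⁻¹ * y * (⟨a, ha⟩⁻¹)⁻¹, (inferInstance : (Cfsg.pCore 3 K).Normal).conj_mem y hy _, ?_⟩
      show a⁻¹ * (y : G) * a⁻¹⁻¹ = x
      rw [show (y : G) = a * x * a⁻¹ from hyx]; group
  have hQS : Q ≤ (S : Subgroup G) := by
    have h := S.2.to_sup_of_normal_right' hQp (hSK.trans hQnK)
    exact (le_sup_right.trans (S.3 h le_sup_left).le)
  have hZQ' : Z ≤ Q := fun y hy => hCQ (mem_centralizer_iff.2 fun x hx =>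
    mem_centralizer_iff.1 (hZ ▸ hy : y ∈ (S : Subgroup G) ⊓ centralizer ((S : Subgroup G) : Set G)).2
      x (hQS hx))
  have hZcen : ∀ y ∈ Z, ∀ x ∈ Q, x * y = y * x := fun y hy x hx =>
    mem_centralizer_iff.1 (hZ ▸ hy : y ∈ (S : Subgroup G) ⊓ centralizer ((S : Subgroup G) : Set G)).2
      x (hQS hx)
  set ZQ := (center Q).map Q.subtype
  have hZQcard : Nat.card ZQ = 3 := by
    rw [← Nat.card_congr ((center Q).equivMapOfInjective _ Q.subtype_injective).toEquiv, hQex.2]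
  have hZne : Z ≠ ⊥ := by
    intro h
    haveI : Nontrivial (S : Subgroup G) := by
      rw [← Finite.one_lt_card_iff_nontrivial]
      calc 1 < 3 ^ 5 := by norm_num
        _ = Nat.card Q := hQcard.symm
        _ ≤ _ := Subgroup.card_le_of_le hQS
    obtain ⟨⟨y, hyS⟩, hy, hy1⟩ := (bot_or_exists_ne_one _).resolve_left
      ((nontrivial_iff_ne_bot _).1 S.2.center_nontrivial)
    refine hy1 (Subtype.ext (show y = 1 from ?_))
    rw [← mem_bot, ← h, hZ]
    exact mem_inf.2 ⟨hyS, mem_centralizer_iff.2 fun x hx =>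
      congrArg Subtype.val (mem_center_iff.1 hy ⟨x, hx⟩)⟩
  have hZeq : Z = ZQ := by
    have hle : Z ≤ ZQ := fun y hy =>
      ⟨⟨y, hZQ' hy⟩, mem_center_iff.2 fun x => Subtype.ext (hZcen y hy x x.2), rfl⟩
    refine eq_of_le_of_card_ge hle ?_
    have h1 : 1 < Nat.card Z := Nat.one_lt_iff_ne_zero_and_ne_one.2
      ⟨Nat.card_pos.ne', fun h => hZne (card_eq_one.1 h)⟩
    have h2 := card_dvd_of_le hle
    rw [hZQcard] at h2 ⊢
    rcases (Nat.dvd_prime Nat.prime_three).1 h2 with h | h <;> omega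
  have hZcard : Nat.card Z = 3 := hZeq ▸ hZQcard
  obtain ⟨z, hz, hz1⟩ := (bot_or_exists_ne_one Z).resolve_left hZne
  have hzp : zpowers z = Z := by
    refine eq_of_le_of_card_ge (zpowers_le.2 hz) ?_
    have h2 := card_dvd_of_le (zpowers_le.2 hz)
    rw [hZcard] at h2 ⊢
    rcases (Nat.dvd_prime Nat.prime_three).1 h2 with h | h
    · exact absurd (zpowers_eq_bot.1 (card_eq_one.1 h)) hz1
    · omega
  have hz3 : z * z * z = 1 := by
    rw [← pow_two, ← pow_succ]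
    exact orderOf_dvd_iff_pow_eq_one.1 (by rw [← Nat.card_zpowers, hzp, hZcard])
  have hK' : centralizer ({z} : Set G) = K := by
    rw [hCZ, ← hzp, zpowers_eq_closure, centralizer_closure]
  -- the quotient map
  let ρ : G → SS := fun a => if h : a ∈ K then e (QuotientGroup.mk' (Cfsg.pCore 3 K) ⟨a, h⟩) else 1
  have hρ : ∀ a (h : a ∈ K), ρ a = e (QuotientGroup.mk' (Cfsg.pCore 3 K) ⟨a, h⟩) := fun a h => dif_pos h
  have ρ_mul : ∀ a ∈ K, ∀ b ∈ K, ρ (a * b) = ρ a * ρ b := fun a ha b hb => by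
    rw [hρ a ha, hρ b hb, hρ _ (mul_mem ha hb), ← map_mul, ← map_mul]
    rfl
  have ρ_ker : ∀ a ∈ K, ρ a = 1 ↔ a ∈ Q := fun a ha => by
    rw [hρ a ha, MulEquiv.map_eq_one_iff, QuotientGroup.mk'_apply, QuotientGroup.eq_one_iff, hQ]
    exact ⟨fun h => ⟨_, h, rfl⟩, fun ⟨y, hy, hya⟩ => (Subtype.ext hya : y = ⟨a, ha⟩) ▸ hy⟩
  have ρ_surj : ∀ g, ∃ a ∈ K, ρ a = g := fun g => by
    obtain ⟨⟨a, ha⟩, h⟩ := QuotientGroup.mk'_surjective (Cfsg.pCore 3 K) (e.symm g)
    exact ⟨a, ha, by rw [hρ a ha, h, e.apply_symm_apply]⟩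
  -- the module
  let N : Subgroup Q := Z.subgroupOf Q
  haveI hN : N.Normal := ⟨fun n hn g => by
    have hc := hZcen n hn g g.2
    show ((g * n * g⁻¹ : Q) : G) ∈ Z
    rw [Subgroup.coe_mul, Subgroup.coe_mul, Subgroup.coe_inv, hc, mul_inv_cancel_right]
    exact hn⟩
  have hcommZ : ∀ x ∈ Q, ∀ y ∈ Q, x * y * x⁻¹ * y⁻¹ ∈ Z := fun x hx y hy => by
    rw [hZeq]
    exact ⟨⁅(⟨x, hx⟩ : Q), ⟨y, hy⟩⁆, CfsgLib.Extraspecial.commutator_mem_center hQex _ _, rfl⟩
  have hqc : ∀ X Y : Q ⧸ N, X * Y = Y * X := by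
    intro X Y
    obtain ⟨x, rfl⟩ := QuotientGroup.mk'_surjective _ X
    obtain ⟨y, rfl⟩ := QuotientGroup.mk'_surjective _ Y
    rw [← map_mul, ← map_mul, QuotientGroup.mk'_apply, QuotientGroup.mk'_apply, QuotientGroup.eq]
    show (((x * y)⁻¹ * (y * x) : Q) : G) ∈ Z
    have := hcommZ _ (inv_mem y.2) _ (inv_mem x.2)
    convert this using 1
    simp only [Subgroup.coe_mul, Subgroup.coe_inv]; group
  have h3 : ∀ X : Q ⧸ N, X ^ 3 = 1 := fun X => by
    obtain ⟨x, rfl⟩ := QuotientGroup.mk'_surjective _ X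
    rw [← map_pow, show x ^ 3 = 1 from Subtype.ext (hQexp x x.2), map_one]
  letI : CommGroup (Q ⧸ N) :=
    { (inferInstance : Group (Q ⧸ N)) with mul_comm := hqc }
  letI : Module (ZMod 3) (Additive (Q ⧸ N)) :=
    AddCommGroup.zmodModule (n := 3) fun X => h3 (Additive.toMul X)
  haveI : Finite (Additive (Q ⧸ N)) := Finite.of_equiv _ Additive.ofMul
  let q : Q → Additive (Q ⧸ N) := fun x => Additive.ofMul (QuotientGroup.mk' N x)
  have q_mul : ∀ x y, q (x * y) = q x + q y := fun x y => by simp [q]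
  have q_surj : ∀ v, ∃ x, q x = v := fun v => by
    obtain ⟨x, hx⟩ := QuotientGroup.mk'_surjective N (Additive.toMul v)
    exact ⟨x, by simp only [q, hx, ofMul_toMul]⟩
  have q_eq : ∀ x y, q x = q y ↔ (x : G)⁻¹ * y ∈ Z := fun x y => by
    simp only [q, Additive.ofMul.injective.eq_iff, QuotientGroup.mk'_apply, QuotientGroup.eq]
    rfl
  have q_zero : ∀ x, q x = 0 ↔ (x : G) ∈ Z := fun x => by
    rw [← show q 1 = 0 by simp [q], eq_comm, q_eq, Subgroup.coe_one, inv_one, one_mul]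
  have hV : Nat.card (Additive (Q ⧸ N)) = 81 := by
    rw [Nat.card_congr Additive.toMul]
    have h := Subgroup.card_eq_card_quotient_mul_card_subgroup N
    rw [Nat.card_congr (subgroupOfEquivOfLe hZQ').toEquiv, hZcard, hQcard] at h
    omega
  -- the action
  let cQ : ∀ a : G, a ∈ K → Q → Q := fun a ha x =>
    ⟨a * x * a⁻¹, (mem_normalizer_iff.1 (hQnK ha) x).1 x.2⟩
  have hKZ : ∀ a ∈ K, ∀ y ∈ Z, a * y * a⁻¹ = y := fun a ha y hy => by
    rw [mul_inv_eq_iff_eq_mul]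
    exact ((mem_centralizer_iff.1 (hCZ ▸ ha : a ∈ centralizer (Z : Set G))) y hy).symm
  have cQ_wd : ∀ a (ha : a ∈ K) x y, q x = q y → q (cQ a ha x) = q (cQ a ha y) := by
    intro a ha x y h
    rw [q_eq] at h ⊢
    have := hKZ a ha _ h
    convert h using 1
    conv_rhs => rw [← this]
    show (a * (x : G) * a⁻¹)⁻¹ * (a * y * a⁻¹) = _
    group
  choose σ hσ using q_surj
  let L : ∀ a : G, a ∈ K → Module.End (ZMod 3) (Additive (Q ⧸ N)) := fun a ha =>
    AddMonoidHom.toZModLinearMap 3 (AddMonoidHom.mk' (fun v => q (cQ a ha (σ v))) fun v w => by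
      rw [← q_mul, cQ_wd a ha _ (σ v * σ w) (by rw [q_mul, hσ, hσ, hσ])]
      congr 1
      exact Subtype.ext (by simp only [cQ, Subgroup.coe_mul]; group))
  have hL : ∀ a (ha : a ∈ K) x, L a ha (q x) = q (cQ a ha x) := fun a ha x =>
    cQ_wd a ha _ _ (hσ _)
  have L_mul : ∀ a (ha : a ∈ K) b (hb : b ∈ K) (hab : a * b ∈ K), L (a * b) hab = L a ha * L b hb := by
    intro a ha b hb hab
    refine LinearMap.ext fun v => ?_
    rw [← hσ v, Module.End.mul_apply, hL _ hab, hL _ hb, hL _ ha]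
    congr 1
    exact Subtype.ext (by simp only [cQ]; group)
  have L_Q : ∀ a (ha : a ∈ K), a ∈ Q → L a ha = 1 := by
    intro a ha haQ
    refine LinearMap.ext fun v => ?_
    rw [← hσ v, hL _ ha, Module.End.one_apply, q_eq]
    have := hcommZ a haQ (σ v)⁻¹ (inv_mem (σ v).2)
    convert this using 1
    simp only [cQ, Subgroup.coe_inv]; group
  choose lift hliftK hlift using ρ_surj
  have hind : ∀ a (ha : a ∈ K) g, ρ a = g → L a ha = L (lift g) (hliftK g) := by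
    intro a ha g hg
    have hmem : (lift g)⁻¹ * a ∈ Q := by
      rw [← ρ_ker _ (mul_mem (inv_mem (hliftK g)) ha), ρ_mul _ (inv_mem (hliftK g)) _ ha, hg]
      have e1 := ρ_mul _ (inv_mem (hliftK g)) _ (hliftK g)
      rw [inv_mul_cancel, (ρ_ker 1 (one_mem K)).2 (one_mem Q), hlift] at e1
      exact e1.symm
    have e : L a ha = L (lift g * ((lift g)⁻¹ * a))
        (mul_mem (hliftK g) (mul_mem (inv_mem (hliftK g)) ha)) := by simp
    rw [e, L_mul _ (hliftK g) _ (mul_mem (inv_mem (hliftK g)) ha)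
      (mul_mem (hliftK g) (mul_mem (inv_mem (hliftK g)) ha)), L_Q _ (mul_mem (inv_mem (hliftK g)) ha) hmem, mul_one]
  let ρV : SS →* Module.End (ZMod 3) (Additive (Q ⧸ N)) :=
    { toFun := fun g => L (lift g) (hliftK g)
      map_one' := (hind 1 (one_mem K) 1 ((ρ_ker 1 (one_mem K)).2 (one_mem Q))).symm.trans
        (L_Q 1 (one_mem K) (one_mem Q))
      map_mul' := fun g h =>
        (hind (lift g * lift h) (mul_mem (hliftK g) (hliftK h)) (g * h)
          (by rw [ρ_mul _ (hliftK g) _ (hliftK h), hlift, hlift])).symm.trans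
          (L_mul _ (hliftK g) _ (hliftK h) (mul_mem (hliftK g) (hliftK h))) }
  have hρV : ∀ a (ha : a ∈ K) x, ρV (ρ a) (q x) = q (cQ a ha x) := fun a ha x => by
    exact (LinearMap.congr_fun (hind a ha (ρ a) rfl) (q x)).symm.trans (hL a ha x)
  -- the chain
  have hAle : ∀ i, Z ≤ A i ∧ A i ≤ Q := by
    have hm : Monotone A := Fin.monotone_iff_le_succ.2 fun i => (hmono i).le
    exact fun i => ⟨hA0 ▸ hm (Fin.zero_le i), hAr ▸ hm (Fin.le_last i)⟩
  let W : Fin (r + 1) → Submodule (ZMod 3) (Additive (Q ⧸ N)) := fun i =>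
    AddSubgroup.toZModSubmodule 3
      { carrier := {v | ∃ x : Q, (x : G) ∈ A i ∧ q x = v}
        zero_mem' := ⟨1, one_mem _, (q_zero 1).2 (one_mem Z)⟩
        add_mem' := by
          rintro _ _ ⟨x, hx, rfl⟩ ⟨y, hy, rfl⟩
          exact ⟨x * y, mul_mem hx hy, q_mul x y⟩
        neg_mem' := by
          rintro _ ⟨x, hx, rfl⟩
          refine ⟨x⁻¹, inv_mem hx, eq_neg_of_add_eq_zero_left ?_⟩
          rw [← q_mul, inv_mul_cancel]; exact (q_zero 1).2 (one_mem Z) }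
  have hW : ∀ i v, v ∈ W i ↔ ∃ x : Q, (x : G) ∈ A i ∧ q x = v := fun i v => Iff.rfl
  have hWmem : ∀ i (x : Q), q x ∈ W i ↔ (x : G) ∈ A i := fun i x => by
    refine ⟨fun ⟨y, hy, hyx⟩ => ?_, fun h => ⟨x, h, rfl⟩⟩
    have := (hAle i).1 ((q_eq _ _).1 hyx)
    simpa using mul_mem hy this
  have hsz : ρV sz = -1 := by
    refine sz_neg hV ρV r W ?_ ?_ ?_ ?_ ?_ ?_
    · refine eq_bot_iff.2 ?_
      rintro v ⟨x, hx, rfl⟩
      exact (Submodule.mem_bot (ZMod 3)).2 ((q_zero x).2 (hA0 ▸ hx))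
    · refine eq_top_iff.2 fun v _ => ?_
      rw [← hσ v, hWmem, hAr]
      exact (σ v).2
    · intro i
      refine lt_of_le_of_ne (fun v hv => ?_) fun h => (hmono i).not_ge fun x hx => ?_
      · obtain ⟨x, hx, rfl⟩ := (hW _ _).1 hv
        exact (hWmem _ x).2 ((hmono i).le hx)
      · have h1 := (hWmem i.succ ⟨x, (hAle _).2 hx⟩).2 hx
        rw [← h, hWmem] at h1
        exact h1
    · intro i g v hv
      obtain ⟨x, hx, rfl⟩ := (hW _ _).1 hv
      rw [← hlift g, hρV _ (hliftK g), hWmem]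
      exact hinv i _ (hliftK g) _ hx
    · intro i B h1 h2
      let B' : Subgroup G :=
        { carrier := {x | ∃ hx : x ∈ Q, q ⟨x, hx⟩ ∈ B}
          one_mem' := ⟨one_mem Q, by rw [show q ⟨1, one_mem Q⟩ = 0 from (q_zero _).2 (one_mem Z)]; exact zero_mem B⟩
          mul_mem' := by
            rintro a b ⟨ha, ha'⟩ ⟨hb, hb'⟩
            exact ⟨mul_mem ha hb, by rw [show (⟨a * b, mul_mem ha hb⟩ : Q) = ⟨a, ha⟩ * ⟨b, hb⟩ from rfl, q_mul]; exact add_mem ha' hb'⟩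
          inv_mem' := by
            rintro a ⟨ha, ha'⟩
            refine ⟨inv_mem ha, ?_⟩
            have e : q ⟨a⁻¹, inv_mem ha⟩ = -q ⟨a, ha⟩ := eq_neg_of_add_eq_zero_left (by
              rw [← q_mul]; exact (q_zero _).2 (by simp))
            rw [e]; exact neg_mem ha' }
      have hB1 : A i.castSucc < B' := by
        refine lt_of_le_of_ne (fun x hx => ⟨(hAle _).2 hx, h1.le ((hWmem _ _).2 hx)⟩) fun h => h1.not_ge fun v hv => ?_
        rw [← hσ v, hWmem, h]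
        exact ⟨(σ v).2, by rw [hσ]; exact hv⟩
      have hB2 : B' < A i.succ := by
        refine lt_of_le_of_ne (fun x ⟨hx, hx'⟩ => (hWmem _ ⟨x, hx⟩).1 (h2.le hx')) fun h => h2.not_ge fun v hv => ?_
        obtain ⟨x, hx, rfl⟩ := (hW _ _).1 hv
        rw [← h] at hx
        exact hx.2
      obtain ⟨k, hk, b, ⟨hb, hb'⟩, hkb⟩ := hmax i B' hB1 hB2
      refine ⟨ρ k, q ⟨b, hb⟩, hb', fun h => hkb ?_⟩
      rw [hρV k hk] at h
      exact ⟨_, h⟩
    · obtain ⟨i, j, hij, ⟨k, hk, a, ha, hka⟩, k', hk', a', ha', hka'⟩ := htwo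
      refine ⟨i, j, hij, ⟨ρ k, q ⟨a, (hAle _).2 ha⟩, (hWmem _ _).2 ha, fun h => hka ?_⟩,
        ρ k', q ⟨a', (hAle _).2 ha'⟩, (hWmem _ _).2 ha', fun h => hka' ?_⟩
      · have e : q (cQ k hk ⟨a, (hAle _).2 ha⟩ * (⟨a, (hAle _).2 ha⟩ : Q)⁻¹) =
            q (cQ k hk ⟨a, (hAle _).2 ha⟩) - q ⟨a, (hAle _).2 ha⟩ := by
          rw [eq_sub_iff_add_eq, ← q_mul, inv_mul_cancel_right]
        rw [hρV k hk, ← e, hWmem] at h
        exact h
      · have e : q (cQ k' hk' ⟨a', (hAle _).2 ha'⟩ * (⟨a', (hAle _).2 ha'⟩ : Q)⁻¹) =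
            q (cQ k' hk' ⟨a', (hAle _).2 ha'⟩) - q ⟨a', (hAle _).2 ha'⟩ := by
          rw [eq_sub_iff_add_eq, ← q_mul, inv_mul_cancel_right]
        rw [hρV k' hk', ← e, hWmem] at h
        exact h
  -- the form
  have hpow : ∀ y ∈ Z, ∃! k : ZMod 3, z ^ k.val = y := by
    intro y hy
    have hord : orderOf z = 3 := by rw [← Nat.card_zpowers, hzp, hZcard]
    rw [← hzp, mem_zpowers_iff_mem_range_orderOf, Finset.mem_image] at hy
    obtain ⟨n, hn, rfl⟩ := hy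
    rw [Finset.mem_range, hord] at hn
    refine ⟨(n : ZMod 3), by show z ^ (n : ZMod 3).val = z ^ n; rw [ZMod.val_natCast, Nat.mod_eq_of_lt hn],
      fun k hk => ?_⟩
    have h1 := pow_inj_mod.1 hk
    rw [hord, Nat.mod_eq_of_lt (ZMod.val_lt k), Nat.mod_eq_of_lt hn] at h1
    rw [← h1, ZMod.natCast_zmod_val]
  let cm : Q → Q → ZMod 3 := fun x y => (hpow _ (hcommZ x x.2 y y.2)).choose
  have hcm : ∀ x y : Q, z ^ (cm x y).val = (x : G) * y * (x : G)⁻¹ * (y : G)⁻¹ := fun x y =>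
    (hpow _ (hcommZ x x.2 y y.2)).choose_spec.1
  have hzadd : ∀ a b : ZMod 3, z ^ (a + b).val = z ^ a.val * z ^ b.val := fun a b => by
    rw [← pow_add, pow_inj_mod, show orderOf z = 3 by rw [← Nat.card_zpowers, hzp, hZcard],
      ZMod.val_add, Nat.mod_mod]
  have hzinj : ∀ a b : ZMod 3, z ^ a.val = z ^ b.val → a = b := fun a b h =>
    (hpow _ (pow_mem hz a.val)).unique rfl h.symm
  have hcommC : ∀ (u : G), u ∈ Z → ∀ x ∈ Q, x * u * x⁻¹ = u := fun u hu x hx => by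
    rw [hZcen u hu x hx, mul_inv_cancel_right]
  have cm_l : ∀ x y w, cm (x * y) w = cm x w + cm y w := by
    intro x y w
    refine hzinj _ _ ?_
    rw [hzadd, hcm, hcm, hcm, Subgroup.coe_mul]
    have h1 := hcommC _ (hcommZ _ y.2 _ w.2) x x.2
    calc (x : G) * y * w * ((x : G) * y)⁻¹ * (w : G)⁻¹
        = (x * ((y : G) * w * (y : G)⁻¹ * (w : G)⁻¹) * (x : G)⁻¹) * ((x : G) * w * (x : G)⁻¹ * (w : G)⁻¹) := by group
      _ = ((y : G) * w * (y : G)⁻¹ * (w : G)⁻¹) * ((x : G) * w * (x : G)⁻¹ * (w : G)⁻¹) := by rw [h1]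
      _ = _ := (hZcen _ (hcommZ _ x.2 _ w.2) _ (hZQ' (hcommZ _ y.2 _ w.2)))
  have cm_r : ∀ w x y, cm w (x * y) = cm w x + cm w y := by
    intro w x y
    refine hzinj _ _ ?_
    rw [hzadd, hcm, hcm, hcm, Subgroup.coe_mul]
    have h1 := hcommC _ (hcommZ _ w.2 _ y.2) x x.2
    calc (w : G) * (x * y) * (w : G)⁻¹ * ((x : G) * y)⁻¹
        = ((w : G) * x * (w : G)⁻¹ * (x : G)⁻¹) * (x * ((w : G) * y * (w : G)⁻¹ * (y : G)⁻¹) * (x : G)⁻¹) := by group
      _ = _ := by rw [h1]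
  have cm_Z : ∀ x y : Q, (x : G) ∈ Z → cm x y = 0 ∧ cm y x = 0 := by
    intro x y hx
    constructor <;> refine hzinj _ _ ?_ <;> rw [hcm, ZMod.val_zero, pow_zero]
    · rw [(hZcen _ hx y y.2).symm, mul_inv_cancel_right, mul_inv_cancel]
    · rw [hZcen _ hx y y.2, mul_inv_cancel_right, mul_inv_cancel]
  have cm_wd : ∀ x x' y y', q x = q x' → q y = q y' → cm x y = cm x' y' := by
    intro x x' y y' hx hy
    have e1 : x' = x * (x⁻¹ * x') := by group
    have e2 : y' = y * (y⁻¹ * y') := by group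
    rw [e1, e2, cm_l, cm_r, (cm_Z (x⁻¹ * x') _ (by simpa using (q_eq x x').1 hx)).1,
      (cm_Z (y⁻¹ * y') x (by simpa using (q_eq y y').1 hy)).2, add_zero, add_zero]
  let b : Additive (Q ⧸ N) → Additive (Q ⧸ N) → ZMod 3 := fun v w => cm (σ v) (σ w)
  have hb : ∀ x y, b (q x) (q y) = cm x y := fun x y => cm_wd _ _ _ _ (hσ _) (hσ _)
  obtain ⟨f, B, hBs, hBd, hfa, hfb⟩ := exists_tensor hV ρV hsz b
    (fun u v w => by rw [← hσ u, ← hσ v, ← hσ w, ← q_mul, hb, hb, hb, cm_l])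
    (fun u v w => by rw [← hσ u, ← hσ v, ← hσ w, ← q_mul, hb, hb, hb, cm_r])
    (fun v => hzinj _ _ (by rw [hcm, ZMod.val_zero, pow_zero]; group))
    (fun v hv => by
      rw [← hσ v, q_zero, hZeq]
      refine ⟨σ v, mem_center_iff.2 fun w => Subtype.ext ?_, rfl⟩
      have h1 := hv (q w)
      rw [← hσ v, hb] at h1
      have h2 := hcm (σ v) w
      rw [h1, ZMod.val_zero, pow_zero] at h2
      exact (mul_inv_eq_iff_eq_mul.1 (mul_inv_eq_one.1 h2.symm)).symm)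
    (fun g v w => by
      rw [← hσ v, ← hσ w, ← hlift g, hρV _ (hliftK g), hρV _ (hliftK g), hb, hb]
      refine hzinj _ _ ?_
      rw [hcm, hcm]
      conv_rhs => rw [← hKZ _ (hliftK g) _ (hcommZ _ (σ v).2 _ (σ w).2)]
      simp only [cQ]; group)
  let π : G → W4 := fun x => if h : x ∈ Q then f (q ⟨x, h⟩) else 0
  have hπ : ∀ x (h : x ∈ Q), π x = f (q ⟨x, h⟩) := fun x h => dif_pos h
  refine ⟨
    { z := z, Q := Q, π := π, ρ := ρ, B := B, z_ne := hz1, z_cube := hz3, z_mem := hZQ' hz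
      Q_le := hK' ▸ hQK, Q_normal := hK' ▸ hQnK
      exp := fun x hx => by rw [← pow_two, ← pow_succ]; exact hQexp x hx
      π_mul := fun x hx y hy => by rw [hπ x hx, hπ y hy, hπ _ (mul_mem hx hy), ← map_add, ← q_mul]; rfl
      π_ker := fun x hx => by rw [hπ x hx, map_eq_zero_iff f f.injective, q_zero, hzp]
      π_surj := fun v => ⟨σ (f.symm v), (σ _).2, by rw [hπ _ (σ _).2, Subtype.coe_eta, hσ, f.apply_symm_apply]⟩
      ρ_mul := hK'.symm ▸ ρ_mul
      ρ_ker := hK'.symm ▸ ρ_ker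
      ρ_surj := fun g => ⟨lift g, hK'.symm ▸ hliftK g, hlift g⟩
      conj := fun a ha x hx => by
        have ha' : a ∈ K := hK' ▸ ha
        rw [hπ x hx, ← hfa, hρV a ha', hπ _ ((mem_normalizer_iff.1 (hQnK ha') x).1 hx)]
      B_sym := hBs, B_det := hBd
      comm := fun x hx y hy => by rw [hπ x hx, hπ y hy, ← hfb, hb, hcm]
      fused := ?_
      sylow := fun P hP => ?_ }, hzp, hK', rfl⟩
  · obtain ⟨g, hg1, hg2⟩ := hZQ
    refine ⟨g, hg1 ⟨z, hz, rfl⟩, fun h => hg2 ?_⟩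
    rw [← hzp, MonoidHom.map_zpowers]
    refine eq_of_le_of_card_ge (zpowers_le.2 h) ?_
    rw [hzp, hZcard, ← MonoidHom.map_zpowers, hzp,
      ← Nat.card_congr (Z.equivMapOfInjective _ (MulAut.conj g).injective).toEquiv, hZcard]
  · obtain ⟨S', hS'⟩ := hP.exists_le_sylow
    refine (card_le_of_le hS').trans ?_
    rw [Nat.card_congr (S'.equiv S).toEquiv]
    have hKcard : Nat.card K = 729 * 8 := by
      have h := Subgroup.card_eq_card_quotient_mul_card_subgroup (Cfsg.pCore 3 K)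
      rw [Nat.card_congr e.toEquiv, Nat.card_congr ((Cfsg.pCore 3 K).equivMapOfInjective _ K.subtype_injective).toEquiv,
        ← hQ, hQcard, Nat.card_eq_fintype_card (α := SS), show Fintype.card SS = 24 by decide +kernel] at h
      rw [h]; norm_num
    obtain ⟨n, hn⟩ := IsPGroup.iff_card.1 S.2
    rw [hn]
    have hd := card_dvd_of_le hSK
    rw [hn, hKcard] at hd
    have : 3 ^ n ∣ 729 := (Nat.Coprime.pow_left n (by norm_num)).dvd_of_dvd_mul_right hd
    exact Nat.le_of_dvd (by norm_num) this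

end CfsgLib.L43
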