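import Cfsg.Agent.GTwoThreeAmalgam.Model
import Cfsg.Agent.GTwoThreeAmalgam.GL

/-!
# A faithful four-dimensional module of `SL(2,3)` with an invariant form is a tensor product
-/

set_option autoImplicit false
set_option maxRecDepth 100000
set_option linter.style.haveILetI false
set_option linter.unusedSectionVars false

namespace CfsgLib.L43

open Matrix CfsgLib.G23Amalgam

/-- `SL(2,3)`. -/
abbrev SS := Matrix.SpecialLinearGroup (Fin 2) (ZMod 3)

/-- Coordinates of the four-dimensional module: two natural components. -/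
abbrev W4 := V2 × V2

/-- The determinant of two vectors. -/
def det2 (a b : V2) : ZMod 3 := a 0 * b 1 - a 1 * b 0

/-- The form `det ⊗ B`. -/
def form (B : M2) (v w : W4) : ZMod 3 :=
  B 0 0 * det2 v.1 w.1 + B 0 1 * det2 v.1 w.2 + B 1 0 * det2 v.2 w.1 + B 1 1 * det2 v.2 w.2

/-- The diagonal action. -/
def act (g : SS) (v : W4) : W4 := (g.1 *ᵥ v.1, g.1 *ᵥ v.2)

theorem act_one (v : W4) : act 1 v = v := by simp [act]

theorem act_mul (g h : SS) (v : W4) : act (g * h) v = act g (act h v) := by
  simp only [act, Matrix.SpecialLinearGroup.coe_mul, Matrix.mulVec_mulVec]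

theorem conj_rel : su * sw = sz * sx * su ∧ su * sx = sz * (sw * sx) * su ∧ sw * sw = sz ∧
    sx * sx = sz ∧ sx * sw = sz * (sw * sx) ∧ su ^ 3 = 1 := by decide +kernel

theorem orth_tables : (∀ B : M2, B.transpose = B → B.det ≠ 0 → ∀ T : M2,
    T * T * T = 1 → T.transpose * B * T = B → T = 1) := by decide +kernel

variable {V : Type*} [AddCommGroup V] [Module (ZMod 3) V]

theorem three_eq_zero : (3 : Module.End (ZMod 3) V) = 0 := by
  ext v
  rw [Module.End.ofNat_apply, LinearMap.zero_apply, ← Nat.cast_smul_eq_nsmul (ZMod 3),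
    show ((3 : ℕ) : ZMod 3) = 0 from rfl, zero_smul]

section Algebra

variable (ρ : SS →* Module.End (ZMod 3) V) (hz : ρ sz = -1)

/-- The image of `w`. -/
abbrev opI : Module.End (ZMod 3) V := ρ sw
/-- The image of `x`. -/
abbrev opJ : Module.End (ZMod 3) V := ρ sx
/-- The projection to the first natural coordinate. -/
def opE : Module.End (ZMod 3) V := -1 + opJ ρ + opI ρ * opJ ρ
/-- The image of `u` inside the algebra of `w` and `x`, inverted. -/
def opW : Module.End (ZMod 3) V := 1 + opI ρ - opJ ρ + opI ρ * opJ ρ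

include hz

theorem relII : opI ρ * opI ρ = -1 := by rw [← map_mul, conj_rel.2.2.1, hz]

theorem relJJ : opJ ρ * opJ ρ = -1 := by rw [← map_mul, conj_rel.2.2.2.1, hz]

theorem relJI : opJ ρ * opI ρ = -(opI ρ * opJ ρ) := by
  rw [← map_mul, conj_rel.2.2.2.2.1, map_mul, hz, map_mul, neg_one_mul]

theorem relUI : ρ su * opI ρ = -(opJ ρ * ρ su) := by
  rw [← map_mul, conj_rel.1, map_mul, map_mul, hz]; noncomm_ring

theorem relUJ : ρ su * opJ ρ = -(opI ρ * opJ ρ * ρ su) := by
  rw [← map_mul, conj_rel.2.1, map_mul, map_mul, map_mul, hz]; noncomm_ring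

theorem relKJ : opI ρ * opJ ρ * opJ ρ = -opI ρ := by
  rw [mul_assoc, relJJ ρ hz, mul_neg_one]

theorem relKI : opI ρ * opJ ρ * opI ρ = opJ ρ := by
  rw [mul_assoc, relJI ρ hz, mul_neg, ← mul_assoc, relII ρ hz]; noncomm_ring

theorem relIK : opI ρ * (opI ρ * opJ ρ) = -opJ ρ := by
  rw [← mul_assoc, relII ρ hz, neg_one_mul]

theorem relJK : opJ ρ * (opI ρ * opJ ρ) = opI ρ := by
  rw [← mul_assoc, relJI ρ hz, neg_mul, relKJ ρ hz, neg_neg]

theorem relKK : opI ρ * opJ ρ * (opI ρ * opJ ρ) = -1 := by
  rw [← mul_assoc, relKI ρ hz, relJJ ρ hz]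

theorem E_idem : opE ρ * opE ρ = opE ρ := by
  simp only [opE, add_mul, mul_add, neg_mul, mul_neg, one_mul, mul_one, neg_neg]
  rw [relJJ ρ hz, relJK ρ hz, relKJ ρ hz, relKK ρ hz]
  linear_combination (norm := noncomm_ring)
    (-(opJ ρ + opI ρ * opJ ρ)) * (three_eq_zero (V := V))

theorem EJ : opE ρ * opJ ρ = opE ρ + opE ρ * opI ρ := by
  simp only [opE, add_mul, neg_mul, one_mul]
  rw [relJJ ρ hz, relKJ ρ hz, relKI ρ hz, relJI ρ hz]
  linear_combination (norm := noncomm_ring) (-(opJ ρ)) * (three_eq_zero (V := V))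

theorem EIJ : opE ρ * (opI ρ * opJ ρ) = opE ρ - opE ρ * opI ρ := by
  simp only [opE, add_mul, neg_mul, one_mul]
  rw [relJK ρ hz, relKK ρ hz, relKI ρ hz, relJI ρ hz]
  linear_combination (norm := noncomm_ring) (-(opI ρ * opJ ρ)) * (three_eq_zero (V := V))

theorem E_I_E : opE ρ * opI ρ * opE ρ = 0 := by
  simp only [opE, add_mul, mul_add, neg_mul, mul_neg, one_mul, mul_one, neg_neg, neg_add]
  rw [relKI ρ hz, relJI ρ hz, relIK ρ hz]
  simp only [neg_mul, mul_neg, neg_neg]
  rw [relKJ ρ hz, relKK ρ hz, relJJ ρ hz, relJK ρ hz]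
  linear_combination (norm := noncomm_ring) (opI ρ) * (three_eq_zero (V := V))

theorem E_decomp : opE ρ - opI ρ * opE ρ * opI ρ = 1 := by
  simp only [opE, add_mul, mul_add, neg_mul, mul_neg, one_mul, mul_one, neg_neg]
  rw [relIK ρ hz, relII ρ hz, relKI ρ hz, neg_mul, relJI ρ hz]
  linear_combination (norm := noncomm_ring) (-1 : Module.End (ZMod 3) V) * (three_eq_zero (V := V))

/-- The commutant part of `u`. -/
theorem T_comm : opW ρ * ρ su * opI ρ = opI ρ * (opW ρ * ρ su) ∧
    opW ρ * ρ su * opJ ρ = opJ ρ * (opW ρ * ρ su) := by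
  have h1 : opW ρ * -opJ ρ = opI ρ * opW ρ := by
    simp only [opW, add_mul, sub_mul, mul_add, mul_sub, one_mul, mul_one, mul_neg]
    rw [relJJ ρ hz, relKJ ρ hz, relII ρ hz, relIK ρ hz]
    noncomm_ring
  have h2 : opW ρ * -(opI ρ * opJ ρ) = opJ ρ * opW ρ := by
    simp only [opW, add_mul, sub_mul, mul_add, mul_sub, one_mul, mul_one, mul_neg]
    rw [relJK ρ hz, relKK ρ hz, relJJ ρ hz, relIK ρ hz, relJI ρ hz]
    noncomm_ring
  constructor
  · rw [mul_assoc, relUI ρ hz, ← mul_assoc (opI ρ), ← h1]; noncomm_ring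
  · rw [mul_assoc, relUJ ρ hz, ← mul_assoc (opJ ρ), ← h2]; noncomm_ring

theorem W_inv : (1 - opI ρ + opJ ρ - opI ρ * opJ ρ) * opW ρ = 1 := by
  simp only [opW, add_mul, sub_mul, mul_add, mul_sub, one_mul, mul_one]
  rw [relII ρ hz, relJI ρ hz, relJJ ρ hz, relKI ρ hz, relKJ ρ hz, relIK ρ hz, relJK ρ hz, relKK ρ hz]
  linear_combination (norm := noncomm_ring) (1 : Module.End (ZMod 3) V) * (three_eq_zero (V := V))

end Algebra

theorem gen_SS (g : SS) : g ∈ Subgroup.closure ({sw, sx, su} : Set SS) := by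
  obtain ⟨a, b, c, d, rfl⟩ := ss_word g
  have hu : su ∈ Subgroup.closure ({sw, sx, su} : Set SS) := Subgroup.subset_closure (by simp)
  have hw : sw ∈ Subgroup.closure ({sw, sx, su} : Set SS) := Subgroup.subset_closure (by simp)
  have hv : sv ∈ Subgroup.closure ({sw, sx, su} : Set SS) := by
    rw [show sv = sw * su⁻¹ * sw⁻¹ by decide +kernel]
    exact mul_mem (mul_mem hw (inv_mem hu)) (inv_mem hw)
  exact mul_mem (mul_mem (mul_mem (pow_mem hu _) (pow_mem hv _)) (pow_mem hu _)) (pow_mem hv _)

theorem gen_act : (∀ v : V2, sw.1 *ᵥ v = ![v 1, -v 0]) ∧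
    (∀ v : V2, sx.1 *ᵥ v = ![v 0 + v 1, v 0 - v 1]) ∧
    (∀ v : V2, su.1 *ᵥ v = ![v 0 + v 1, v 1]) := by decide +kernel

set_option maxHeartbeats 3000000 in
/-- The module is a sum of two natural modules with form `det ⊗ B`. -/
theorem exists_tensor [Finite V] (hV : Nat.card V = 81) (ρ : SS →* Module.End (ZMod 3) V)
    (hz : ρ sz = -1) (b : V → V → ZMod 3) (badd : ∀ u v w, b (u + v) w = b u w + b v w)
    (badd' : ∀ u v w, b u (v + w) = b u v + b u w)
    (balt : ∀ v, b v v = 0) (bnd : ∀ v, (∀ w, b v w = 0) → v = 0)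
    (binv : ∀ g v w, b (ρ g v) (ρ g w) = b v w) :
    ∃ (e : V ≃ₗ[ZMod 3] W4) (B : M2), B.transpose = B ∧ B.det ≠ 0 ∧
      (∀ g v, e (ρ g v) = act g (e v)) ∧ ∀ v w, b v w = form B (e v) (e w) := by
  classical
  haveI : Fact (Nat.Prime 3) := ⟨Nat.prime_three⟩
  -- bilinearity
  let b1 : V → V →+ ZMod 3 := fun u => AddMonoidHom.mk' (fun w => b u w) (badd' u)
  let b2 : V → V →+ ZMod 3 := fun w => AddMonoidHom.mk' (fun u => b u w) fun u v => badd u v w
  have bnegR : ∀ u w, b u (-w) = -b u w := fun u w => map_neg (b1 u) w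
  have bnegL : ∀ u w, b (-u) w = -b u w := fun u w => map_neg (b2 w) u
  have bskew : ∀ u w, b w u = -b u w := fun u w => by
    have h := balt (u + w)
    rw [badd, badd', badd', balt, balt, zero_add, add_zero] at h
    linear_combination h
  have bsmulR : ∀ (c : ZMod 3) u w, b u (c • w) = c * b u w := fun c u w =>
    map_smul ((b1 u).toZModLinearMap 3) c w
  have bsmulL : ∀ (c : ZMod 3) u w, b (c • u) w = c * b u w := fun c u w =>
    map_smul ((b2 w).toZModLinearMap 3) c u
  set I := opI ρ with hIdef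
  set J := opJ ρ with hJdef
  set E := opE ρ with hEdef
  have hI : ∀ v, I (I v) = -v := fun v => by
    have := congrArg (fun f : Module.End (ZMod 3) V => f v) (relII ρ hz); simpa using this
  have adj : ∀ g : SS, g * g = sz → ∀ v w, b (ρ g v) w = -b v (ρ g w) := by
    intro g hg v w
    have e : ρ g (ρ g v) = -v := by
      rw [← Module.End.mul_apply, ← map_mul, hg, hz]; rfl
    rw [← binv g (ρ g v) w, e, bnegL]
  have adjI := adj sw conj_rel.2.2.1
  have adjJ := adj sx conj_rel.2.2.2.1
  have adjK : ∀ v w, b ((I * J) v) w = -b v ((I * J) w) := by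
    have hk : (sw * sx) * (sw * sx) = sz := by decide +kernel
    intro v w
    have := adj (sw * sx) hk v w
    rw [map_mul] at this
    exact this
  -- the summand
  set Y := LinearMap.range E with hYdef
  have hfix : ∀ y ∈ Y, E y = y := by
    rintro _ ⟨v, rfl⟩
    exact congrArg (fun f : Module.End (ZMod 3) V => f v) (E_idem ρ hz)
  have hdec : ∀ v, E v - I (E (I v)) = v := fun v =>
    congrArg (fun f : Module.End (ZMod 3) V => f v) (E_decomp ρ hz)
  have hEIE : ∀ v, E (I (E v)) = 0 := fun v =>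
    congrArg (fun f : Module.End (ZMod 3) V => f v) (E_I_E ρ hz)
  let sp : V →ₗ[ZMod 3] Y × Y :=
    (LinearMap.rangeRestrict E).prod ((LinearMap.rangeRestrict E).comp I)
  have hsp : Function.Bijective sp := by
    constructor
    · intro v w h
      have h1 : E v = E w := congrArg (fun p : Y × Y => (p.1 : V)) h
      have h2 : E (I v) = E (I w) := congrArg (fun p : Y × Y => (p.2 : V)) h
      rw [← hdec v, ← hdec w, h1, h2]
    · rintro ⟨⟨_, x, rfl⟩, ⟨_, y, rfl⟩⟩
      have hx : E (E x) = E x := hfix _ ⟨x, rfl⟩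
      have hy : E (E y) = E y := hfix _ ⟨y, rfl⟩
      refine ⟨E x - I (E y), Prod.ext (Subtype.ext ?_) (Subtype.ext ?_)⟩
      · show E (E x - I (E y)) = E x
        rw [map_sub, hx, hEIE, sub_zero]
      · show E (I (E x - I (E y))) = E y
        rw [map_sub, hI, map_sub, hEIE, map_neg, hy, zero_sub, neg_neg]
  have hY : Nat.card Y = 9 := by
    have := Nat.card_congr (Equiv.ofBijective sp hsp)
    rw [hV, Nat.card_prod] at this
    nlinarith [this]
  have hr : Module.finrank (ZMod 3) Y = 2 := by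
    have h := Module.natCard_eq_pow_finrank (K := ZMod 3) (V := Y)
    rw [Nat.card_zmod, hY] at h
    exact (Nat.pow_right_injective (le_refl 2 |>.trans (by norm_num) : 2 ≤ 3)
      (h.symm.trans (by norm_num : (9 : ℕ) = 3 ^ 2)))
  let cY : Y ≃ₗ[ZMod 3] V2 := (Module.finBasisOfFinrankEq (ZMod 3) _ hr).equivFun
  let x0 : V →ₗ[ZMod 3] V2 := cY.toLinearMap.comp (LinearMap.rangeRestrict E)
  let f : V →ₗ[ZMod 3] W4 :=
    { toFun := fun v => (![x0 v 0, x0 (I v) 0], ![x0 v 1, x0 (I v) 1])
      map_add' := fun v w => by ext i <;> fin_cases i <;> simp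
      map_smul' := fun c v => by ext i <;> fin_cases i <;> simp }
  have hf : Function.Bijective f := by
    have hinj : Function.Injective f := by
      intro v w h
      refine hsp.1 (Prod.ext (cY.injective (funext fun i => ?_)) (cY.injective (funext fun i => ?_)))
      · fin_cases i
        · exact congrFun (congrArg Prod.fst h) 0
        · exact congrFun (congrArg Prod.snd h) 0
      · fin_cases i
        · exact congrFun (congrArg Prod.fst h) 1
        · exact congrFun (congrArg Prod.snd h) 1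
    exact hinj.bijective_of_nat_card_le (le_of_eq (by
      rw [hV, Nat.card_prod, Nat.card_fun, Nat.card_zmod]; simp))
  let e := LinearEquiv.ofBijective f hf
  have he : ∀ v, e v = (![x0 v 0, x0 (I v) 0], ![x0 v 1, x0 (I v) 1]) := fun v => rfl
  have x0I : ∀ v, x0 (I (I v)) = -x0 v := fun v => by rw [hI, map_neg]
  have x0J : ∀ v, x0 (J v) = x0 v + x0 (I v) := fun v => by
    have h : E (J v) = E v + E (I v) := congrArg (fun f : Module.End (ZMod 3) V => f v) (EJ ρ hz)
    rw [← map_add]
    show cY _ = cY _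
    refine congrArg cY (Subtype.ext ?_)
    simp only [map_add]
    exact h
  have x0K : ∀ v, x0 (I (J v)) = x0 v - x0 (I v) := fun v => by
    have h : E (I (J v)) = E v - E (I v) := congrArg (fun f : Module.End (ZMod 3) V => f v) (EIJ ρ hz)
    rw [← map_sub]
    show cY _ = cY _
    refine congrArg cY (Subtype.ext ?_)
    simp only [map_sub]
    exact h
  -- the form on the summand
  let bY : Y → Y → ZMod 3 := fun p q => b (p : V) (-(I (q : V)))
  have hsym : ∀ p q, bY p q = bY q p := fun p q => by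
    show b (p : V) (-(I (q : V))) = b (q : V) (-(I (p : V)))
    rw [bnegR, bnegR, bskew (I (p : V)), adjI]
    ring
  have adjE : ∀ p q : Y, b (p : V) (q : V) = 0 := by
    intro p q
    rw [← hfix _ p.2]
    have e1 : ∀ v w, b (E v) w = b v ((-1 - J - I * J) w) := fun v w => by
      simp only [hEdef, opE, LinearMap.add_apply, LinearMap.sub_apply, LinearMap.neg_apply,
        Module.End.one_apply, sub_eq_add_neg, badd, badd', bnegL, bnegR, ← hIdef, ← hJdef]
      rw [show b (J v) w = -b v (J w) from adjJ v w, adjK v w]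
    have e2 : (-1 - J - I * J) * E = 0 := by
      rw [show (-1 - J - I * J : Module.End (ZMod 3) V) = -1 - (J + I * J) by abel,
        show J + I * J = E + 1 by simp only [hEdef, opE, ← hIdef, ← hJdef]; abel]
      rw [show (-1 - (E + 1)) * E = -(2 * E) - E * E by noncomm_ring, E_idem ρ hz,
        show (2 : Module.End (ZMod 3) V) = -1 from eq_neg_of_add_eq_zero_left (by rw [show (2 : Module.End (ZMod 3) V) + 1 = 3 by norm_num]; exact three_eq_zero), neg_one_mul, neg_neg, ← hEdef, sub_self]
    rw [e1, ← hfix _ q.2]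
    have := congrArg (fun f : Module.End (ZMod 3) V => f (q : V)) e2
    rw [Module.End.mul_apply] at this
    rw [this]
    simp only [LinearMap.zero_apply]
    exact map_zero (b1 (p : V))
  let st : Fin 2 → V2 := fun i => Pi.single i 1
  let B : M2 := fun i j => bY (cY.symm (st i)) (cY.symm (st j))
  have hBY : ∀ p q, bY p q = B 0 0 * (cY p 0 * cY q 0) + B 0 1 * (cY p 0 * cY q 1) +
      B 1 0 * (cY p 1 * cY q 0) + B 1 1 * (cY p 1 * cY q 1) := by
    intro p q
    have hd : ∀ r : Y, r = cY r 0 • cY.symm (st 0) + cY r 1 • cY.symm (st 1) := fun r => cY.injective (by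
      rw [map_add, map_smul, map_smul, cY.apply_symm_apply, cY.apply_symm_apply]
      ext i; fin_cases i <;> simp [st])
    conv_lhs => rw [hd p, hd q]
    simp only [bY, B, Submodule.coe_add, Submodule.coe_smul, map_add, map_smul, neg_add, badd,
      badd', bnegR, bsmulL, bsmulR]
    ring
  have hform : ∀ v w, b v w = form B (e v) (e w) := by
    intro v w
    have hbI : ∀ p q : Y, b (I (p : V)) (I (q : V)) = 0 := fun p q =>
      (binv sw _ _).trans (adjE p q)
    have h1 : b v w = bY ⟨E v, ⟨v, rfl⟩⟩ ⟨E (I w), ⟨_, rfl⟩⟩ -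
        bY ⟨E w, ⟨w, rfl⟩⟩ ⟨E (I v), ⟨_, rfl⟩⟩ := by
      conv_lhs => rw [← hdec v, ← hdec w]
      simp only [bY, sub_eq_add_neg, badd, badd', bnegL, bnegR]
      rw [adjE ⟨E v, ⟨v, rfl⟩⟩ ⟨E w, ⟨w, rfl⟩⟩, hbI ⟨E (I v), ⟨_, rfl⟩⟩ ⟨E (I w), ⟨_, rfl⟩⟩,
        bskew (E w) (I (E (I v)))]
      ring
    rw [h1, hBY, hBY, he, he]
    have hc : ∀ u, cY ⟨E u, ⟨u, rfl⟩⟩ = x0 u := fun u => rfl
    simp only [hc, form, det2, Matrix.cons_val_zero, Matrix.cons_val_one]
    rw [show B 1 0 = B 0 1 from hsym _ _]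
    ring
  have hBsym : B.transpose = B := by ext i j; exact hsym _ _
  have hBdet : B.det ≠ 0 := by
    intro h
    obtain ⟨c, hc, hcB⟩ := Matrix.exists_mulVec_eq_zero_iff.2 h
    refine hc ?_
    have h0 := congrFun hcB 0
    have h1 := congrFun hcB 1
    simp [Matrix.mulVec, dotProduct, Fin.sum_univ_two] at h0 h1
    have hb : B 1 0 = B 0 1 := congrFun (congrFun hBsym 0) 1
    have hr : (cY.symm c : V) = 0 := bnd _ fun w => by
      rw [hform, he, he]
      have e0 : x0 (cY.symm c : V) = c := by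
        show cY _ = c
        rw [show E.rangeRestrict (cY.symm c : V) = cY.symm c from Subtype.ext (hfix _ (cY.symm c).2),
          cY.apply_symm_apply]
      have e1 : x0 (I (cY.symm c : V)) = 0 := by
        show cY _ = 0
        rw [show E.rangeRestrict (I (cY.symm c : V)) = 0 from Subtype.ext (by
          show E (I (cY.symm c : V)) = 0
          rw [← hfix _ (cY.symm c).2, hEIE]), map_zero]
      simp only [form, det2, Matrix.cons_val_zero, Matrix.cons_val_one, e0, e1, Pi.zero_apply]
      linear_combination (x0 (I w) 0) * h0 + (x0 (I w) 1) * h1 + (c 1 * x0 (I w) 0 - c 0 * x0 (I w) 1) * hb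
    have := congrArg cY (Subtype.ext hr : cY.symm c = (0 : Y))
    rwa [cY.apply_symm_apply, map_zero] at this
  -- the action
  have hactI : ∀ v, e (ρ sw v) = act sw (e v) := fun v => by
    rw [act, gen_act.1, gen_act.1, he, he]
    simp only [Matrix.cons_val_zero, Matrix.cons_val_one, ← hIdef, x0I, Pi.neg_apply]
  have hactJ : ∀ v, e (ρ sx v) = act sx (e v) := fun v => by
    rw [act, gen_act.2.1, gen_act.2.1, he, he]
    simp only [Matrix.cons_val_zero, Matrix.cons_val_one, ← hJdef, x0J, x0K, Pi.add_apply, Pi.sub_apply]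
  -- the commutant part of `u` is trivial
  set Tu := opW ρ * ρ su with hTu
  obtain ⟨tI, tJ⟩ := T_comm ρ hz
  rw [← hTu, ← hIdef, ← hJdef] at *
  have tE : E * Tu = Tu * E := by
    simp only [hEdef, opE, ← hIdef, ← hJdef, add_mul, mul_add, neg_mul, mul_neg, one_mul, mul_one]
    rw [← tJ, mul_assoc I J Tu, ← tJ, ← mul_assoc I, ← tI, mul_assoc Tu I J]
  have hTY : ∀ p : Y, Tu (p : V) ∈ Y := fun p =>
    ⟨Tu (p : V), by
      rw [← Module.End.mul_apply, tE, Module.End.mul_apply, hfix _ p.2]⟩
  have x0T : ∀ v, x0 (Tu v) = LinearMap.toMatrix' (cY.toLinearMap.comp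
      ((Tu.restrict (p := Y) (q := Y) fun x hx => hTY ⟨x, hx⟩).comp cY.symm.toLinearMap)) *ᵥ x0 v := by
    intro v
    rw [← Matrix.toLin'_apply, Matrix.toLin'_toMatrix']
    show cY _ = cY (_ : Y)
    rw [LinearMap.comp_apply, show cY.symm.toLinearMap (x0 v) = E.rangeRestrict v from cY.symm_apply_apply _]
    exact congrArg cY (Subtype.ext (congrArg (fun f : Module.End (ZMod 3) V => f v) tE))
  set T := LinearMap.toMatrix' (cY.toLinearMap.comp
      ((Tu.restrict (p := Y) (q := Y) fun x hx => hTY ⟨x, hx⟩).comp cY.symm.toLinearMap))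
  have hWU : ∀ v, ρ su v = (1 - I + J - I * J) (Tu v) := fun v => by
    rw [hTu, ← Module.End.mul_apply, ← mul_assoc, hIdef, hJdef, W_inv ρ hz, one_mul]
  have hU : ∀ v, e (ρ su v) = (![(T *ᵥ x0 v) 0 + (T *ᵥ x0 (I v)) 0, (T *ᵥ x0 (I v)) 0],
      ![(T *ᵥ x0 v) 1 + (T *ᵥ x0 (I v)) 1, (T *ᵥ x0 (I v)) 1]) := by
    intro v
    have hIT : I (Tu v) = Tu (I v) := congrArg (fun f : Module.End (ZMod 3) V => f v) tI.symm
    have eA : x0 (ρ su v) = T *ᵥ x0 v + T *ᵥ x0 (I v) := by
      rw [hWU]
      simp only [LinearMap.sub_apply, LinearMap.add_apply, Module.End.one_apply, Module.End.mul_apply,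
        map_sub, map_add, x0J, x0K]
      rw [hIT, x0T, x0T]
      abel
    have eB : x0 (I (ρ su v)) = T *ᵥ x0 (I v) := by
      rw [hWU]
      simp only [LinearMap.sub_apply, LinearMap.add_apply, Module.End.one_apply, Module.End.mul_apply,
        map_sub, map_add, map_neg, hI, x0K, x0J]
      rw [hIT, x0T, x0T]
      ext i
      simp only [Pi.add_apply, Pi.sub_apply, Pi.neg_apply]
      ring_nf
      rw [show (3 : ZMod 3) = 0 from rfl]
      simp
    rw [he, eA, eB]
    simp only [Pi.add_apply]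
  have hT : T = 1 := by
    refine orth_tables B hBsym hBdet T ?_ ?_
    · -- order three
      have key : ∀ c : V2, (T * T * T) *ᵥ c = c := by
        intro c
        have h3 : ρ su * ρ su * ρ su = 1 := by
          rw [← map_mul, ← map_mul, show su * su * su = 1 by rw [← conj_rel.2.2.2.2.2, pow_succ, pow_two], map_one]
        obtain ⟨v, hv⟩ := e.surjective (![c 0, 0], ![c 1, 0])
        have h0 : x0 v = c := by
          funext i; fin_cases i
          · exact congrFun (congrArg Prod.fst hv) 0
          · exact congrFun (congrArg Prod.snd hv) 0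
        have h1 : x0 (I v) = 0 := by
          funext i; fin_cases i
          · exact congrFun (congrArg Prod.fst hv) 1
          · exact congrFun (congrArg Prod.snd hv) 1
        have step : ∀ v, x0 (I v) = 0 → x0 (ρ su v) = T *ᵥ x0 v ∧ x0 (I (ρ su v)) = 0 := by
          intro v hv
          have := hU v
          rw [he] at this
          constructor
          · funext i; fin_cases i
            · simpa [hv] using congrFun (congrArg Prod.fst this) 0
            · simpa [hv] using congrFun (congrArg Prod.snd this) 0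
          · funext i; fin_cases i
            · simpa [hv] using congrFun (congrArg Prod.fst this) 1
            · simpa [hv] using congrFun (congrArg Prod.snd this) 1
        obtain ⟨a1, b1⟩ := step v h1
        obtain ⟨a2, b2⟩ := step _ b1
        obtain ⟨a3, -⟩ := step _ b2
        rw [← Module.End.mul_apply, ← Module.End.mul_apply, h3, Module.End.one_apply, a2, a1, h0,
          Matrix.mulVec_mulVec, Matrix.mulVec_mulVec] at a3
        exact a3.symm
      exact Matrix.ext_iff_mulVec.2 fun c => by rw [key, Matrix.one_mulVec]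
    · -- isometry
      ext i j
      obtain ⟨v, hv⟩ := e.surjective (![(st i) 0, 0], ![(st i) 1, 0])
      obtain ⟨w, hw⟩ := e.surjective (![0, (st j) 0], ![0, (st j) 1])
      have h1 := binv su v w
      rw [hform, hform, hv, hw, hU, hU] at h1
      have hv0 : x0 v = st i ∧ x0 (I v) = 0 := by
        constructor <;> funext k <;> fin_cases k
        · exact congrFun (congrArg Prod.fst hv) 0
        · exact congrFun (congrArg Prod.snd hv) 0
        · exact congrFun (congrArg Prod.fst hv) 1
        · exact congrFun (congrArg Prod.snd hv) 1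
      have hw0 : x0 w = 0 ∧ x0 (I w) = st j := by
        constructor <;> funext k <;> fin_cases k
        · exact congrFun (congrArg Prod.fst hw) 0
        · exact congrFun (congrArg Prod.snd hw) 0
        · exact congrFun (congrArg Prod.fst hw) 1
        · exact congrFun (congrArg Prod.snd hw) 1
      rw [hv0.1, hv0.2, hw0.1, hw0.2] at h1
      fin_cases i <;> fin_cases j <;>
        simp [form, det2, st, Matrix.mulVec, dotProduct, Fin.sum_univ_two, Matrix.mul_apply,
          Matrix.transpose_apply] at h1 ⊢ <;>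
        linear_combination h1
  have hactU : ∀ v, e (ρ su v) = act su (e v) := fun v => by
    rw [hU, hT, act, gen_act.2.2, gen_act.2.2, he]
    simp only [Matrix.one_mulVec, Matrix.cons_val_zero, Matrix.cons_val_one]
  refine ⟨e, B, hBsym, hBdet, fun g => ?_, hform⟩
  induction gen_SS g using Subgroup.closure_induction with
  | mem x hx =>
    rcases hx with rfl | rfl | rfl
    · exact hactI
    · exact hactJ
    · exact hactU
  | one => intro v; rw [map_one, act_one]; rfl
  | mul x y _ _ hx hy => intro v; rw [map_mul, Module.End.mul_apply, hx, hy, act_mul]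
  | inv x _ hx =>
    intro v
    have h := hx (ρ x⁻¹ v)
    rw [← Module.End.mul_apply, ← map_mul, mul_inv_cancel, map_one, Module.End.one_apply] at h
    rw [h, ← act_mul, inv_mul_cancel, act_one]

/-- A symmetric invertible form is congruent to the hyperbolic or to an anisotropic one. -/
theorem form_classes : ∀ B : M2, B.transpose = B → B.det ≠ 0 →
    (B.det = 1 ∧ ∀ c : V2, c ≠ 0 → c ⬝ᵥ (B *ᵥ c) ≠ 0) ∨
    ∃ P : M2, P.det ≠ 0 ∧ P.transpose * B * P = !![0, 1; 1, 0] := by decide +kernel

end CfsgLib.L43
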